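import Cfsg.Agent.Lib.J2.Ops

/-!
# The conjugating elements for suborbit 2 are correct
-/

set_option autoImplicit false
set_option maxRecDepth 20000

namespace Cfsg.Agent.JTwo

theorem check_wit2 : ((List.range 1920).all (witOk witT2 2)) = true := by decide +kernel

end Cfsg.Agent.JTwo
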