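import Cfsg.Agent.Lib.J2.ChecksS
import Cfsg.Agent.Lib.J2.ChecksW0
import Cfsg.Agent.Lib.J2.ChecksW1
import Cfsg.Agent.Lib.J2.ChecksW2
import Cfsg.Agent.Lib.J2.ChecksW3
import Cfsg.Agent.Lib.J2.ChecksW4
import Cfsg.Agent.Lib.J2.ChecksW5

/-!
# The group generated by four reflection matrices: order, element orders, simplicity
-/

set_option autoImplicit false

namespace Cfsg.Agent.JTwo

attribute [local irreducible] ev mulP

theorem ev_eq {a b : ℕ} (h : (a == b) = true) : ev a = ev b := by rw [eq_of_beq h]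

theorem range_all {n : ℕ} {p : ℕ → Bool} (h : (List.range n).all p = true) {e : ℕ} (h2 : e < n) : p e = true :=
  List.all_eq_true.1 h e (List.mem_range.2 h2)

/-- A reflection matrix. -/
def S (j : ℕ) : Mat := ev (sP j)

/-- A generator. -/
def G (k : ℕ) : Mat := ev (gP k)

/-- A coset representative. -/
def V (j : ℕ) : Mat := ev (vP j)

/-- An element of the centraliser. -/
def Hm (i : ℕ) : Mat := ev (hP i)

theorem s_spec {j : ℕ} (hj : j < 315) : sBs.find (sP j) = j ∧ S j * S j = 1 ∧ S 0 * V j = V j * S j := by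
  have h := range_all check_s hj
  simp only [sOk, Bool.and_eq_true] at h
  obtain ⟨⟨h1, h2⟩, h3⟩ := h
  refine ⟨eq_of_beq h1, ?_, ?_⟩
  · rw [S, ← ev_mulP, ev_eq h2, ev_oneP]
  · rw [S, V, S, ← ev_mulP, ← ev_mulP, ev_eq h3]

theorem g_eq {k : ℕ} (hk : k < 4) : ∃ j < 315, G k = S j := by
  have h := range_all check_gen hk
  simp only [Bool.and_eq_true, decide_eq_true_eq] at h
  exact ⟨_, h.1, ev_eq h.2⟩

theorem G_mul_self {k : ℕ} (hk : k < 4) : G k * G k = 1 := by
  obtain ⟨j, hj, h⟩ := g_eq hk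
  rw [h, (s_spec hj).2.1]

/-- The monoid generated by the four matrices. -/
def MM : Submonoid Mat := Submonoid.closure {x | ∃ k < 4, x = G k}

theorem G_mem {k : ℕ} (hk : k < 4) : G k ∈ MM := Submonoid.subset_closure ⟨k, hk, rfl⟩

theorem word_mem : ∀ {w : List ℕ}, (∀ k ∈ w, k < 4) → ev (wordP w) ∈ MM := by
  intro w
  induction w with
  | nil => intro _; rw [wordP, ev_oneP]; exact MM.one_mem
  | cons k w ih =>
    intro h
    rw [wordP, ev_mulP]
    exact MM.mul_mem (G_mem (h k (by simp))) (ih fun j hj => h j (List.mem_cons_of_mem _ hj))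

theorem word_reverse : ∀ {w : List ℕ}, (∀ k ∈ w, k < 4) → ev (wordP w) * ev (wordP w.reverse) = 1 := by
  intro w
  have key : ∀ u v : List ℕ, ev (wordP (u ++ v)) = ev (wordP u) * ev (wordP v) := by
    intro u v
    induction u with
    | nil => rw [List.nil_append, wordP, ev_oneP, one_mul]
    | cons k u ih => rw [List.cons_append, wordP, wordP, ev_mulP, ev_mulP, ih, mul_assoc]
  induction w with
  | nil => intro _; rw [List.reverse_nil, wordP, ev_oneP, one_mul]
  | cons k w ih =>
    intro h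
    have hk : ev (wordP [k]) = G k := by rw [wordP, ev_mulP, wordP, ev_oneP, mul_one]; rfl
    rw [List.reverse_cons, key, hk, wordP, ev_mulP, mul_assoc, ← mul_assoc (ev (wordP w)),
      ih fun j hj => h j (List.mem_cons_of_mem _ hj), one_mul]
    exact G_mul_self (h k (by simp))

theorem V_zero : V 0 = 1 := by
  have h := range_all check_v (show 0 < 315 by norm_num)
  simp only [vOk, beq_self_eq_true, cond_true] at h
  rw [V, ev_eq h, ev_oneP]

theorem V_mem {j : ℕ} (hj : j < 315) : V j ∈ MM := by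
  induction hd : vparT.get j / 2048 using Nat.strong_induction_on generalizing j with
  | _ d ih =>
    rcases Nat.eq_zero_or_pos j with rfl | h0
    · rw [V_zero]; exact MM.one_mem
    have h := range_all check_v hj
    simp only [vOk, beq_false_of_ne (Nat.pos_iff_ne_zero.1 h0), cond_false, Bool.and_eq_true, decide_eq_true_eq] at h
    obtain ⟨⟨h1, h2⟩, h3⟩ := h
    rw [V, ← ev_eq h3, ev_mulP]
    exact MM.mul_mem (ih _ (hd ▸ h2) h1 rfl) (G_mem (Nat.mod_lt _ (by norm_num)))

theorem hWords_lt {k : ℕ} (hk : k < 2) : ∀ x ∈ hWords.getD k [], x < 4 := by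
  interval_cases k <;> decide +kernel

theorem h_step {i k : ℕ} (hi : i < 1920) (hk : k < 2) :
    hstepT.get (2 * i + k) < 1920 ∧ Hm i * ev (hgP k) = Hm (hstepT.get (2 * i + k)) := by
  have h := range_all check_h hi
  simp only [hOk, Bool.and_eq_true] at h
  have h2 := range_all h.1.2 hk
  simp only [Bool.and_eq_true, decide_eq_true_eq] at h2
  exact ⟨h2.1, by rw [Hm, Hm, ← ev_mulP, ev_eq h2.2]⟩

theorem h_find {i : ℕ} (hi : i < 1920) : hBs.find (hP i) = i := by
  have h := range_all check_h hi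
  simp only [hOk, Bool.and_eq_true] at h
  exact eq_of_beq h.1.1

theorem Hm_zero : Hm 0 = 1 := by
  have h := range_all check_h (show 0 < 1920 by norm_num)
  simp only [hOk, Bool.and_eq_true, beq_self_eq_true, cond_true] at h
  rw [Hm, ev_eq h.2, ev_oneP]

/-- The monoid generated by the two generators of the centraliser. -/
def HH : Submonoid Mat := Submonoid.closure {x | ∃ k < 2, x = ev (hgP k)}

theorem Hm_mem {i : ℕ} (hi : i < 1920) : Hm i ∈ HH := by
  induction hd : hparT.get i / 4096 using Nat.strong_induction_on generalizing i with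
  | _ d ih =>
    rcases Nat.eq_zero_or_pos i with rfl | h0
    · rw [Hm_zero]; exact HH.one_mem
    have h := range_all check_h hi
    simp only [hOk, beq_false_of_ne (Nat.pos_iff_ne_zero.1 h0), cond_false, Bool.and_eq_true, decide_eq_true_eq,
      beq_iff_eq] at h
    obtain ⟨-, ⟨h1, h2⟩, h3⟩ := h
    have := (h_step h1 (Nat.mod_lt (hparT.get i) (show 2 > 0 by norm_num))).2
    rw [mul_comm (hparT.get i / 2 % 2048) 2] at h3
    rw [h3] at this
    rw [← this]
    exact HH.mul_mem (ih _ (hd ▸ h2) h1 rfl) (Submonoid.subset_closure ⟨_, Nat.mod_lt _ (by norm_num), rfl⟩)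

theorem mem_HH_iff {x : Mat} : x ∈ HH ↔ ∃ i < 1920, x = Hm i := by
  refine ⟨fun hx => ?_, fun ⟨i, hi, h⟩ => h ▸ Hm_mem hi⟩
  induction hx using Submonoid.closure_induction_right with
  | one => exact ⟨0, by norm_num, Hm_zero.symm⟩
  | mul_right x _ y hy ih =>
    obtain ⟨i, hi, rfl⟩ := ih
    obtain ⟨k, hk, rfl⟩ := hy
    obtain ⟨h1, h2⟩ := h_step hi hk
    exact ⟨_, h1, h2⟩

theorem HH_le_MM : HH ≤ MM := Submonoid.closure_le.2 fun _ ⟨_, hk, hx⟩ => hx ▸ word_mem (hWords_lt hk)

theorem HH_comm {x : Mat} (hx : x ∈ HH) : S 0 * x = x * S 0 := by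
  induction hx using Submonoid.closure_induction_right with
  | one => rw [mul_one, one_mul]
  | mul_right x _ y hy ih =>
    obtain ⟨k, hk, rfl⟩ := hy
    have h := range_all check_hg hk
    have h' : S 0 * ev (hgP k) = ev (hgP k) * S 0 := by rw [S, ← ev_mulP, ← ev_mulP, ev_eq h]
    rw [← mul_assoc, ih, mul_assoc, h', mul_assoc]

theorem mem_MM_iff {x : Mat} : x ∈ MM ↔ ∃ i < 1920, ∃ j < 315, x = Hm i * V j := by
  constructor
  · intro hx
    induction hx using Submonoid.closure_induction_right with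
    | one => exact ⟨0, by norm_num, 0, by norm_num, by rw [Hm_zero, V_zero, mul_one]⟩
    | mul_right x _ y hy ih =>
      obtain ⟨i, hi, j, hj, rfl⟩ := ih
      obtain ⟨k, hk, rfl⟩ := hy
      have h := range_all (range_all check_step hj) hk
      simp only [Bool.and_eq_true, decide_eq_true_eq] at h
      obtain ⟨⟨h1, h2⟩, h3⟩ := h
      obtain ⟨l, hl, he⟩ := mem_HH_iff.1 (HH.mul_mem (Hm_mem hi) (Hm_mem h2))
      refine ⟨l, hl, _, h1, ?_⟩
      rw [mul_assoc, V, G, ← ev_mulP, ev_eq h3, ev_mulP, ← mul_assoc]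
      exact congrArg (· * _) he
  · rintro ⟨i, hi, j, hj, rfl⟩
    exact MM.mul_mem (HH_le_MM (Hm_mem hi)) (V_mem hj)

/-- A generator as a unit. -/
def gU (k : Fin 4) : Matˣ := ⟨G k, G k, G_mul_self k.2, G_mul_self k.2⟩

theorem gU_val (k : Fin 4) : ((gU k : Matˣ) : Mat) = G k.1 := rfl

/-- The group generated by the four matrices. -/
def M : Subgroup Matˣ := Subgroup.closure (Set.range gU)

theorem mem_M_iff {x : Matˣ} : x ∈ M ↔ (x : Mat) ∈ MM := by
  constructor
  · intro hx
    induction hx using Subgroup.closure_induction'' with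
    | one => exact MM.one_mem
    | mem x hx => obtain ⟨k, rfl⟩ := hx; exact G_mem k.2
    | inv_mem x hx => obtain ⟨k, rfl⟩ := hx; exact G_mem k.2
    | mul a b _ _ ha hb => exact MM.mul_mem ha hb
  · intro hx
    suffices ∀ y ∈ MM, ∃ u ∈ M, (u : Mat) = y by
      obtain ⟨u, hu, he⟩ := this _ hx
      rwa [← Units.ext he]
    intro y hy
    induction hy using Submonoid.closure_induction_right with
    | one => exact ⟨1, M.one_mem, rfl⟩
    | mul_right x _ y hy ih =>
      obtain ⟨u, hu, rfl⟩ := ih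
      obtain ⟨k, hk, rfl⟩ := hy
      exact ⟨u * gU ⟨k, hk⟩, M.mul_mem hu (Subgroup.subset_closure ⟨_, rfl⟩), rfl⟩

theorem exists_unit {y : Mat} (hy : y ∈ MM) : ∃ u : M, ((u : Matˣ) : Mat) = y := by
  induction hy using Submonoid.closure_induction_right with
  | one => exact ⟨1, rfl⟩
  | mul_right x _ y hy ih =>
    obtain ⟨u, rfl⟩ := ih
    obtain ⟨k, hk, rfl⟩ := hy
    refine ⟨u * ⟨gU ⟨k, hk⟩, Subgroup.subset_closure (Set.mem_range_self _)⟩, ?_⟩
    rw [Subgroup.coe_mul, Units.val_mul]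
    rfl

theorem S_conj {u : M} {j : ℕ} (hj : j < 315) (hu : ((u : Matˣ) : Mat) = V j) :
    ((u⁻¹ : M) : Matˣ).val * S 0 * V j = S j := by
  rw [mul_assoc, (s_spec hj).2.2, ← hu, ← mul_assoc, ← Units.val_mul]
  simp

theorem S_mem {j : ℕ} (hj : j < 315) : S j ∈ MM := by
  obtain ⟨u, hu⟩ := exists_unit (V_mem hj)
  have h0 : S 0 ∈ MM := by
    obtain ⟨l, hl, he⟩ := g_eq (show 0 < 4 by norm_num)
    obtain ⟨w, hw⟩ := exists_unit (V_mem hl)
    have h := (s_spec hl).2.2
    rw [← he, ← hw] at h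
    have : S 0 = (w : Matˣ).val * G 0 * ((w⁻¹ : M) : Matˣ).val := by rw [← h, mul_assoc, ← Units.val_mul]; simp
    rw [this]
    exact MM.mul_mem (MM.mul_mem (hw ▸ V_mem hl) (G_mem (by norm_num))) (mem_M_iff.1 (w⁻¹).2)
  rw [← S_conj hj hu]
  exact MM.mul_mem (MM.mul_mem (mem_M_iff.1 (u⁻¹).2) h0) (V_mem hj)

theorem S_inj {i j : ℕ} (hi : i < 315) (hj : j < 315) (hb : sP i < 2 ^ 144) (hb' : sP j < 2 ^ 144) (h : S i = S j) :
    i = j := by
  rw [← (s_spec hi).1, ← (s_spec hj).1, ev_inj hb hb' h]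

theorem check_bound : ((List.range 315).all fun j => decide (sP j < 2 ^ 144)) = true := by decide +kernel

theorem check_hbound : ((List.range 1920).all fun j => decide (hP j < 2 ^ 144)) = true := by decide +kernel

theorem S_injective {i j : ℕ} (hi : i < 315) (hj : j < 315) (h : S i = S j) : i = j :=
  S_inj hi hj (of_decide_eq_true (range_all check_bound hi :)) (of_decide_eq_true (range_all check_bound hj :)) h

theorem Hm_injective {i j : ℕ} (hi : i < 1920) (hj : j < 1920) (h : Hm i = Hm j) : i = j := by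
  rw [← h_find hi, ← h_find hj,
    ev_inj (of_decide_eq_true (range_all check_hbound hi :)) (of_decide_eq_true (range_all check_hbound hj :)) h]

theorem exists_unit_pair (p : Fin 1920 × Fin 315) : ∃ u : M, ((u : Matˣ) : Mat) = Hm p.1.1 * V p.2.1 :=
  exists_unit (mem_MM_iff.2 ⟨_, p.1.2, _, p.2.2, rfl⟩)

theorem card_M : Nat.card M = 604800 := by
  choose f hf using exists_unit_pair
  have hbij : Function.Bijective f := by
    refine ⟨fun p q hpq => ?_, fun u => ?_⟩
    · have he : Hm p.1 * V p.2 = Hm q.1 * V q.2 := by rw [← hf, ← hf, hpq]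
      have key : ∀ r : Fin 1920 × Fin 315, S 0 * (Hm r.1 * V r.2) = Hm r.1 * V r.2 * S r.2 := fun r => by
        rw [← mul_assoc, HH_comm (Hm_mem r.1.2), mul_assoc, (s_spec r.2.2).2.2, mul_assoc]
      have h2 : p.2 = q.2 := by
        refine Fin.ext (S_injective p.2.2 q.2.2 ?_)
        have h := (key p).symm.trans ((congrArg (S 0 * ·) he).trans (key q))
        rw [← he, ← hf p] at h
        exact (Units.mul_right_inj _).1 h
      obtain ⟨u, hu⟩ := exists_unit (V_mem p.2.2)
      rw [← h2, ← hu] at he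
      exact Prod.ext (Fin.ext (Hm_injective p.1.2 q.1.2 ((Units.mul_left_inj _).1 he))) h2
    · obtain ⟨i, hi, j, hj, he⟩ := mem_MM_iff.1 (mem_M_iff.1 u.2)
      exact ⟨(⟨i, hi⟩, ⟨j, hj⟩), Subtype.ext (Units.ext ((hf _).trans he.symm))⟩
  rw [← Nat.card_congr (Equiv.ofBijective f hbij), Nat.card_prod, Nat.card_fin, Nat.card_fin]

instance : Finite M := Nat.finite_of_card_ne_zero (by rw [card_M]; norm_num)

/-- The table for a suborbit. -/
def witT : ℕ → Tr
  | 0 => witT0 | 1 => witT1 | 2 => witT2 | 3 => witT3 | 4 => witT4 | _ => witT5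

theorem witT_ok {a : ℕ} (ha : a < 6) : ((List.range 1920).all (witOk (witT a) a)) = true := by
  interval_cases a
  exacts [check_wit0, check_wit1, check_wit2, check_wit3, check_wit4, check_wit5]

theorem check_repT : ((List.range 6).all fun a => decide (repT.get a < 315)) = true := by decide +kernel

theorem check_witT : ((List.range 21).all fun c => (List.range 6).any fun a => (List.range 1920).any fun i =>
    (witT a).get i % 32 == c) = true := by decide +kernel

/-- A class representative. -/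
def C (c : ℕ) : Mat := ev (clP c)

theorem exists_conj (x : M) : ∃ c < 21, ∃ k : M, (x : Matˣ).val * (k : Matˣ).val = (k : Matˣ).val * C c := by
  obtain ⟨i, hi, j, hj, hx⟩ := mem_MM_iff.1 (mem_M_iff.1 x.2)
  have h := range_all check_orb hj
  simp only [orbOk, Bool.and_eq_true, decide_eq_true_eq] at h
  obtain ⟨⟨ha, hl⟩, he⟩ := h
  set K := Hm (orbT.get j / 8)
  set r := repT.get (orbT.get j % 8) with hr
  have hKs : K * S r = S j * K := by rw [S, S]; show ev _ * _ = _ * ev _; rw [← ev_mulP, ← ev_mulP, ev_eq he]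
  obtain ⟨Ku, hKu⟩ := exists_unit (HH_le_MM (Hm_mem hl))
  -- the conjugate lies in the coset of the suborbit representative
  set y : M := Ku⁻¹ * x * Ku with hy
  have hyS : S 0 * (y : Matˣ).val = (y : Matˣ).val * S r := by
    have h0 : S 0 * ((Ku⁻¹ : M) : Matˣ).val = ((Ku⁻¹ : M) : Matˣ).val * S 0 := by
      have : Commute (S 0) (Ku : Matˣ).val := by rw [hKu]; exact HH_comm (Hm_mem hl)
      exact (this.units_inv_right :)
    simp only [hy, Subgroup.coe_mul, Units.val_mul]
    rw [← mul_assoc, ← mul_assoc, h0, mul_assoc _ (S 0), hx, ← mul_assoc (S 0), HH_comm (Hm_mem hi), mul_assoc _ (S 0),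
      (s_spec hj).2.2]
    simp only [mul_assoc]
    rw [hKu, hKs]
  have hr315 : r < 315 := of_decide_eq_true (range_all check_repT ha :)
  obtain ⟨l, hl', m, hm, hym⟩ := mem_MM_iff.1 (mem_M_iff.1 y.2)
  obtain rfl : m = r := by
    refine S_injective hm hr315 ((Units.mul_right_inj (y : Matˣ)).1 ?_)
    rw [← hyS, hym, ← mul_assoc, HH_comm (Hm_mem hl'), mul_assoc _ (S 0), (s_spec hm).2.2, mul_assoc]
  have h := range_all (witT_ok ha) hl'
  simp only [witOk, Bool.and_eq_true, decide_eq_true_eq] at h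
  obtain ⟨⟨⟨hc, hj'⟩, hl2⟩, he⟩ := h
  set k0 := (witT (orbT.get j % 8)).get l
  obtain ⟨k, hk⟩ := exists_unit (MM.mul_mem (HH_le_MM (Hm_mem hl2)) (V_mem hj'))
  have h2 : (y : Matˣ).val * (k : Matˣ).val = (k : Matˣ).val * C (k0 % 32) := by
    rw [hym, hk, C, Hm, V, Hm, V, ← ev_mulP, ← ev_mulP, ← ev_mulP, ← ev_mulP, ev_eq he]
  refine ⟨_, hc, Ku * k, ?_⟩
  simp only [hy, Subgroup.coe_mul, Units.val_mul] at h2 ⊢
  rw [← mul_assoc, ← one_mul ((x : Matˣ).val * (Ku : Matˣ).val), ← (Ku : Matˣ).mul_inv, mul_assoc (Ku : Matˣ).val,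
    mul_assoc (Ku : Matˣ).val, mul_assoc (Ku : Matˣ).val, ← h2]
  simp only [Subgroup.coe_inv, mul_assoc]

theorem C_unit {c : ℕ} (hc : c < 21) : ∃ u : M, ((u : Matˣ) : Mat) = C c := by
  have hm : ∀ c < 21, ∃ x : M, ∃ k : M, (x : Matˣ).val * (k : Matˣ).val = (k : Matˣ).val * C c := by
    intro c hc
    obtain ⟨a, ha, i, hi, h⟩ : ∃ a < 6, ∃ i < 1920, (witT a).get i % 32 = c := by
      have := range_all check_witT hc
      simp only [List.any_eq_true, List.mem_range, beq_iff_eq] at this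
      exact this
    have hh := range_all (witT_ok ha) hi
    simp only [witOk, Bool.and_eq_true, decide_eq_true_eq] at hh
    obtain ⟨⟨⟨-, hj'⟩, hl2⟩, he⟩ := hh
    have hr315 : repT.get a < 315 := of_decide_eq_true (range_all check_repT ha :)
    obtain ⟨x, hx⟩ := exists_unit (MM.mul_mem (HH_le_MM (Hm_mem hi)) (V_mem hr315))
    obtain ⟨k, hk⟩ := exists_unit (MM.mul_mem (HH_le_MM (Hm_mem hl2)) (V_mem hj'))
    refine ⟨x, k, ?_⟩
    rw [hx, hk, C, Hm, V, Hm, V, ← ev_mulP, ← ev_mulP, ← ev_mulP, ← ev_mulP, ev_eq he, h]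
  obtain ⟨x, k, h⟩ := hm c hc
  refine ⟨k⁻¹ * x * k, ?_⟩
  simp only [Subgroup.coe_mul, Units.val_mul, mul_assoc, h]
  rw [← mul_assoc]
  simp

theorem powP_ev (a : ℕ) : ∀ n, ev (powP a n) = ev a ^ n
  | 0 => by rw [powP, ev_oneP, pow_zero]
  | n + 1 => by rw [powP, ev_mulP, powP_ev a n, pow_succ]

theorem powP_lt (a : ℕ) (ha : a < 2 ^ 144) : ∀ n, powP a n < 2 ^ 144 := by
  intro n
  induction n with
  | zero => show oneP < 2 ^ 144; decide +kernel
  | succ n ih => exact mulP_lt _ _

theorem orderOf_C {c : ℕ} (hc : c < 21) {u : M} (hu : ((u : Matˣ) : Mat) = C c) : orderOf u = ordT.get c := by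
  have h := range_all check_ord hc
  simp only [ordOk, Bool.and_eq_true, decide_eq_true_eq] at h
  obtain ⟨⟨h0, h1⟩, h2⟩ := h
  have hinj : ∀ m, u ^ m = 1 ↔ C c ^ m = 1 := fun m => by
    rw [← hu, ← Units.val_pow_eq_pow_val, ← SubmonoidClass.coe_pow, Units.val_eq_one, OneMemClass.coe_eq_one]
  refine (orderOf_eq_iff h0).2 ⟨(hinj _).2 (by rw [C, ← powP_ev, ev_eq h1, ev_oneP]), fun m hm hpos he => ?_⟩
  have h3 := range_all h2 hm
  have hcb : clP c < 2 ^ 144 := by
    have : ((List.range 21).all fun c => decide (clP c < 2 ^ 144)) = true := by decide +kernel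
    exact of_decide_eq_true (range_all this hc :)
  have he' := ev_inj (powP_lt _ hcb m) (by decide +kernel) (((powP_ev _ m).trans ((hinj m).1 he)).trans ev_oneP.symm)
  simp [he', Nat.pos_iff_ne_zero.1 hpos] at h3

theorem range_orderOf : Set.range (orderOf : M → ℕ) = {1, 2, 3, 4, 5, 6, 7, 8, 10, 12, 15} := by
  ext n
  constructor
  · rintro ⟨x, rfl⟩
    obtain ⟨c, hc, k, hk⟩ := exists_conj x
    obtain ⟨u, hu⟩ := C_unit hc
    have he : x = k * u * k⁻¹ := by
      rw [← hu] at hk
      rw [eq_mul_inv_iff_mul_eq]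
      exact Subtype.ext (Units.ext hk)
    rw [he, ← MulAut.conj_apply, MulEquiv.orderOf_eq, orderOf_C hc hu]
    interval_cases c <;> decide +kernel
  · intro hn
    obtain ⟨c, hc, rfl⟩ : ∃ c < 21, ordT.get c = n := by
      simp only [Set.mem_insert_iff, Set.mem_singleton_iff] at hn
      rcases hn with rfl | rfl | rfl | rfl | rfl | rfl | rfl | rfl | rfl | rfl | rfl <;> decide +kernel
    obtain ⟨u, hu⟩ := C_unit hc
    exact ⟨u, orderOf_C hc hu⟩

theorem check_center : ((List.range 21).all fun c => c == 0 ||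
    (List.range 4).any fun k => !(mulP (clP c) (gP k) == mulP (gP k) (clP c))) = true := by decide +kernel

theorem eq_one_of_central (x : M) (h : ∀ k < 4, (x : Matˣ).val * G k = G k * (x : Matˣ).val) : x = 1 := by
  obtain ⟨c, hc, k, hk⟩ := exists_conj x
  have hz : ∀ y ∈ MM, Commute (x : Matˣ).val y := by
    intro y hy
    induction hy using Submonoid.closure_induction with
    | mem y hy => obtain ⟨i, hi, rfl⟩ := hy; exact h i hi
    | one => exact Commute.one_right _
    | mul a b _ _ ha hb => exact ha.mul_right hb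
  have hx : (x : Matˣ).val = C c := by
    rw [(hz _ (mem_M_iff.1 k.2)).eq] at hk
    exact (Units.mul_right_inj _).1 hk
  by_cases hc0 : c = 0
  · subst hc0
    have h1 : C 0 = 1 := (congrArg ev (show clP 0 = oneP by decide +kernel)).trans ev_oneP
    exact Subtype.ext (Units.ext (hx.trans h1))
  have := range_all check_center hc
  simp only [beq_false_of_ne hc0, Bool.false_or, List.any_eq_true, List.mem_range, Bool.not_eq_true',
    beq_eq_false_iff_ne, ne_eq] at this
  obtain ⟨i, hi, hne⟩ := this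
  refine absurd (ev_inj (mulP_lt _ _) (mulP_lt _ _) ?_) hne
  rw [ev_mulP, ev_mulP]
  have h' := h i hi
  rw [hx] at h'
  exact h'

end Cfsg.Agent.JTwo
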