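import Cfsg.Agent.Lib.J2.Packed

/-!
# Conjugating elements, part 0
-/

set_option autoImplicit false
set_option maxRecDepth 10000

namespace Cfsg.Agent.JTwo

/-- Part of the table `witT0`. -/
def witT0_aaaaa : Tr := .node (.node (.node (.node (.node (.node (.leaf 0) (.leaf 31014921)) (.node (.leaf 3311687) (.leaf 2535))) (.node (.node (.leaf 30064643) (.leaf 6)) (.node (.leaf 18913510) (.leaf 25690113)))) (.node (.node (.node (.leaf 13910402) (.leaf 18399618)) (.node (.leaf 16400394) (.leaf 12255242))) (.node (.node (.leaf 851971) (.leaf 11370500)) (.leaf 29376513)))) (.node (.node (.node (.node (.leaf 5537793) (.leaf 16154625)) (.node (.leaf 4571137) (.leaf 11174050))) (.node (.node (.leaf 19768938) (.leaf 18595841)) (.node (.leaf 12533761) (.leaf 16023553)))) (.node (.node (.node (.leaf 20905985) (.leaf 26165251)) (.node (.leaf 15993542) (.leaf 19024587))) (.node (.node (.leaf 31244298) (.leaf 11763715)) (.leaf 3948545))))) (.node (.node (.node (.node (.node (.leaf 12910593) (.leaf 20915818)) (.node (.leaf 21495812) (.leaf 7749642))) (.node (.node (.leaf 8143594) (.leaf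 13221892)) (.node (.leaf 9209927) (.leaf 14843913)))) (.node (.node (.node (.leaf 29900803) (.leaf 29343753)) (.node (.leaf 29196292) (.leaf 11))) (.node (.node (.leaf 29523969) (.leaf 23438917)) (.leaf 30064649)))) (.node (.node (.node (.node (.leaf 27787268) (.leaf 11520102)) (.node (.leaf 12733288) (.leaf 15492424))) (.node (.node (.leaf 29877576) (.leaf 6641259)) (.node (.leaf 31368199) (.leaf 31017832)))) (.node (.node (.node (.leaf 15138819) (.leaf 3261258)) (.node (.leaf 409604) (.leaf 27705345))) (.node (.node (.leaf 29016067) (.leaf 25493505)) (.leaf 13025289)))))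

/-- Part of the table `witT0`. -/
def witT0_aaaab : Tr := .node (.node (.node (.node (.node (.node (.leaf 18432007) (.leaf 13303812)) (.node (.leaf 19710338) (.leaf 15943751))) (.node (.node (.leaf 14368769) (.leaf 7389193)) (.node (.leaf 1458180) (.leaf 4482826)))) (.node (.node (.node (.leaf 6848515) (.leaf 24815370)) (.node (.leaf 11438792) (.leaf 9994))) (.node (.node (.leaf 15869546) (.leaf 25116680)) (.leaf 19709959)))) (.node (.node (.node (.node (.leaf 9125889) (.leaf 4279142)) (.node (.leaf 18939914) (.leaf 18407975))) (.node (.node (.leaf 7946986) (.leaf 5701641)) (.node (.leaf 12919335) (.leaf 28114953)))) (.node (.node (.node (.leaf 27993866) (.leaf 27796808)) (.node (.leaf 2760) (.leaf 5444486))) (.node (.node (.leaf 3588098) (.leaf 22980362)) (.leaf 16613379))))) (.node (.node (.node (.node (.node (.leaf 18948647) (.leaf 19621192)) (.node (.leaf 20398084) (.leaf 6297067))) (.node (.node (.leaf 22855681) (.leaf 29861442)) (.node (.leaf 27993706) (.leaf 2731)))) (.node (.node (.node (.leaf 31326370) (.leaf 10223778)) (.node (.leaf 19644417) (.leaf 24477700)))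 (.node (.node (.leaf 23602754) (.leaf 19616646)) (.leaf 27060002)))) (.node (.node (.node (.node (.leaf 22069255) (.leaf 27885571)) (.node (.leaf 28016649) (.leaf 3015402))) (.node (.node (.leaf 29573124) (.leaf 10125698)) (.node (.leaf 15695880) (.leaf 11241959)))) (.node (.node (.node (.leaf 23265281) (.leaf 11173891)) (.node (.leaf 12730372) (.leaf 17039361))) (.node (.node (.leaf 8339746) (.leaf 23593122)) (.leaf 27639809)))))

/-- Part of the table `witT0`. -/
def witT0_aaaa : Tr := .node witT0_aaaaa witT0_aaaab

/-- Part of the table `witT0`. -/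
def witT0_aaaba : Tr := .node (.node (.node (.node (.node (.node (.leaf 14746346) (.leaf 21798987)) (.node (.leaf 2811458) (.leaf 8077315))) (.node (.node (.leaf 6619394) (.leaf 9227)) (.node (.leaf 31047689) (.leaf 3761480)))) (.node (.node (.node (.leaf 21432843) (.leaf 7603851)) (.node (.leaf 7421961) (.leaf 9076740))) (.node (.node (.leaf 2467594) (.leaf 7782401)) (.leaf 18808833)))) (.node (.node (.node (.node (.leaf 22864903) (.leaf 18432003)) (.node (.leaf 11183882) (.leaf 26689546))) (.node (.node (.leaf 18605063) (.leaf 7602184)) (.node (.leaf 30654468) (.leaf 22429699)))) (.node (.node (.node (.leaf 14107010) (.leaf 26239019)) (.node (.leaf 11584234) (.leaf 12206083))) (.node (.node (.leaf 29523971) (.leaf 4760902)) (.leaf 1638402))))) (.node (.node (.node (.node (.node (.leaf 21973479) (.leaf 9701863)) (.node (.leaf 2549354) (.leaf 10125313))) (.node (.node (.leaf 6537225) (.leaf 17974090)) (.node (.leaf 24215559) (.leaf 4980745)))) (.node (.node (.node (.leaf 18792451) (.leaf 19070983)) (.node (.leaf 933897) (.leaf 23602406))) (.node (.node (.leaf 2181222)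 (.leaf 10275526)) (.leaf 5537796)))) (.node (.node (.node (.node (.leaf 9446) (.leaf 2539810)) (.node (.leaf 2802410) (.leaf 6210378))) (.node (.node (.leaf 30057479) (.leaf 6848521)) (.node (.leaf 6455299) (.leaf 19070985)))) (.node (.node (.node (.leaf 20480002) (.leaf 11101962)) (.node (.leaf 3220808) (.leaf 9437185))) (.node (.node (.leaf 3679239) (.leaf 25922248)) (.leaf 22439240)))))

/-- Part of the table `witT0`. -/
def witT0_aaabb : Tr := .node (.node (.node (.node (.node (.node (.leaf 25453286) (.leaf 29868042)) (.node (.leaf 19638026) (.leaf 8617986))) (.node (.node (.leaf 18612233) (.leaf 11180619)) (.node (.leaf 22369158) (.leaf 23379976)))) (.node (.node (.node (.leaf 30040615) (.leaf 20997448)) (.node (.leaf 2327274) (.leaf 25381579))) (.node (.node (.leaf 12255240) (.leaf 28049409)) (.leaf 27591402)))) (.node (.node (.node (.node (.leaf 31312584) (.leaf 27869193)) (.node (.leaf 19752714) (.leaf 3588100))) (.node (.node (.leaf 622601) (.leaf 2802506)) (.node (.leaf 28239176) (.leaf 7602186)))) (.node (.node (.node (.leaf 11921002) (.leaf 6225923)) (.node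 (.leaf 30641000) (.leaf 11927561))) (.node (.node (.leaf 15695873) (.leaf 12730754)) (.leaf 30081028))))) (.node (.node (.node (.node (.node (.leaf 3001192) (.leaf 28114951)) (.node (.leaf 17088521) (.leaf 8774663))) (.node (.node (.leaf 24372842) (.leaf 7389187)) (.node (.leaf 30123718) (.leaf 12323303)))) (.node (.node (.node (.leaf 15206283) (.leaf 11173889)) (.node (.leaf 8562282) (.leaf 23429124))) (.node (.node (.leaf 26985194) (.leaf 14853898)) (.leaf 16845672)))) (.node (.node (.node (.node (.leaf 13222146) (.leaf 25807560)) (.node (.leaf 18808842) (.leaf 9456139))) (.node (.node (.leaf 26591241) (.leaf 10633225)) (.node (.leaf 9456326) (.leaf 409609)))) (.node (.node (.node (.leaf 13303811) (.leaf 6219370)) (.node (.leaf 22743912) (.leaf 25460745))) (.node (.node (.leaf 19628042) (.leaf 10092546)) (.leaf 29771847)))))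

/-- Part of the table `witT0`. -/
def witT0_aaab : Tr := .node witT0_aaaba witT0_aaabb

/-- Part of the table `witT0`. -/
def witT0_aaa : Tr := .node witT0_aaaa witT0_aaab

/-- Part of the table `witT0`. -/
def witT0_aabaa : Tr := .node (.node (.node (.node (.node (.node (.leaf 30031876) (.leaf 17801767)) (.node (.leaf 19400775) (.leaf 16891905))) (.node (.node (.leaf 28885738) (.leaf 30804678)) (.node (.leaf 22020097) (.leaf 26366630)))) (.node (.node (.node (.leaf 29704938) (.leaf 11763721)) (.node (.leaf 7749635) (.leaf 24625153))) (.node (.node (.leaf 133) (.leaf 24298314)) (.leaf 11091977)))) (.node (.node (.node (.node (.leaf 20594689) (.leaf 18612227)) (.node (.leaf 24609514) (.leaf 24487690))) (.node (.node (.leaf 3325961) (.leaf 26355306)) (.node (.leaf 9895939) (.leaf 8743)))) (.node (.node (.node (.leaf 8747) (.leaf 20236359)) (.node (.leaf 4072680) (.leaf 4950503))) (.node (.node (.leaf 27639817) (.leaf 30588929)) (.leaf 4325379))))) (.node (.node (.node (.node (.node (.leaf 21496554) (.leaf 29336808)) (.node (.leaf 20644002) (.leaf 6455297))) (.node (.node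 (.leaf 3670019) (.leaf 11035880)) (.node (.leaf 2041450) (.leaf 20054017)))) (.node (.node (.node (.leaf 3883266) (.leaf 25935873)) (.node (.leaf 8342376) (.leaf 4047690))) (.node (.node (.leaf 18432004) (.leaf 165)) (.leaf 22790153)))) (.node (.node (.node (.node (.leaf 9835) (.leaf 26132489)) (.node (.leaf 25493794) (.leaf 23595720))) (.node (.node (.leaf 6654664) (.leaf 7012514)) (.node (.leaf 29868033) (.leaf 8617987)))) (.node (.node (.node (.leaf 31047683) (.leaf 3096579)) (.node (.leaf 28737539) (.leaf 22364163))) (.node (.node (.leaf 11527496) (.leaf 19824643)) (.leaf 23479114)))))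

/-- Part of the table `witT0`. -/
def witT0_aabab : Tr := .node (.node (.node (.node (.node (.node (.leaf 2811498) (.leaf 21128970)) (.node (.leaf 7029482) (.leaf 31277060))) (.node (.node (.leaf 2097155) (.leaf 17858569)) (.node (.leaf 3670025) (.leaf 25116675)))) (.node (.node (.node (.leaf 5079041) (.leaf 7612010)) (.node (.leaf 15089673) (.leaf 18055172))) (.node (.node (.leaf 20168705) (.leaf 17793034)) (.leaf 30572548)))) (.node (.node (.node (.node (.leaf 10741515) (.leaf 23905098)) (.node (.leaf 6333768) (.leaf 5128199))) (.node (.node (.leaf 6963362) (.leaf 26601066)) (.node (.leaf 9895945) (.leaf 10950886)))) (.node (.node (.node (.leaf 3672135) (.leaf 23913479)) (.node (.leaf 23625738) (.leaf 24806122))) (.node (.node (.leaf 30572553) (.leaf 27639811)) (.leaf 15745025))))) (.node (.node (.node (.node (.node (.leaf 11927560) (.leaf 24903683)) (.node (.leaf 24477704) (.leaf 5128193))) (.node (.node (.leaf 28878150) (.leaf 20318279)) (.node (.leaf 18382851) (.leaf 4980739)))) (.node (.node (.node (.leaf 28786691) (.leaf 3883017)) (.node (.leaf 11659042) (.leaf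 933891))) (.node (.node (.leaf 28871143) (.leaf 26492929)) (.leaf 6209540)))) (.node (.node (.node (.node (.leaf 10521448) (.leaf 16896902)) (.node (.leaf 7831556) (.leaf 10095464))) (.node (.node (.leaf 6635530) (.leaf 12320777)) (.node (.leaf 14369514) (.leaf 4325385)))) (.node (.node (.node (.leaf 14748520) (.leaf 20480009)) (.node (.leaf 18481153) (.leaf 19752264))) (.node (.node (.leaf 17679082) (.leaf 19709953)) (.leaf 8344454)))))

/-- Part of the table `witT0`. -/
def witT0_aaba : Tr := .node witT0_aabaa witT0_aabab

/-- Part of the table `witT0`. -/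
def witT0_aabba : Tr := .node (.node (.node (.node (.node (.node (.leaf 6750218) (.leaf 3883298)) (.node (.leaf 29861642) (.leaf 25591809))) (.node (.node (.leaf 17278730) (.leaf 27639812)) (.node (.leaf 24487530) (.leaf 27792427)))) (.node (.node (.node (.leaf 11927559) (.leaf 8562442)) (.node (.leaf 22684486) (.leaf 18154314))) (.node (.node (.leaf 27983880) (.leaf 23166977)) (.leaf 720899)))) (.node (.node (.node (.node (.leaf 2883588) (.leaf 15705666)) (.node (.leaf 18939911) (.leaf 6235914))) (.node (.node (.leaf 26345473) (.leaf 4646120)) (.node (.leaf 20037639) (.leaf 1786602)))) (.node (.node (.node (.leaf 19644419) (.leaf 1991207)) (.node (.leaf 933892) (.leaf 19628041))) (.node (.node (.leaf 18598375) (.leaf 18039530)) (.leaf 10469538))))) (.node (.node (.node (.node (.node (.leaf 25755658) (.leaf 3933002)) (.node (.leaf 19300361) (.leaf 24772612))) (.node (.node (.leaf 10413834) (.leaf 28868617)) (.node (.leaf 30064641) (.leaf 18382857)))) (.node (.node (.node (.leaf 29854183) (.leaf 11535082)) (.node (.leaf 28878442) (.leaf 15204353))) (.node (.node (.leaf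 26132484) (.leaf 20480004)) (.leaf 24585994)))) (.node (.node (.node (.node (.leaf 6301000) (.leaf 8568841)) (.node (.leaf 10387457) (.leaf 27983876))) (.node (.node (.leaf 20400840) (.leaf 20038474)) (.node (.leaf 2883585) (.leaf 16138986)))) (.node (.node (.node (.leaf 30916611) (.leaf 25968649)) (.node (.leaf 23602183) (.leaf 23592968))) (.node (.node (.leaf 25133898) (.leaf 1458922)) (.leaf 31049799)))))

/-- Part of the table `witT0`. -/
def witT0_aabbb : Tr := .node (.node (.node (.node (.node (.node (.leaf 28878152) (.leaf 15138823)) (.node (.leaf 11453258) (.leaf 29851650))) (.node (.node (.leaf 20407914) (.leaf 16629922)) (.node (.leaf 20677450) (.leaf 8077316)))) (.node (.node (.node (.leaf 9912321) (.leaf 31318567)) (.node (.leaf 16154628) (.leaf 25968644))) (.node (.node (.leaf 4819816) (.leaf 28786697)) (.leaf 28901379)))) (.node (.node (.node (.node (.leaf 5177348) (.leaf 13025287)) (.node (.leaf 15901928) (.leaf 20365315))) (.node (.node (.leaf 9013960) (.leaf 29720962)) (.node (.leaf 29523972) (.leaf 3712578)))) (.node (.node (.node (.leaf 11717095) (.leaf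 21331969)) (.node (.leaf 6291463) (.leaf 5128196))) (.node (.node (.leaf 30311146) (.leaf 11813706)) (.leaf 22751010))))) (.node (.node (.node (.node (.node (.leaf 7028737) (.leaf 6359142)) (.node (.leaf 18940162) (.leaf 22429697))) (.node (.node (.leaf 5079043) (.leaf 17688330)) (.node (.leaf 22429705) (.leaf 26345475)))) (.node (.node (.node (.leaf 6636266) (.leaf 28377250)) (.node (.leaf 9895940) (.leaf 7834054))) (.node (.node (.leaf 13337418) (.leaf 31057674)) (.leaf 10125315)))) (.node (.node (.node (.node (.leaf 11720299) (.leaf 19890186)) (.node (.leaf 6071914) (.leaf 6333672))) (.node (.node (.leaf 24085322) (.leaf 27206984)) (.node (.leaf 27869188) (.leaf 30867459)))) (.node (.node (.node (.leaf 2097161) (.leaf 2179075)) (.node (.leaf 8349290) (.leaf 26689540))) (.node (.node (.leaf 10741354) (.leaf 9682948)) (.leaf 3883011)))))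

/-- Part of the table `witT0`. -/
def witT0_aabb : Tr := .node witT0_aabba witT0_aabbb

/-- Part of the table `witT0`. -/
def witT0_aab : Tr := .node witT0_aaba witT0_aabb

/-- Part of the table `witT0`. -/
def witT0_aa : Tr := .node witT0_aaa witT0_aab

/-- Part of the table `witT0`. -/
def witT0_abaaa : Tr := .node (.node (.node (.node (.node (.node (.leaf 11575847) (.leaf 26895592)) (.node (.leaf 19890178) (.leaf 24806187))) (.node (.node (.leaf 29097993) (.leaf 10059)) (.node (.leaf 24887300) (.leaf 18481155)))) (.node (.node (.node (.leaf 21495809) (.leaf 30064642)) (.node (.leaf 23599334) (.leaf 23595880))) (.node (.node (.leaf 19824641) (.leaf 22691843)) (.leaf 25116682)))) (.node (.node (.node (.node (.leaf 28049415) (.leaf 7768551)) (.node (.leaf 22795142) (.leaf 3310314))) (.node (.node (.leaf 27984618) (.leaf 16187393)) (.node (.leaf 23592970) (.leaf 26607619)))) (.node (.node (.node (.leaf 2) (.leaf 5030146)) (.node (.leaf 17498121) (.leaf 29900804))) (.node (.node (.leaf 22691844) (.leaf 15272808)) (.leaf 25503338))))) (.node (.node (.node (.node (.node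 (.leaf 29573121) (.leaf 8077313)) (.node (.leaf 22069250) (.leaf 17679115))) (.node (.node (.leaf 11206665) (.leaf 17793033)) (.node (.leaf 12255235) (.leaf 26231042)))) (.node (.node (.node (.leaf 15991626) (.leaf 11173896)) (.node (.leaf 10741514) (.leaf 3670020))) (.node (.node (.leaf 20037635) (.leaf 18579465)) (.leaf 13673190)))) (.node (.node (.node (.node (.leaf 12238849) (.leaf 5570569)) (.node (.leaf 29851651) (.leaf 23291682))) (.node (.node (.leaf 18399242) (.leaf 23904259)) (.node (.leaf 7749641) (.leaf 30031873)))) (.node (.node (.node (.leaf 30916617) (.leaf 12894212)) (.node (.leaf 28901384) (.leaf 6225929))) (.node (.node (.leaf 26951690) (.leaf 11527946)) (.leaf 19070979)))))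

/-- Part of the table `witT0`. -/
def witT0_abaab : Tr := .node (.node (.node (.node (.node (.node (.leaf 25381574) (.leaf 29861482)) (.node (.leaf 6326343) (.leaf 9453569))) (.node (.node (.leaf 10814186) (.leaf 13516809)) (.node (.leaf 3883018) (.leaf 20496393)))) (.node (.node (.node (.leaf 23593250) (.leaf 3506179)) (.node (.leaf 3950663) (.leaf 4456451))) (.node (.node (.leaf 5538050) (.leaf 29769732)) (.leaf 13910858)))) (.node (.node (.node (.node (.leaf 11452420) (.leaf 10619752)) (.node (.leaf 21897767) (.leaf 8866664))) (.node (.node (.leaf 13173578) (.leaf 14745609)) (.node (.leaf 17097255) (.leaf 26640385)))) (.node (.node (.node (.leaf 3588842) (.leaf 29097985)) (.node (.leaf 9894) (.leaf 14745607))) (.node (.node (.leaf 27213825) (.leaf 16400392)) (.leaf 1172487))))) (.node (.node (.node (.node (.node (.leaf 4350503) (.leaf 29336806)) (.node (.leaf 17475338) (.leaf 26592074))) (.node (.node (.leaf 3720010) (.leaf 16613385)) (.node (.leaf 25690954) (.leaf 21299204)))) (.node (.node (.node (.leaf 15663113) (.leaf 19709961)) (.node (.leaf 2811658) (.leaf 13224648)))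 (.node (.node (.leaf 27885572) (.leaf 22301159)) (.leaf 21381866)))) (.node (.node (.node (.node (.leaf 30064644) (.leaf 23631467)) (.node (.leaf 16901448) (.leaf 8339460))) (.node (.node (.leaf 8618826) (.leaf 14377511)) (.node (.leaf 25935876) (.leaf 3178499)))) (.node (.node (.node (.leaf 30155783) (.leaf 6520833)) (.node (.leaf 5547240) (.leaf 9453571))) (.node (.node (.leaf 18909671) (.leaf 30041866)) (.leaf 11173895)))))

/-- Part of the table `witT0`. -/
def witT0_abaa : Tr := .node witT0_abaaa witT0_abaab

/-- Part of the table `witT0`. -/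
def witT0_ababa : Tr := .node (.node (.node (.node (.node (.node (.leaf 28911370) (.leaf 15999718)) (.node (.leaf 10387465) (.leaf 26346218))) (.node (.node (.leaf 3892902) (.leaf 10403847)) (.node (.leaf 5089034) (.leaf 19890179)))) (.node (.node (.node (.leaf 28117675) (.leaf 23437863)) (.node (.leaf 26911976) (.leaf 21072744))) (.node (.node (.leaf 17956868) (.leaf 976650)) (.leaf 17795143)))) (.node (.node (.node (.node (.leaf 12255233) (.leaf 4152811)) (.node (.leaf 8339457) (.leaf 23536167))) (.node (.node (.leaf 26348232) (.leaf 7602177)) (.node (.leaf 16826378) (.leaf 22347777)))) (.node (.node (.node (.leaf 24576004) (.leaf 28370698)) (.node (.leaf 19709962) (.leaf 11026594))) (.node (.node (.leaf 30818690) (.leaf 18613066)) (.leaf 10665985))))) (.node (.node (.node (.node (.node (.leaf 29115210) (.leaf 1064963)) (.node (.leaf 25116676) (.leaf 11933323))) (.node (.node (.leaf 20038378) (.leaf 12320771)) (.node (.leaf 16712426) (.leaf 20407303)))) (.node (.node (.node (.leaf 11517960) (.leaf 19146056)) (.node (.leaf 23625731) (.leaf 28033866))) (.node (.node (.leaf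 5) (.leaf 14221570)) (.leaf 10731528)))) (.node (.node (.node (.node (.leaf 24363012) (.leaf 25765542)) (.node (.leaf 7840295) (.leaf 27869185))) (.node (.node (.leaf 22127848) (.leaf 7766019)) (.node (.leaf 2444136) (.leaf 8912899)))) (.node (.node (.node (.leaf 11462410) (.leaf 15656554)) (.node (.leaf 4571140) (.leaf 15728649))) (.node (.node (.leaf 13468490) (.leaf 1)) (.leaf 23602794)))))

/-- Part of the table `witT0`. -/
def witT0_ababb : Tr := .node (.node (.node (.node (.node (.node (.leaf 10577128) (.leaf 8113000)) (.node (.leaf 14073860) (.leaf 9682947))) (.node (.node (.leaf 10813441) (.leaf 18481156)) (.node (.leaf 26945314) (.leaf 28049411)))) (.node (.node (.node (.leaf 12880744) (.leaf 11674631)) (.node (.leaf 17678337) (.leaf 30958920))) (.node (.node (.leaf 30451266) (.leaf 811)) (.leaf 19048202)))) (.node (.node (.node (.node (.leaf 27986022) (.leaf 4967272)) (.node (.leaf 6635528) (.leaf 12518218))) (.node (.node (.leaf 14843905) (.leaf 26692296)) (.node (.leaf 2212586) (.leaf 31303434)))) (.node (.node (.node (.leaf 21791562) (.leaf 8201834)) (.node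 (.leaf 5982279) (.leaf 19890185))) (.node (.node (.leaf 27993669) (.leaf 26869770)) (.leaf 28016650))))) (.node (.node (.node (.node (.node (.leaf 6301450) (.leaf 19866631)) (.node (.leaf 12484609) (.leaf 23658499))) (.node (.node (.leaf 7153418) (.leaf 26001412)) (.node (.leaf 27787272) (.leaf 15532036)))) (.node (.node (.node (.leaf 31069707) (.leaf 27983875)) (.node (.leaf 11520071) (.leaf 24478538))) (.node (.node (.leaf 20643844) (.leaf 27869187)) (.leaf 31408939)))) (.node (.node (.node (.node (.leaf 2801668) (.leaf 17235969)) (.node (.leaf 27895494) (.leaf 11173890))) (.node (.node (.leaf 22069506) (.leaf 16828939)) (.node (.leaf 24576001) (.leaf 23593802)))) (.node (.node (.node (.leaf 24510850) (.leaf 22708227)) (.node (.leaf 1163267) (.leaf 22252392))) (.node (.node (.leaf 13460712) (.leaf 8005386)) (.leaf 25945355)))))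

/-- Part of the table `witT0`. -/
def witT0_abab : Tr := .node witT0_ababa witT0_ababb

/-- Part of the table `witT0`. -/
def witT0_aba : Tr := .node witT0_abaa witT0_abab

/-- Part of the table `witT0`. -/
def witT0_abbaa : Tr := .node (.node (.node (.node (.node (.node (.leaf 28534088) (.leaf 10125321)) (.node (.leaf 4587521) (.leaf 13228779))) (.node (.node (.leaf 26699370) (.leaf 14043848)) (.node (.leaf 8934) (.leaf 10093386)))) (.node (.node (.node (.leaf 993034) (.leaf 933890)) (.node (.leaf 27894311) (.leaf 13516804))) (.node (.node (.leaf 12206081) (.leaf 29337354)) (.leaf 4774)))) (.node (.node (.node (.node (.leaf 5947396) (.leaf 9463083)) (.node (.leaf 15993704) (.leaf 18584230))) (.node (.node (.leaf 24887297) (.leaf 10665987)) (.node (.leaf 4980740) (.leaf 3325956)))) (.node (.node (.node (.leaf 16367620) (.leaf 11927555)) (.node (.leaf 23855112) (.leaf 11173898))) (.node (.node (.leaf 15696618) (.leaf 19892936)) (.leaf 2245354))))) (.node (.node (.node (.node (.node (.leaf 26689537) (.leaf 20037641)) (.node (.leaf 20595434) (.leaf 16826372))) (.node (.node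 (.leaf 19890177) (.leaf 3440641)) (.node (.leaf 27518730) (.leaf 20037642)))) (.node (.node (.node (.leaf 14377451) (.leaf 27787554)) (.node (.leaf 8348998) (.leaf 7080808))) (.node (.node (.leaf 20365321) (.leaf 7022346)) (.leaf 20408098)))) (.node (.node (.node (.node (.leaf 15715016) (.leaf 22348066)) (.node (.leaf 13287427) (.leaf 9011201))) (.node (.node (.leaf 3883015) (.leaf 17262346)) (.node (.leaf 19024584) (.leaf 3213799)))) (.node (.node (.node (.leaf 12485354) (.leaf 4046849)) (.node (.leaf 5131112) (.leaf 27983878))) (.node (.node (.leaf 29343747) (.leaf 25755656)) (.leaf 19890184)))))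

/-- Part of the table `witT0`. -/
def witT0_abbab : Tr := .node (.node (.node (.node (.node (.node (.leaf 9004264) (.leaf 14843907)) (.node (.leaf 11731786) (.leaf 15253505))) (.node (.node (.leaf 19070977) (.leaf 5701635)) (.node (.leaf 12518122) (.leaf 19628035)))) (.node (.node (.node (.leaf 18579464) (.leaf 13910762)) (.node (.leaf 17448961) (.leaf 24484427))) (.node (.node (.leaf 24215555) (.leaf 18948587)) (.leaf 2502)))) (.node (.node (.node (.node (.leaf 22528001) (.leaf 23379971)) (.node (.leaf 23595495) (.leaf 933898))) (.node (.node (.leaf 20938755) (.leaf 8617985)) (.node (.leaf 14378662) (.leaf 8496906)))) (.node (.node (.node (.leaf 10665994) (.leaf 20486731)) (.node (.leaf 29114369) (.leaf 15549258))) (.node (.node (.leaf 4948258) (.leaf 29769729)) (.leaf 30588937))))) (.node (.node (.node (.node (.node (.leaf 28001098) (.leaf 23265284)) (.node (.leaf 30827047) (.leaf 3591016))) (.node (.node (.leaf 15204610) (.leaf 30278378)) (.node (.leaf 23602854) (.leaf 14745603)))) (.node (.node (.node (.leaf 17966408) (.leaf 409603)) (.node (.leaf 6638055) (.leaf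 29885258))) (.node (.node (.leaf 11462250) (.leaf 27607786)) (.leaf 23595462)))) (.node (.node (.node (.node (.leaf 20912043) (.leaf 19824802)) (.node (.leaf 1753089) (.leaf 27508746))) (.node (.node (.leaf 10403844) (.leaf 1163273)) (.node (.leaf 5687367) (.leaf 2729738)))) (.node (.node (.node (.leaf 25116673) (.leaf 27796712)) (.node (.leaf 29310979) (.leaf 31047681))) (.node (.node (.leaf 7831938) (.leaf 12877833)) (.leaf 2920)))))

/-- Part of the table `witT0`. -/
def witT0_abba : Tr := .node witT0_abbaa witT0_abbab

/-- Part of the table `witT0`. -/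
def witT0_abbba : Tr := .node (.node (.node (.node (.node (.node (.leaf 22881512) (.leaf 26607625)) (.node (.leaf 23282506) (.leaf 1002184))) (.node (.node (.leaf 1064961) (.leaf 17678340)) (.node (.leaf 1638403) (.leaf 14827529)))) (.node (.node (.node (.leaf 21446665) (.leaf 15705706)) (.node (.leaf 14368771) (.leaf 25117058))) (.node (.node (.leaf 24003306) (.leaf 3260423)) (.leaf 15901926)))) (.node (.node (.node (.node (.leaf 28043042) (.leaf 27983881)) (.node (.leaf 30526150) (.leaf 3506177))) (.node (.node (.leaf 18055171) (.leaf 19752646)) (.node (.leaf 4292609) (.leaf 23601990)))) (.node (.node (.node (.leaf 22102858) (.leaf 1409410)) (.node (.leaf 15745034) (.leaf 17088515))) (.node (.node (.leaf 10567684) (.leaf 4440073)) (.leaf 23609353))))) (.node (.node (.node (.node (.node (.leaf 14827521) (.leaf 20899594)) (.node (.leaf 28164097) (.leaf 28540929))) (.node (.node (.leaf 27983873) (.leaf 2073928)) (.node (.leaf 2745962) (.leaf 20447233)))) (.node (.node (.node (.leaf 19628033) (.leaf 4)) (.node (.leaf 22364161) (.leaf 29523977))) (.node (.node (.leaf 2163074)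 (.leaf 19900010)) (.leaf 17678345)))) (.node (.node (.node (.node (.leaf 20480001) (.leaf 27787267)) (.node (.leaf 24300232) (.leaf 27986411))) (.node (.node (.leaf 2424835) (.leaf 2424836)) (.node (.leaf 27755338) (.leaf 14009066)))) (.node (.node (.node (.leaf 20676617) (.leaf 13730634)) (.node (.leaf 16269313) (.leaf 19709956))) (.node (.node (.leaf 10731524) (.leaf 16426762)) (.leaf 7097032)))))

/-- Part of the table `witT0`. -/
def witT0_abbbb : Tr := .node (.node (.node (.node (.node (.node (.leaf 8617991) (.leaf 6668297)) (.node (.leaf 29327364) (.leaf 31309825))) (.node (.node (.leaf 3891751) (.leaf 5449030)) (.node (.leaf 26165252) (.leaf 16204522)))) (.node (.node (.node (.leaf 6219371) (.leaf 7602434)) (.node (.leaf 20407526) (.leaf 16122698))) (.node (.node (.leaf 8913186) (.leaf 28902122)) (.leaf 4581130)))) (.node (.node (.node (.node (.leaf 6464519) (.leaf 3883012)) (.node (.leaf 23101441) (.leaf 541058))) (.node (.node (.leaf 19719494) (.leaf 28869450)) (.node (.leaf 27510855) (.leaf 6635529)))) (.node (.node (.node (.leaf 24002561) (.leaf 6973218)) (.node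 (.leaf 966657) (.leaf 26345481))) (.node (.node (.leaf 8405738) (.leaf 1198952)) (.leaf 16189099))))) (.node (.node (.node (.node (.node (.leaf 327688) (.leaf 5701642)) (.node (.leaf 10928970) (.leaf 2181607))) (.node (.node (.leaf 10354697) (.leaf 24218472)) (.node (.leaf 13026026) (.leaf 18179850)))) (.node (.node (.node (.leaf 28901386) (.leaf 30638084)) (.node (.leaf 18579457) (.leaf 3096577))) (.node (.node (.leaf 14745610) (.leaf 26362602)) (.leaf 7421953)))) (.node (.node (.node (.node (.leaf 425993) (.leaf 31326209)) (.node (.leaf 22364162) (.leaf 18382855))) (.node (.node (.leaf 966659) (.leaf 19644420)) (.node (.leaf 18055177) (.leaf 11183115)))) (.node (.node (.node (.leaf 20489994) (.leaf 14369026)) (.node (.leaf 5547626) (.leaf 10387459))) (.node (.node (.leaf 23658497) (.leaf 2467434)) (.leaf 3590827)))))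

/-- Part of the table `witT0`. -/
def witT0_abbb : Tr := .node witT0_abbba witT0_abbbb

/-- Part of the table `witT0`. -/
def witT0_abb : Tr := .node witT0_abba witT0_abbb

/-- Part of the table `witT0`. -/
def witT0_ab : Tr := .node witT0_aba witT0_abb

/-- Part of the table `witT0`. -/
def witT0_a : Tr := .node witT0_aa witT0_ab

/-- Part of the table `witT0`. -/
def witT0_baaaa : Tr := .node (.node (.node (.node (.node (.node (.leaf 8) (.leaf 12730371)) (.node (.leaf 26869761) (.leaf 8568833))) (.node (.node (.leaf 5531402) (.leaf 426826)) (.node (.leaf 25854794) (.leaf 22077991)))) (.node (.node (.node (.leaf 6422529) (.leaf 29851656)) (.node (.leaf 20939498) (.leaf 16400642))) (.node (.node (.leaf 29900810) (.leaf 8487754)) (.leaf 13583178)))) (.node (.node (.node (.node (.leaf 12258152) (.leaf 29313511)) (.node (.leaf 421) (.leaf 10387460))) (.node (.node (.leaf 20676611) (.leaf 8628002)) (.node (.leaf 18464772) (.leaf 10354689)))) (.node (.node (.node (.leaf 1409025) (.leaf 12428906)) (.node (.leaf 23592963) (.leaf 14983719))) (.node (.node (.leaf 11773546) (.leaf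 624711)) (.leaf 9895937))))) (.node (.node (.node (.node (.node (.leaf 22692586) (.leaf 26493674)) (.node (.leaf 16164618) (.leaf 30867457))) (.node (.node (.leaf 11878401) (.leaf 9535778)) (.node (.leaf 12484611) (.leaf 6635521)))) (.node (.node (.node (.leaf 3096585) (.leaf 1802986)) (.node (.leaf 9834) (.leaf 24903689))) (.node (.node (.leaf 5268808) (.leaf 14371688)) (.leaf 1641160)))) (.node (.node (.node (.node (.leaf 18474786) (.leaf 24516523)) (.node (.leaf 17154049) (.leaf 23592964))) (.node (.node (.leaf 5449482) (.leaf 9682953)) (.node (.leaf 5547686) (.leaf 11517955)))) (.node (.node (.node (.leaf 28786689) (.leaf 28540937)) (.node (.leaf 26165249) (.leaf 3260419))) (.node (.node (.leaf 22183940) (.leaf 3588104)) (.leaf 15378026)))))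

/-- Part of the table `witT0`. -/
def witT0_baaab : Tr := .node (.node (.node (.node (.node (.node (.leaf 26944519) (.leaf 5537795)) (.node (.leaf 26345476) (.leaf 13893636))) (.node (.node (.leaf 24101706) (.leaf 3180203)) (.node (.leaf 13853928) (.leaf 7602179)))) (.node (.node (.node (.leaf 29900809) (.leaf 5128201)) (.node (.leaf 13516803) (.leaf 30761991))) (.node (.node (.leaf 18605288) (.leaf 16470694)) (.leaf 8552452)))) (.node (.node (.node (.node (.leaf 10125320) (.leaf 24363009)) (.node (.leaf 18333697) (.leaf 21758210))) (.node (.node (.leaf 4548362) (.leaf 15695874)) (.node (.leaf 3941994) (.leaf 27993666)))) (.node (.node (.node (.leaf 12527210) (.leaf 30588935)) (.node (.leaf 13516801) (.leaf 8617988))) (.node (.node (.leaf 25470184) (.leaf 18584651)) (.leaf 14862407))))) (.node (.node (.node (.node (.node (.leaf 23602954) (.leaf 1386250)) (.node (.leaf 19038210) (.leaf 1163268))) (.node (.node (.leaf 4826730) (.leaf 14073865)) (.node (.leaf 19300355) (.leaf 7421955)))) (.node (.node (.node (.leaf 5128195) (.leaf 14368778)) (.node (.leaf 11518698) (.leaf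 17793025))) (.node (.node (.leaf 3179242) (.leaf 6982119)) (.leaf 20398081)))) (.node (.node (.node (.node (.leaf 28894440) (.leaf 25755652)) (.node (.leaf 7604678) (.leaf 13287433))) (.node (.node (.leaf 5136935) (.leaf 14877418)) (.node (.leaf 11461350) (.leaf 29852490)))) (.node (.node (.node (.leaf 5023338) (.leaf 23102186)) (.node (.leaf 11740778) (.leaf 8617993))) (.node (.node (.leaf 25968650) (.leaf 26158882)) (.leaf 10354691)))))

/-- Part of the table `witT0`. -/
def witT0_baaa : Tr := .node witT0_baaaa witT0_baaab

/-- Part of the table `witT0`. -/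
def witT0_baaba : Tr := .node (.node (.node (.node (.node (.node (.leaf 23593706) (.leaf 25591811)) (.node (.leaf 11173892) (.leaf 16786664))) (.node (.node (.leaf 8077321) (.leaf 27885577)) (.node (.leaf 29876966) (.leaf 26993990)))) (.node (.node (.node (.leaf 3702785) (.leaf 27788106)) (.node (.leaf 16630506) (.leaf 26951681))) (.node (.node (.leaf 11101802) (.leaf 21020675)) (.leaf 29664874)))) (.node (.node (.node (.node (.leaf 19187783) (.leaf 24068100)) (.node (.leaf 23592962) (.leaf 25125606))) (.node (.node (.leaf 25126666) (.leaf 18221543)) (.node (.leaf 28150632) (.leaf 24477706)))) (.node (.node (.node (.leaf 2571) (.leaf 2539524)) (.node (.leaf 2801665) (.leaf 12910601))) (.node (.node (.leaf 24002564) (.leaf 20365316)) (.leaf 8224772))))) (.node (.node (.node (.node (.node (.leaf 31204584) (.leaf 2179080)) (.node (.leaf 4440067) (.leaf 10577222))) (.node (.node (.leaf 17498115) (.leaf 18808841)) (.node (.leaf 2918) (.leaf 4456457)))) (.node (.node (.node (.leaf 16400385) (.leaf 6062922)) (.node (.leaf 10577224) (.leaf 23592969))) (.node (.node (.leaf 10)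 (.leaf 12206089)) (.leaf 28114945)))) (.node (.node (.node (.node (.leaf 23379972) (.leaf 11763716)) (.node (.leaf 23904265) (.leaf 21171048))) (.node (.node (.leaf 21111815) (.leaf 28852228)) (.node (.leaf 5989608) (.leaf 66282)))) (.node (.node (.node (.leaf 13224646) (.leaf 22069251)) (.node (.leaf 16876362) (.leaf 27983882))) (.node (.node (.leaf 14139393) (.leaf 14844746)) (.leaf 31024706)))))

/-- Part of the table `witT0`. -/
def witT0_baabb : Tr := .node (.node (.node (.node (.node (.node (.leaf 31204970) (.leaf 8798209)) (.node (.leaf 16655688) (.leaf 1638407))) (.node (.node (.leaf 9904966) (.leaf 31302374)) (.node (.leaf 20047650) (.leaf 11714569)))) (.node (.node (.node (.leaf 2179073) (.leaf 28150630)) (.node (.leaf 23435494) (.leaf 12255234))) (.node (.node (.leaf 10092545) (.leaf 2424842)) (.leaf 1097732)))) (.node (.node (.node (.node (.leaf 29310977) (.leaf 29097987)) (.node (.leaf 5653226) (.leaf 851969))) (.node (.node (.leaf 8801128) (.leaf 28737545)) (.node (.leaf 2443976) (.leaf 6300998)))) (.node (.node (.node (.leaf 12880742) (.leaf 29868034))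 (.node (.leaf 20889601) (.leaf 3826920))) (.node (.node (.leaf 162) (.leaf 15745028)) (.leaf 28114947))))) (.node (.node (.node (.node (.node (.leaf 23429121) (.leaf 20037640)) (.node (.leaf 18399233) (.leaf 3590598))) (.node (.node (.leaf 8339465) (.leaf 20894795)) (.node (.leaf 14827523) (.leaf 27869194)))) (.node (.node (.node (.leaf 23740417) (.leaf 3270250)) (.node (.leaf 30867466) (.leaf 25463656))) (.node (.node (.leaf 12815208) (.leaf 15695876)) (.leaf 851977)))) (.node (.node (.node (.node (.leaf 20037633) (.leaf 25462827)) (.node (.leaf 25502952) (.leaf 15369034))) (.node (.node (.leaf 13746177) (.leaf 10462440)) (.node (.leaf 10665993) (.leaf 9453577)))) (.node (.node (.node (.leaf 10469379) (.leaf 11936775)) (.node (.leaf 11340263) (.leaf 17088513))) (.node (.node (.leaf 22069252) (.leaf 7521002)) (.leaf 22675466)))))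

/-- Part of the table `witT0`. -/
def witT0_baab : Tr := .node witT0_baaba witT0_baabb

/-- Part of the table `witT0`. -/
def witT0_baa : Tr := .node witT0_baaa witT0_baab

/-- Part of the table `witT0`. -/
def witT0_babaa : Tr := .node (.node (.node (.node (.node (.node (.leaf 10092548) (.leaf 1762922)) (.node (.leaf 28901380) (.leaf 8234786))) (.node (.node (.leaf 17678339) (.leaf 22069257)) (.node (.leaf 1647623) (.leaf 16187401)))) (.node (.node (.node (.leaf 6645314) (.leaf 2729578)) (.node (.leaf 20905987) (.leaf 30876971))) (.node (.node (.leaf 4947972) (.leaf 23592966)) (.leaf 10633219)))) (.node (.node (.node (.node (.leaf 29097988) (.leaf 9705702)) (.node (.leaf 2424841) (.leaf 27787273))) (.node (.node (.leaf 4279144) (.leaf 9)) (.node (.leaf 29124202) (.leaf 17270855)))) (.node (.node (.node (.leaf 10102603) (.leaf 5570563)) (.node (.leaf 26301094) (.leaf 11206659))) (.node (.node (.leaf 3211265) (.leaf 23265290)) (.leaf 13231947))))) (.node (.node (.node (.node (.node (.leaf 22347786) (.leaf 18473991)) (.node (.leaf 12222465) (.leaf 1474946))) (.node (.node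 (.leaf 17088519) (.leaf 6890023)) (.node (.leaf 7766025) (.leaf 30031875)))) (.node (.node (.node (.leaf 5259265) (.leaf 19719496)) (.node (.leaf 28911210) (.leaf 327690))) (.node (.node (.leaf 1107722) (.leaf 337474)) (.leaf 5128450)))) (.node (.node (.node (.node (.leaf 10731521) (.leaf 11730947)) (.node (.leaf 24477703) (.leaf 1458177))) (.node (.node (.leaf 11452426) (.leaf 3932161)) (.node (.leaf 10125316) (.leaf 27885569)))) (.node (.node (.node (.leaf 12730377) (.leaf 13657416)) (.node (.leaf 4580070) (.leaf 5079049))) (.node (.node (.leaf 15695881) (.leaf 20905986)) (.leaf 5128202)))))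

/-- Part of the table `witT0`. -/
def witT0_babab : Tr := .node (.node (.node (.node (.node (.node (.leaf 18587462) (.leaf 27714888)) (.node (.leaf 6635524) (.leaf 24477697))) (.node (.node (.leaf 14221321) (.leaf 6635523)) (.node (.leaf 23625737) (.leaf 10469385)))) (.node (.node (.node (.leaf 18579459) (.leaf 28049417)) (.node (.leaf 26255911) (.leaf 7831714))) (.node (.node (.leaf 6062081) (.leaf 20712136)) (.leaf 19824649)))) (.node (.node (.node (.node (.leaf 14368774) (.leaf 26132483)) (.node (.leaf 23914274) (.leaf 21431114))) (.node (.node (.leaf 11658858) (.leaf 1573706)) (.node (.leaf 18464769) (.leaf 24887305)))) (.node (.node (.node (.leaf 10534913) (.leaf 20594698)) (.node (.leaf 29114371) (.leaf 31326217))) (.node (.node (.leaf 11206657) (.leaf 23972327)) (.leaf 27796007))))) (.node (.node (.node (.node (.node (.leaf 3866625) (.leaf 3145729)) (.node (.leaf 29016065) (.leaf 26141926))) (.node (.node (.leaf 12419075) (.leaf 18376298)) (.node (.leaf 6291465) (.leaf 23625729)))) (.node (.node (.node (.leaf 21128770) (.leaf 10665991)) (.node (.leaf 9030) (.leaf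 6308002))) (.node (.node (.leaf 29720580) (.leaf 11649445)) (.leaf 7)))) (.node (.node (.node (.node (.leaf 20054020) (.leaf 18579460)) (.node (.leaf 22701063) (.leaf 28789448))) (.node (.node (.leaf 15993319) (.leaf 30591848)) (.node (.leaf 10403841) (.leaf 10439143)))) (.node (.node (.node (.leaf 4276233) (.leaf 8339459)) (.node (.leaf 30703617) (.leaf 25460740))) (.node (.node (.leaf 3588133) (.leaf 29533962)) (.leaf 1540106)))))

/-- Part of the table `witT0`. -/
def witT0_baba : Tr := .node witT0_babaa witT0_babab

/-- Part of the table `witT0`. -/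
def witT0_babba : Tr := .node (.node (.node (.node (.node (.node (.leaf 8667146) (.leaf 2335974)) (.node (.leaf 29851649) (.leaf 37))) (.node (.node (.leaf 7038570) (.leaf 8274306)) (.node (.leaf 16367617) (.leaf 18432009)))) (.node (.node (.node (.leaf 10403842) (.leaf 13303817)) (.node (.leaf 15138826) (.leaf 19719970))) (.node (.node (.leaf 7309799) (.leaf 21645383)) (.leaf 7398407)))) (.node (.node (.node (.node (.leaf 3424257) (.leaf 25591817)) (.node (.leaf 12255236) (.leaf 22980202))) (.node (.node (.leaf 30085798) (.leaf 31047690)) (.node (.leaf 22373704) (.leaf 23598123)))) (.node (.node (.node (.leaf 27017220) (.leaf 28852234)) (.node (.leaf 24300230) (.leaf 22675460))) (.node (.node (.leaf 2539521) (.leaf 24889227)) (.leaf 12379368))))) (.node (.node (.node (.node (.node (.leaf 24264705) (.leaf 9076746)) (.node (.leaf 15213095) (.leaf 8342374))) (.node (.node (.leaf 29310986) (.leaf 327681)) (.node (.leaf 18464777) (.leaf 29426506)))) (.node (.node (.node (.leaf 8912905) (.leaf 6301290)) (.node (.leaf 3696234) (.leaf 15089665))) (.node (.node (.leaf 25379658)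 (.leaf 17088516)) (.leaf 24004679)))) (.node (.node (.node (.node (.leaf 15262247) (.leaf 30867465)) (.node (.leaf 8568835) (.leaf 30443591))) (.node (.node (.leaf 15319882) (.leaf 17794699)) (.node (.leaf 24215561) (.leaf 2328647)))) (.node (.node (.node (.leaf 28147713) (.leaf 30588931)) (.node (.leaf 31056614) (.leaf 24887299))) (.node (.node (.leaf 27223818) (.leaf 22364164)) (.leaf 22069538)))))

/-- Part of the table `witT0`. -/
def witT0_babbb : Tr := .node (.node (.node (.node (.node (.node (.leaf 20889608) (.leaf 1638404)) (.node (.leaf 6661738) (.leaf 5739))) (.node (.node (.leaf 20407528) (.leaf 425987)) (.node (.leaf 7831561) (.leaf 26591235)))) (.node (.node (.node (.leaf 13041826) (.leaf 6652746)) (.node (.leaf 6455303) (.leaf 10232359))) (.node (.node (.leaf 24544074) (.leaf 4754280)) (.leaf 9921063)))) (.node (.node (.node (.node (.leaf 30867460) (.leaf 21472874)) (.node (.leaf 16891908) (.leaf 20227079))) (.node (.node (.leaf 12484617) (.leaf 27025959)) (.node (.leaf 25460746) (.leaf 10665988)))) (.node (.node (.node (.leaf 26141928) (.leaf 21449195))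 (.node (.leaf 11730953) (.leaf 4702217))) (.node (.node (.leaf 12419080) (.leaf 8006)) (.leaf 6291457))))) (.node (.node (.node (.node (.node (.leaf 8233991) (.leaf 12419081)) (.node (.leaf 13345799) (.leaf 10403843))) (.node (.node (.leaf 5538634) (.leaf 14368777)) (.node (.leaf 17645569) (.leaf 27017217)))) (.node (.node (.node (.leaf 6635522) (.leaf 18548807)) (.node (.leaf 9125897) (.leaf 23708394))) (.node (.node (.leaf 746) (.leaf 25806919)) (.leaf 29549095)))) (.node (.node (.node (.node (.leaf 15671847) (.leaf 30810854)) (.node (.leaf 10018) (.leaf 2582122))) (.node (.node (.leaf 24209162) (.leaf 29858022)) (.node (.leaf 26492938) (.leaf 13221889)))) (.node (.node (.node (.leaf 19637866) (.leaf 7602185)) (.node (.leaf 19693572) (.leaf 26230785))) (.node (.node (.leaf 9794) (.leaf 74731)) (.leaf 20905988)))))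

/-- Part of the table `witT0`. -/
def witT0_babb : Tr := .node witT0_babba witT0_babbb

/-- Part of the table `witT0`. -/
def witT0_bab : Tr := .node witT0_baba witT0_babb

/-- Part of the table `witT0`. -/
def witT0_ba : Tr := .node witT0_baa witT0_bab

/-- Part of the table `witT0`. -/
def witT0_bbaaa : Tr := .node (.node (.node (.node (.node (.node (.leaf 6359111) (.leaf 19202338)) (.node (.leaf 4278984) (.leaf 20906730))) (.node (.node (.leaf 8560715) (.leaf 10135306)) (.node (.leaf 23855105) (.leaf 21702434)))) (.node (.node (.node (.leaf 16665288) (.leaf 26165257)) (.node (.leaf 14368775) (.leaf 30031881))) (.node (.node (.leaf 3016806) (.leaf 5013508)) (.leaf 4947969)))) (.node (.node (.node (.node (.leaf 23598731) (.leaf 15613953)) (.node (.leaf 24215553) (.leaf 20905994))) (.node (.node (.leaf 27983874) (.leaf 19900170)) (.node (.leaf 27796806) (.leaf 30877382)))) (.node (.node (.node (.leaf 23907016) (.leaf 6645064)) (.node (.leaf 27501575) (.leaf 4494859))) (.node (.node (.leaf 11387266) (.leaf 28901385)) (.leaf 9437188))))) (.node (.node (.node (.node (.node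 (.leaf 15698407) (.leaf 6374)) (.node (.leaf 10403849) (.leaf 7772390))) (.node (.node (.leaf 2150) (.leaf 27017225)) (.node (.leaf 26001409) (.leaf 29379432)))) (.node (.node (.node (.leaf 27402283) (.leaf 16425991)) (.node (.leaf 27213828) (.leaf 5121642))) (.node (.node (.leaf 27854919) (.leaf 1638401)) (.leaf 14362378)))) (.node (.node (.node (.node (.leaf 20037636) (.leaf 28540931)) (.node (.leaf 26402) (.leaf 29878026))) (.node (.node (.leaf 17688170) (.leaf 27822151)) (.node (.leaf 3588099) (.leaf 327684)))) (.node (.node (.node (.leaf 22865674) (.leaf 21020681)) (.node (.leaf 18481161) (.leaf 17793027))) (.node (.node (.leaf 8552449) (.leaf 19719786)) (.leaf 27983883)))))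

/-- Part of the table `witT0`. -/
def witT0_bbaab : Tr := .node (.node (.node (.node (.node (.node (.leaf 3705319) (.leaf 8424136)) (.node (.leaf 28059242) (.leaf 20408074))) (.node (.node (.leaf 15204514) (.leaf 23911755)) (.node (.leaf 27508737) (.leaf 5996545)))) (.node (.node (.node (.leaf 18792457) (.leaf 28377092)) (.node (.leaf 5449032) (.leaf 23281665))) (.node (.node (.leaf 3588105) (.leaf 24477699)) (.leaf 26502762)))) (.node (.node (.node (.node (.leaf 22347780) (.leaf 8627207)) (.node (.leaf 20046566) (.leaf 3506185))) (.node (.node (.leaf 1544870) (.leaf 2179081)) (.node (.leaf 19824644) (.leaf 21446659)))) (.node (.node (.node (.leaf 29655786) (.leaf 17795174)) (.node (.leaf 26069479) (.leaf 22717768))) (.node (.node (.leaf 21816648) (.leaf 16409127)) (.leaf 30041320))))) (.node (.node (.node (.node (.node (.leaf 12739912) (.leaf 22790147)) (.node (.leaf 29540514) (.leaf 20496387))) (.node (.node (.leaf 16367625) (.leaf 15205098)) (.node (.leaf 30346086) (.leaf 26495078)))) (.node (.node (.node (.leaf 19644425) (.leaf 27017219)) (.node (.leaf 26132481)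 (.leaf 18939913))) (.node (.node (.leaf 15695882) (.leaf 9995)) (.leaf 11927553)))) (.node (.node (.node (.node (.leaf 5537801) (.leaf 13746179)) (.node (.leaf 19186410) (.leaf 27792262))) (.node (.node (.leaf 25388650) (.leaf 3)) (.node (.leaf 966665) (.leaf 24529383)))) (.node (.node (.node (.leaf 10093290) (.leaf 1172808)) (.node (.leaf 8522438) (.leaf 23592961))) (.node (.node (.leaf 17678346) (.leaf 3260417)) (.leaf 20940871)))))

/-- Part of the table `witT0`. -/
def witT0_bbaa : Tr := .node witT0_bbaaa witT0_bbaab

/-- Part of the table `witT0`. -/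
def witT0_bbaba : Tr := .node (.node (.node (.node (.node (.node (.leaf 20906826) (.leaf 6455554)) (.node (.leaf 10823274) (.leaf 2179082))) (.node (.node (.leaf 31326211) (.leaf 4276225)) (.node (.leaf 22708233) (.leaf 10158826)))) (.node (.node (.node (.leaf 622595) (.leaf 24477705)) (.node (.leaf 6455305) (.leaf 17924097))) (.node (.node (.leaf 2719754) (.leaf 1737450)) (.leaf 16187395)))) (.node (.node (.node (.node (.leaf 16402315) (.leaf 29876038)) (.node (.leaf 15728643) (.leaf 12321610))) (.node (.node (.leaf 27879018) (.leaf 10814282)) (.node (.leaf 842) (.leaf 29016073)))) (.node (.node (.node (.leaf 15960135) (.leaf 12337898)) (.node (.leaf 6209539) (.leaf 13746180))) (.node (.node (.leaf 12206088) (.leaf 15089667)) (.leaf 12733128))))) (.node (.node (.node (.node (.node (.leaf 35528) (.leaf 23602408)) (.node (.leaf 3712328) (.leaf 17096747))) (.node (.node (.leaf 27017602) (.leaf 16836294)) (.node (.leaf 17926631) (.leaf 1638410)))) (.node (.node (.node (.leaf 3597890) (.leaf 10731530)) (.node (.leaf 3866634) (.leaf 27986407))) (.node (.node (.leaf 22069249)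 (.leaf 10725130)) (.leaf 17137668)))) (.node (.node (.node (.node (.leaf 25584619) (.leaf 19048203)) (.node (.leaf 1074954) (.leaf 6177514))) (.node (.node (.leaf 11517953) (.leaf 16844871)) (.node (.leaf 12877827) (.leaf 23389512)))) (.node (.node (.node (.leaf 20579050) (.leaf 3260420)) (.node (.leaf 8225610) (.leaf 29378631))) (.node (.node (.leaf 6291460) (.leaf 21816646)) (.leaf 25250504)))))

/-- Part of the table `witT0`. -/
def witT0_bbabb : Tr := .node (.node (.node (.node (.node (.node (.leaf 22373702) (.leaf 17645826)) (.node (.leaf 21800714) (.leaf 31326215))) (.node (.node (.leaf 19038218) (.leaf 4129058)) (.node (.leaf 25121670) (.leaf 27869930)))) (.node (.node (.node (.leaf 8627211) (.leaf 17137665)) (.node (.leaf 18465610) (.leaf 4702212))) (.node (.node (.leaf 18589450) (.leaf 4597446)) (.leaf 19808257)))) (.node (.node (.node (.node (.leaf 1963) (.leaf 23438914)) (.node (.leaf 1638409) (.leaf 6209545))) (.node (.node (.leaf 19718695) (.leaf 13418754)) (.node (.leaf 26699530) (.leaf 26993992)))) (.node (.node (.node (.leaf 23609347) (.leaf 14073859))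 (.node (.leaf 19352424) (.leaf 2457601))) (.node (.node (.leaf 6291466) (.leaf 23291498)) (.leaf 10102338))))) (.node (.node (.node (.node (.node (.leaf 26361857) (.leaf 18808835)) (.node (.leaf 16367619) (.leaf 12255241))) (.node (.node (.leaf 14748523) (.leaf 2179818)) (.node (.leaf 10865127) (.leaf 23592967)))) (.node (.node (.node (.leaf 15663107) (.leaf 20480842)) (.node (.leaf 16745194) (.leaf 4596743))) (.node (.node (.leaf 3596839) (.leaf 26692294)) (.leaf 17244711)))) (.node (.node (.node (.node (.leaf 13748107) (.leaf 12419914)) (.node (.leaf 8667139) (.leaf 3325955))) (.node (.node (.leaf 21226824) (.leaf 29114377)) (.node (.leaf 7831555) (.leaf 15640330)))) (.node (.node (.node (.leaf 14837514) (.leaf 31050440)) (.node (.leaf 27508740) (.leaf 12910595))) (.node (.node (.leaf 11092714) (.leaf 18432010)) (.leaf 20047466)))))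

/-- Part of the table `witT0`. -/
def witT0_bbab : Tr := .node witT0_bbaba witT0_bbabb

/-- Part of the table `witT0`. -/
def witT0_bba : Tr := .node witT0_bbaa witT0_bbab

/-- Part of the table `witT0`. -/
def witT0_bbbaa : Tr := .node (.node (.node (.node (.node (.node (.leaf 21449191) (.leaf 4276228)) (.node (.leaf 8578055) (.leaf 30065482))) (.node (.node (.leaf 2458442) (.leaf 13434881)) (.node (.leaf 330600) (.leaf 18939907)))) (.node (.node (.node (.leaf 3178505) (.leaf 6291459)) (.node (.leaf 2758) (.leaf 21503814))) (.node (.node (.leaf 4817738) (.leaf 16465924)) (.leaf 6972423)))) (.node (.node (.node (.node (.leaf 20897606) (.leaf 11517961)) (.node (.leaf 22691849) (.leaf 23658505))) (.node (.node (.leaf 327683) (.leaf 23625732)) (.node (.leaf 28796522) (.leaf 22872065)))) (.node (.node (.node (.leaf 21118977) (.leaf 9912482)) (.node (.leaf 1097737) (.leaf 29851652))) (.node (.node (.leaf 14378602) (.leaf 24970058)) (.leaf 7831553))))) (.node (.node (.node (.node (.node (.leaf 19702311) (.leaf 19038209)) (.node (.leaf 23909254) (.leaf 6586369))) (.node (.node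 (.leaf 9437187) (.leaf 4180422)) (.node (.leaf 17858563) (.leaf 16826371)))) (.node (.node (.node (.leaf 2179079) (.leaf 22364168)) (.node (.leaf 12419076) (.leaf 5834823))) (.node (.node (.leaf 16623210) (.leaf 9682951)) (.leaf 11174730)))) (.node (.node (.node (.node (.leaf 14345448) (.leaf 1507329)) (.node (.leaf 6252138) (.leaf 16629770))) (.node (.node (.leaf 4998) (.leaf 14377003)) (.node (.leaf 22118401) (.leaf 19792130)))) (.node (.node (.node (.leaf 3991146) (.leaf 13025281)) (.node (.leaf 18432001) (.leaf 327689))) (.node (.node (.leaf 3869159) (.leaf 320039)) (.leaf 8110338)))))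

/-- Part of the table `witT0`. -/
def witT0_bbbab : Tr := .node (.node (.node (.node (.node (.node (.leaf 14115367) (.leaf 28721994)) (.node (.leaf 3588106) (.leaf 5079050))) (.node (.node (.leaf 4760904) (.leaf 31293441)) (.node (.leaf 7602180) (.leaf 21889025)))) (.node (.node (.node (.leaf 11773506) (.leaf 3325953)) (.node (.leaf 10092553) (.leaf 8602442))) (.node (.node (.leaf 290) (.leaf 25381576)) (.leaf 9448)))) (.node (.node (.node (.node (.leaf 10413063) (.leaf 24510465)) (.node (.leaf 1198950) (.leaf 25447112))) (.node (.node (.leaf 5718017) (.leaf 6415367)) (.node (.leaf 11173897) (.leaf 27787265)))) (.node (.node (.node (.leaf 9437193) (.leaf 15138825)) (.node (.leaf 23379977) (.leaf 28852227))) (.node (.node (.leaf 11387626) (.leaf 1540100)) (.leaf 25460739))))) (.node (.node (.node (.node (.node (.leaf 3614474) (.leaf 6668291)) (.node (.leaf 27787650) (.leaf 12484612))) (.node (.node (.leaf 18753290) (.leaf 28854343)) (.node (.leaf 14837064) (.leaf 3260425)))) (.node (.node (.node (.leaf 29310985) (.leaf 3751937)) (.node (.leaf 6537219) (.leaf 25968643)))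 (.node (.node (.leaf 3335946) (.leaf 6296230)) (.leaf 14722850)))) (.node (.node (.node (.node (.leaf 13746185) (.leaf 4276234)) (.node (.leaf 31014916) (.leaf 7602922))) (.node (.node (.leaf 6539976) (.leaf 28868611)) (.node (.leaf 25004904) (.leaf 13516810)))) (.node (.node (.node (.leaf 30572551) (.leaf 3680010)) (.node (.leaf 15737863) (.leaf 22364169))) (.node (.node (.leaf 18939905) (.leaf 6541990)) (.leaf 19857409)))))

/-- Part of the table `witT0`. -/
def witT0_bbba : Tr := .node witT0_bbbaa witT0_bbbab

/-- Part of the table `witT0`. -/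
def witT0_bbbba : Tr := .node (.node (.node (.node (.node (.node (.leaf 27183976) (.leaf 28793579)) (.node (.leaf 4276227) (.leaf 1550090))) (.node (.node (.leaf 11091971) (.leaf 2116454)) (.node (.leaf 8273921) (.leaf 3866628)))) (.node (.node (.node (.leaf 20480003) (.leaf 11386881)) (.node (.leaf 15532033) (.leaf 6091))) (.node (.node (.leaf 18595844) (.leaf 9682945)) (.leaf 16000618)))) (.node (.node (.node (.node (.leaf 13025284) (.leaf 13516808)) (.node (.leaf 8667145) (.leaf 17802818))) (.node (.node (.leaf 29851657) (.leaf 14895976)) (.node (.leaf 2188102) (.leaf 28868609)))) (.node (.node (.node (.leaf 25460743) (.leaf 7610919)) (.node (.leaf 30073863) (.leaf 29900801))) (.node (.node (.leaf 5442408) (.leaf 26607617)) (.leaf 22370251))))) (.node (.node (.node (.node (.node (.leaf 24478442) (.leaf 9414250)) (.node (.leaf 11649866) (.leaf 2457604))) (.node (.node (.leaf 20938761) (.leaf 7258113)) (.node (.leaf 4816897) (.leaf 5710315)))) (.node (.node (.node (.leaf 31014915) (.leaf 30598376)) (.node (.leaf 20407624) (.leaf 24936610))) (.node (.node (.leaf 28016643)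 (.leaf 14221315)) (.leaf 26345730)))) (.node (.node (.node (.node (.leaf 30346088) (.leaf 27985547)) (.node (.leaf 21701639) (.leaf 11714563))) (.node (.node (.leaf 20898534) (.leaf 2424839)) (.node (.leaf 14106625) (.leaf 20040392)))) (.node (.node (.node (.leaf 4072678) (.leaf 409607)) (.node (.leaf 18464771) (.leaf 27206663))) (.node (.node (.leaf 28852233) (.leaf 293)) (.leaf 22841415)))))

/-- Part of the table `witT0`. -/
def witT0_bbbbb : Tr := .node (.node (.node (.node (.node (.node (.leaf 27394049) (.leaf 4702211)) (.node (.leaf 31015658) (.leaf 10021))) (.node (.node (.leaf 28993130) (.leaf 29868036)) (.node (.leaf 3096586) (.leaf 1097731)))) (.node (.node (.node (.leaf 19719946) (.leaf 25116681)) (.node (.leaf 9125891) (.leaf 30811914))) (.node (.node (.leaf 23799562) (.leaf 4442822)) (.leaf 19709960)))) (.node (.node (.node (.node (.leaf 21446657) (.leaf 25591812)) (.node (.leaf 16901898) (.leaf 17793410))) (.node (.node (.leaf 18949738) (.leaf 27879178)) (.node (.leaf 10733639) (.leaf 4276232)))) (.node (.node (.node (.leaf 17678343) (.leaf 327682)) (.node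 (.leaf 15000583) (.leaf 10158084))) (.node (.node (.leaf 12124322) (.leaf 23111274)) (.leaf 6144001))))) (.node (.node (.node (.node (.node (.leaf 30031879) (.leaf 27518530)) (.node (.leaf 27715338) (.leaf 20905993))) (.node (.node (.leaf 30572547) (.leaf 10872426)) (.node (.leaf 27213832) (.leaf 17681256)))) (.node (.node (.node (.leaf 7571527) (.leaf 31244578)) (.node (.leaf 13025283) (.leaf 14827527))) (.node (.node (.leaf 3702788) (.leaf 10633217)) (.leaf 6154018)))) (.node (.node (.node (.node (.leaf 19709955) (.leaf 23284424)) (.node (.leaf 15695875) (.leaf 2451210))) (.node (.node (.leaf 23431655) (.leaf 16826377)) (.node (.leaf 24815302) (.leaf 2811499)))) (.node (.node (.node (.leaf 1064969) (.leaf 3590631)) (.node (.leaf 720905) (.leaf 27885730))) (.node (.node (.leaf 10092547) (.leaf 2441220)) (.leaf 17088802)))))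

/-- Part of the table `witT0`. -/
def witT0_bbbb : Tr := .node witT0_bbbba witT0_bbbbb

/-- Part of the table `witT0`. -/
def witT0_bbb : Tr := .node witT0_bbba witT0_bbbb

/-- Part of the table `witT0`. -/
def witT0_bb : Tr := .node witT0_bba witT0_bbb

/-- Part of the table `witT0`. -/
def witT0_b : Tr := .node witT0_ba witT0_bb

/-- Part of the table `witT0`. -/
def witT0_ : Tr := .node witT0_a witT0_b

/-- Conjugating elements for one suborbit. -/
def witT0 : Tr := witT0_

end Cfsg.Agent.JTwo
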