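import Cfsg.Agent.Lib.J2.Packed

/-!
# Conjugating elements, part 1
-/

set_option autoImplicit false
set_option maxRecDepth 10000

namespace Cfsg.Agent.JTwo

/-- Part of the table `witT1`. -/
def witT1_aaaaa : Tr := .node (.node (.node (.node (.node (.node (.leaf 20481217) (.leaf 27987308)) (.node (.leaf 23137546) (.leaf 26257194))) (.node (.node (.leaf 25643116) (.leaf 26993796)) (.node (.leaf 6301007) (.leaf 21079694)))) (.node (.node (.node (.leaf 20054412) (.leaf 16188650)) (.node (.leaf 1204873) (.leaf 27787977))) (.node (.node (.leaf 25498381) (.leaf 13944161)) (.leaf 10953345)))) (.node (.node (.node (.node (.leaf 28721740) (.leaf 5947812)) (.node (.leaf 22483628) (.leaf 8291364))) (.node (.node (.leaf 5834593) (.leaf 7955119)) (.node (.leaf 4383977) (.leaf 26299402)))) (.node (.node (.node (.leaf 11769711) (.leaf 20603945)) (.node (.leaf 4580066) (.leaf 5670212))) (.node (.node (.leaf 13733932) (.leaf 19752002)) (.leaf 6743375))))) (.node (.node (.node (.node (.node (.leaf 29016145) (.leaf 14372204)) (.node (.leaf 9086467) (.leaf 22079047))) (.node (.node (.leaf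 30445098) (.leaf 3703340)) (.node (.leaf 16076462) (.leaf 3675244)))) (.node (.node (.node (.leaf 776687) (.leaf 13519105)) (.node (.leaf 23142828) (.leaf 5251404))) (.node (.node (.leaf 7768972) (.leaf 25691778)) (.leaf 13240681)))) (.node (.node (.node (.node (.leaf 4821537) (.leaf 26548067)) (.node (.leaf 26298692) (.leaf 31204803))) (.node (.node (.leaf 5556209) (.leaf 27893772)) (.node (.leaf 877347) (.leaf 23433169)))) (.node (.node (.node (.leaf 25383379) (.leaf 31408935)) (.node (.leaf 8998052) (.leaf 20530636))) (.node (.node (.leaf 31330858) (.leaf 17419378)) (.leaf 9444419)))))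

/-- Part of the table `witT1`. -/
def witT1_aaaab : Tr := .node (.node (.node (.node (.node (.node (.leaf 19090051) (.leaf 25498863)) (.node (.leaf 15836871) (.leaf 8316140))) (.node (.node (.leaf 12210919) (.leaf 1320)) (.node (.leaf 29346378) (.leaf 27025447)))) (.node (.node (.node (.leaf 30294030) (.leaf 14964834)) (.node (.leaf 17686019) (.leaf 20652195))) (.node (.node (.leaf 10540904) (.leaf 13050156)) (.leaf 7948137)))) (.node (.node (.node (.node (.leaf 3148355) (.leaf 27992778)) (.node (.leaf 23350759) (.leaf 21142305))) (.node (.node (.leaf 4278131) (.leaf 10633761)) (.node (.leaf 6004879) (.leaf 4236355)))) (.node (.node (.node (.leaf 19040881) (.leaf 11536239)) (.node (.leaf 6540195) (.leaf 911049))) (.node (.node (.leaf 27518164) (.leaf 12650952)) (.leaf 25599567))))) (.node (.node (.node (.node (.node (.leaf 28910633) (.leaf 7874275)) (.node (.leaf 20598753) (.leaf 27019566))) (.node (.node (.leaf 11209388) (.leaf 26347151)) (.node (.leaf 20203052) (.leaf 12445409)))) (.node (.node (.node (.leaf 28544431) (.leaf 491556)) (.node (.leaf 3821505) (.leaf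 8496739))) (.node (.node (.leaf 15587178) (.leaf 2482323)) (.leaf 9897418)))) (.node (.node (.node (.node (.leaf 7658186) (.leaf 15109123)) (.node (.leaf 16208015) (.leaf 1871911))) (.node (.node (.leaf 9033223) (.leaf 27019250)) (.node (.leaf 26870345) (.leaf 2859363)))) (.node (.node (.node (.leaf 30301546) (.leaf 6330222)) (.node (.leaf 12855105) (.leaf 2721249))) (.node (.node (.leaf 24565571) (.leaf 9446825)) (.leaf 6987114)))))

/-- Part of the table `witT1`. -/
def witT1_aaaa : Tr := .node witT1_aaaaa witT1_aaaab

/-- Part of the table `witT1`. -/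
def witT1_aaaba : Tr := .node (.node (.node (.node (.node (.node (.leaf 26807151) (.leaf 7392657)) (.node (.leaf 26257188) (.leaf 14370057))) (.node (.node (.leaf 3637764) (.leaf 26608650)) (.node (.leaf 8365769) (.leaf 26804271)))) (.node (.node (.node (.leaf 6641641) (.leaf 4162444)) (.node (.leaf 870401) (.leaf 24306977))) (.node (.node (.leaf 1100103) (.leaf 23431203)) (.leaf 6918689)))) (.node (.node (.node (.node (.leaf 24529105) (.leaf 5558540)) (.node (.leaf 19649870) (.leaf 3884489))) (.node (.node (.leaf 14404394) (.leaf 19817683)) (.node (.leaf 29860691) (.leaf 12328492)))) (.node (.node (.node (.leaf 13657763) (.leaf 11249155)) (.node (.leaf 705548) (.leaf 26175235))) (.node (.node (.leaf 3804099) (.leaf 30414531)) (.leaf 14845537))))) (.node (.node (.node (.node (.node (.leaf 30877393) (.leaf 1234578)) (.node (.leaf 15485962) (.leaf 16831976))) (.node (.node (.leaf 3759790) (.leaf 28632265)) (.node (.leaf 532099) (.leaf 24368268)))) (.node (.node (.node (.leaf 26004878) (.leaf 17929932)) (.node (.leaf 26502754) (.leaf 25382052))) (.node (.node (.leaf 13231785)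 (.leaf 201416)) (.leaf 16078538)))) (.node (.node (.node (.node (.leaf 7606060) (.leaf 29247378)) (.node (.leaf 1205892) (.leaf 29311602))) (.node (.node (.leaf 27711049) (.leaf 2443975)) (.node (.leaf 23484835) (.leaf 12290979)))) (.node (.node (.node (.leaf 29556978) (.leaf 19899017)) (.node (.leaf 2344114) (.leaf 24714497))) (.node (.node (.leaf 21677121) (.leaf 22253292)) (.leaf 7868492)))))

/-- Part of the table `witT1`. -/
def witT1_aaabb : Tr := .node (.node (.node (.node (.node (.node (.leaf 23865063) (.leaf 12525129)) (.node (.leaf 15279747) (.leaf 19042849))) (.node (.node (.leaf 2624145) (.leaf 16057068)) (.node (.leaf 5037) (.leaf 26498764)))) (.node (.node (.node (.leaf 24120524) (.leaf 14834572)) (.node (.leaf 973378) (.leaf 23186153))) (.node (.node (.leaf 31281420) (.leaf 28512514)) (.leaf 3166474)))) (.node (.node (.node (.node (.leaf 7603828) (.leaf 6636108)) (.node (.leaf 8427656) (.leaf 20946120))) (.node (.node (.leaf 14637548) (.leaf 25119147)) (.node (.leaf 14832641) (.leaf 29083948)))) (.node (.node (.node (.leaf 5949838) (.leaf 1476242)) (.node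 (.leaf 17786121) (.leaf 1615555))) (.node (.node (.leaf 5442403) (.leaf 25224361)) (.leaf 19636193))))) (.node (.node (.node (.node (.node (.leaf 3785633) (.leaf 6540739)) (.node (.leaf 7357635) (.leaf 30122689))) (.node (.node (.leaf 29020361) (.leaf 20220423)) (.node (.leaf 29444044) (.leaf 3673486)))) (.node (.node (.node (.leaf 1171916) (.leaf 19227308)) (.node (.leaf 19645038) (.leaf 27594508))) (.node (.node (.leaf 27789601) (.leaf 25894665)) (.leaf 3885282)))) (.node (.node (.node (.node (.leaf 15647411) (.leaf 18179811)) (.node (.leaf 11700911) (.leaf 20548425))) (.node (.node (.leaf 6757633) (.leaf 11618183)) (.node (.leaf 107276) (.leaf 20171745)))) (.node (.node (.node (.leaf 22465281) (.leaf 8119969)) (.node (.leaf 19762081) (.leaf 14851663))) (.node (.node (.leaf 10944556) (.leaf 11920449)) (.leaf 20269635)))))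

/-- Part of the table `witT1`. -/
def witT1_aaab : Tr := .node witT1_aaaba witT1_aaabb

/-- Part of the table `witT1`. -/
def witT1_aaa : Tr := .node witT1_aaaa witT1_aaab

/-- Part of the table `witT1`. -/
def witT1_aabaa : Tr := .node (.node (.node (.node (.node (.node (.leaf 19532137) (.leaf 2188493)) (.node (.leaf 12916867) (.leaf 5448873))) (.node (.node (.leaf 1755299) (.leaf 2462254)) (.node (.leaf 16633551) (.leaf 8669219)))) (.node (.node (.node (.leaf 29528558) (.leaf 20997801)) (.node (.leaf 951244) (.leaf 14853043))) (.node (.node (.leaf 23594127) (.leaf 1638642)) (.leaf 13042668)))) (.node (.node (.node (.node (.leaf 19750154) (.leaf 9798289)) (.node (.leaf 30958932) (.leaf 20581321))) (.node (.node (.leaf 8347793) (.leaf 23647372)) (.node (.leaf 5331881) (.leaf 8628041)))) (.node (.node (.node (.leaf 11541679) (.leaf 19304105)) (.node (.leaf 9463363) (.leaf 231692))) (.node (.node (.leaf 23857902) (.leaf 6738954)) (.leaf 25502922))))) (.node (.node (.node (.node (.node (.leaf 20406921) (.leaf 8422282)) (.node (.leaf 24134345) (.leaf 25434292))) (.node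 (.node (.leaf 20913332) (.leaf 29214020)) (.node (.leaf 13238700) (.leaf 16024804)))) (.node (.node (.node (.leaf 1615553) (.leaf 29320362)) (.node (.leaf 25217891) (.leaf 23905553))) (.node (.node (.leaf 2184802) (.leaf 20913409)) (.leaf 13995754)))) (.node (.node (.node (.node (.leaf 1826638) (.leaf 24520369)) (.node (.leaf 461070) (.leaf 2139340))) (.node (.node (.leaf 7836913) (.leaf 17959188)) (.node (.leaf 9456520) (.leaf 19220740)))) (.node (.node (.node (.leaf 30039758) (.leaf 12117353)) (.node (.leaf 26891858) (.leaf 25536201))) (.node (.node (.leaf 1182099) (.leaf 7832719)) (.leaf 25889676)))))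

/-- Part of the table `witT1`. -/
def witT1_aabab : Tr := .node (.node (.node (.node (.node (.node (.leaf 26198404) (.leaf 19667658)) (.node (.leaf 10470732) (.leaf 17686050))) (.node (.node (.leaf 6621412) (.leaf 1640099)) (.node (.leaf 27610824) (.leaf 6145324)))) (.node (.node (.node (.leaf 18828753) (.leaf 14060200)) (.node (.leaf 21110156) (.leaf 14305633))) (.node (.node (.leaf 8954691) (.leaf 26418316)) (.leaf 23513548)))) (.node (.node (.node (.node (.leaf 25486307) (.leaf 16450756)) (.node (.leaf 6968559) (.leaf 27185228))) (.node (.node (.leaf 6720195) (.leaf 22054031)) (.node (.leaf 24807938) (.leaf 23038249)))) (.node (.node (.node (.leaf 10412332) (.leaf 20487660)) (.node (.leaf 9462163) (.leaf 14706145))) (.node (.node (.leaf 18547308) (.leaf 24877166)) (.leaf 15353249))))) (.node (.node (.node (.node (.node (.leaf 17259980) (.leaf 8110468)) (.node (.leaf 4064105) (.leaf 21433129))) (.node (.node (.leaf 20649199) (.leaf 16405033)) (.node (.leaf 14885827) (.leaf 21226760)))) (.node (.node (.node (.leaf 6940193) (.leaf 27525252)) (.node (.leaf 25117396)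 (.leaf 26171886))) (.node (.node (.leaf 4870505) (.leaf 5540108)) (.leaf 13961577)))) (.node (.node (.node (.node (.leaf 4149609) (.leaf 17925326)) (.node (.leaf 19538857) (.leaf 27810700))) (.node (.node (.leaf 20548238) (.leaf 16205940)) (.node (.leaf 3246825) (.leaf 7832552)))) (.node (.node (.node (.leaf 20257932) (.leaf 14442924)) (.node (.leaf 2804009) (.leaf 19291107))) (.node (.node (.leaf 6380611) (.leaf 29664457)) (.leaf 918476)))))

/-- Part of the table `witT1`. -/
def witT1_aaba : Tr := .node witT1_aabaa witT1_aabab

/-- Part of the table `witT1`. -/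
def witT1_aabba : Tr := .node (.node (.node (.node (.node (.node (.leaf 23435121) (.leaf 25699369)) (.node (.leaf 16668355) (.leaf 10102403))) (.node (.node (.leaf 871043) (.leaf 11929452)) (.node (.leaf 7380611) (.leaf 8527244)))) (.node (.node (.node (.leaf 5104771) (.leaf 6689793)) (.node (.leaf 22429868) (.leaf 15378028))) (.node (.node (.leaf 27871730) (.leaf 4822858)) (.leaf 7757580)))) (.node (.node (.node (.node (.leaf 21271591) (.leaf 24796898)) (.node (.leaf 3104108) (.leaf 23056558))) (.node (.node (.leaf 384801) (.leaf 648329)) (.node (.leaf 16139123) (.leaf 19251948)))) (.node (.node (.node (.leaf 18450531) (.leaf 1205898)) (.node (.leaf 10929422) (.leaf 2450095))) (.node (.node (.leaf 21512675) (.leaf 25922337)) (.leaf 13224483))))) (.node (.node (.node (.node (.node (.leaf 24323043) (.leaf 6316897)) (.node (.leaf 24560460) (.leaf 1101868))) (.node (.node (.leaf 13837441) (.leaf 5636489)) (.node (.leaf 12770371) (.leaf 16835880)))) (.node (.node (.node (.leaf 5641522) (.leaf 21895665)) (.node (.leaf 31139052) (.leaf 10538500))) (.node (.node (.leaf 31278275)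 (.leaf 8178691)) (.leaf 30596467)))) (.node (.node (.node (.node (.leaf 10145251) (.leaf 7095971)) (.node (.leaf 15027267) (.leaf 6580041))) (.node (.node (.leaf 12000748) (.leaf 20046817)) (.node (.leaf 18908108) (.leaf 6922159)))) (.node (.node (.node (.leaf 6979602) (.leaf 30040558)) (.node (.leaf 10020) (.leaf 2752559))) (.node (.node (.leaf 28852291) (.leaf 1745166)) (.leaf 30041777)))))

/-- Part of the table `witT1`. -/
def witT1_aabbb : Tr := .node (.node (.node (.node (.node (.node (.leaf 27034473) (.leaf 23597489)) (.node (.leaf 17879276) (.leaf 17795361))) (.node (.node (.leaf 17588098) (.leaf 16770703)) (.node (.leaf 12854051) (.leaf 12405897)))) (.node (.node (.node (.leaf 21799859) (.leaf 26698153)) (.node (.leaf 1482888) (.leaf 12339308))) (.node (.node (.leaf 30219660) (.leaf 6605641)) (.leaf 2225)))) (.node (.node (.node (.node (.leaf 1967783) (.leaf 20637223)) (.node (.leaf 23958990) (.leaf 4344903))) (.node (.node (.leaf 482675) (.leaf 24069646)) (.node (.leaf 28468739) (.leaf 3787)))) (.node (.node (.node (.leaf 18081603) (.leaf 19352297)) (.node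 (.leaf 11455528) (.leaf 16030899))) (.node (.node (.leaf 1106913) (.leaf 7395875)) (.leaf 8610595))))) (.node (.node (.node (.node (.node (.leaf 27567081) (.leaf 14409697)) (.node (.leaf 8211148) (.leaf 18371847))) (.node (.node (.leaf 3794063) (.leaf 11308876)) (.node (.leaf 21488489) (.leaf 9816937)))) (.node (.node (.node (.leaf 27788456) (.leaf 12739139)) (.node (.leaf 16040684) (.leaf 29025612))) (.node (.node (.leaf 25447116) (.leaf 22104270)) (.leaf 8082705)))) (.node (.node (.node (.node (.leaf 18949763) (.leaf 15378036)) (.node (.leaf 28247364) (.leaf 30353071))) (.node (.node (.leaf 25498951) (.leaf 16074273)) (.node (.leaf 25888897) (.leaf 24594625)))) (.node (.node (.node (.leaf 13231599) (.leaf 5949075)) (.node (.leaf 15270222) (.leaf 3016236))) (.node (.node (.leaf 29909860) (.leaf 14754442)) (.leaf 11772580)))))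

/-- Part of the table `witT1`. -/
def witT1_aabb : Tr := .node witT1_aabba witT1_aabbb

/-- Part of the table `witT1`. -/
def witT1_aab : Tr := .node witT1_aaba witT1_aabb

/-- Part of the table `witT1`. -/
def witT1_aa : Tr := .node witT1_aaa witT1_aab

/-- Part of the table `witT1`. -/
def witT1_abaaa : Tr := .node (.node (.node (.node (.node (.node (.leaf 25464076) (.leaf 14244748)) (.node (.leaf 8627652) (.leaf 28544433))) (.node (.node (.leaf 11347075) (.leaf 26871978)) (.node (.leaf 3753153) (.leaf 20374755)))) (.node (.node (.node (.leaf 15697313) (.leaf 12245932)) (.node (.leaf 13179788) (.leaf 3106407))) (.node (.node (.leaf 29887265) (.leaf 5725516)) (.leaf 13421121)))) (.node (.node (.node (.node (.leaf 58345) (.leaf 12539474)) (.node (.leaf 8559888) (.leaf 1936483))) (.node (.node (.leaf 4164385) (.leaf 5774796)) (.node (.leaf 26247182) (.leaf 27993385)))) (.node (.node (.node (.leaf 26596172) (.leaf 15729127)) (.node (.leaf 16351396) (.leaf 5508547))) (.node (.node (.leaf 5017356) (.leaf 30524772)) (.leaf 4326689))))) (.node (.node (.node (.node (.node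 (.leaf 6504964) (.leaf 30937025)) (.node (.leaf 6693603) (.leaf 16830380))) (.node (.node (.leaf 22077193) (.leaf 16470574)) (.node (.leaf 547626) (.leaf 1975662)))) (.node (.node (.node (.leaf 3712628) (.leaf 3594735)) (.node (.leaf 26813322) (.leaf 18663843))) (.node (.node (.leaf 2352115) (.leaf 10273766)) (.leaf 26073153)))) (.node (.node (.node (.node (.leaf 29755684) (.leaf 8688204)) (.node (.leaf 3219619) (.leaf 19620559))) (.node (.node (.leaf 20158098) (.leaf 25167204)) (.node (.leaf 6464865) (.leaf 26074830)))) (.node (.node (.node (.leaf 3164547) (.leaf 29529580)) (.node (.leaf 7775815) (.leaf 15262273))) (.node (.node (.leaf 4285186) (.leaf 12740225)) (.leaf 5924393)))))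

/-- Part of the table `witT1`. -/
def witT1_abaab : Tr := .node (.node (.node (.node (.node (.node (.leaf 30909196) (.leaf 5950132)) (.node (.leaf 30303048) (.leaf 26052001))) (.node (.node (.leaf 25694476) (.leaf 23429741)) (.node (.leaf 23794097) (.leaf 12880135)))) (.node (.node (.node (.leaf 22350700) (.leaf 23599242)) (.node (.leaf 25502564) (.leaf 11097580))) (.node (.node (.leaf 13754979) (.leaf 10783393)) (.leaf 12618026)))) (.node (.node (.node (.node (.leaf 7005582) (.leaf 5754668)) (.node (.leaf 9405106) (.leaf 14718855))) (.node (.node (.leaf 9122) (.leaf 9541768)) (.node (.leaf 13224935) (.leaf 13)))) (.node (.node (.node (.leaf 24775425) (.leaf 20418113)) (.node (.leaf 3164974) (.leaf 27714055))) (.node (.node (.leaf 10518860) (.leaf 21122417)) (.leaf 17793164))))) (.node (.node (.node (.node (.node (.leaf 14244650) (.leaf 14)) (.node (.leaf 30871521) (.leaf 7610700))) (.node (.node (.leaf 11521289) (.leaf 20398283)) (.node (.leaf 27903172) (.leaf 3266316)))) (.node (.node (.node (.leaf 4981004) (.leaf 2467433)) (.node (.leaf 6195233) (.leaf 22071425)))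 (.node (.node (.leaf 7506799) (.leaf 8692777)) (.leaf 22190889)))) (.node (.node (.node (.node (.leaf 5707079) (.leaf 9175753)) (.node (.leaf 27845234) (.leaf 23135497))) (.node (.node (.leaf 7281383) (.leaf 20044590)) (.node (.leaf 13852108) (.leaf 21235148)))) (.node (.node (.node (.leaf 6097985) (.leaf 595084)) (.node (.leaf 1646153) (.leaf 27984106))) (.node (.node (.leaf 29967817) (.leaf 14418945)) (.leaf 15614312)))))

/-- Part of the table `witT1`. -/
def witT1_abaa : Tr := .node witT1_abaaa witT1_abaab

/-- Part of the table `witT1`. -/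
def witT1_ababa : Tr := .node (.node (.node (.node (.node (.node (.leaf 15291401) (.leaf 30581897)) (.node (.leaf 13229699) (.leaf 8085065))) (.node (.node (.leaf 1704324) (.leaf 23287091)) (.node (.leaf 4344463) (.leaf 28629793)))) (.node (.node (.node (.leaf 27518033) (.leaf 20898468)) (.node (.leaf 27610822) (.leaf 6186337))) (.node (.node (.leaf 3970) (.leaf 31384268)) (.leaf 4145770)))) (.node (.node (.node (.node (.leaf 28560681) (.leaf 5136531)) (.node (.leaf 6169455) (.leaf 22077347))) (.node (.node (.leaf 1753895) (.leaf 8640946)) (.node (.leaf 53713) (.leaf 30940108)))) (.node (.node (.node (.leaf 28840489) (.leaf 25891980)) (.node (.leaf 2427466) (.leaf 20104961))) (.node (.node (.leaf 19424460) (.leaf 628579)) (.leaf 27878537))))) (.node (.node (.node (.node (.node (.leaf 1869057) (.leaf 19043763)) (.node (.leaf 4149482) (.leaf 21630066))) (.node (.node (.leaf 6213513) (.leaf 12215474)) (.node (.leaf 26695372) (.leaf 18814824)))) (.node (.node (.node (.leaf 28377516) (.leaf 6677388)) (.node (.leaf 8194567) (.leaf 6678254))) (.node (.node (.leaf 22193002)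 (.leaf 28100289)) (.leaf 5999820)))) (.node (.node (.node (.node (.leaf 26368131) (.leaf 11224012)) (.node (.leaf 6955937) (.leaf 8342343))) (.node (.node (.leaf 10092878) (.leaf 1547148)) (.node (.leaf 20989523) (.leaf 19792513)))) (.node (.node (.node (.leaf 31056584) (.leaf 28385122)) (.node (.leaf 18324265) (.leaf 29313770))) (.node (.node (.leaf 17122316) (.leaf 12)) (.leaf 25478019)))))

/-- Part of the table `witT1`. -/
def witT1_ababb : Tr := .node (.node (.node (.node (.node (.node (.leaf 31426451) (.leaf 23798345)) (.node (.leaf 15830284) (.leaf 18147044))) (.node (.node (.leaf 8718259) (.leaf 24486611)) (.node (.leaf 14114218) (.leaf 15132195)))) (.node (.node (.node (.leaf 31023753) (.leaf 17994273)) (.node (.leaf 4773170) (.leaf 6310121))) (.node (.node (.leaf 15323337) (.leaf 6985964)) (.leaf 26156547)))) (.node (.node (.node (.node (.leaf 14246627) (.leaf 14229071)) (.node (.leaf 16716010) (.leaf 24611812))) (.node (.node (.leaf 10460227) (.leaf 30083849)) (.node (.leaf 17653772) (.leaf 29778979)))) (.node (.node (.node (.leaf 29090883) (.leaf 14701580))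 (.node (.leaf 9540914) (.leaf 21889681))) (.node (.node (.leaf 26516737) (.leaf 25920396)) (.leaf 19206732))))) (.node (.node (.node (.node (.node (.leaf 9457121) (.leaf 25595313)) (.node (.leaf 3710127) (.leaf 15680865))) (.node (.node (.leaf 31199937) (.leaf 13015532)) (.node (.leaf 5544199) (.leaf 22078828)))) (.node (.node (.node (.leaf 20481297) (.leaf 20728306)) (.node (.leaf 27853539) (.leaf 17244460))) (.node (.node (.leaf 2789420) (.leaf 30434081)) (.leaf 19744911)))) (.node (.node (.node (.node (.leaf 8722474) (.leaf 15113132)) (.node (.leaf 6071748) (.leaf 29722802))) (.node (.node (.leaf 24599695) (.leaf 28515265)) (.node (.leaf 5564111) (.leaf 22963393)))) (.node (.node (.node (.leaf 18023470) (.leaf 72961)) (.node (.leaf 27789203) (.leaf 4294689))) (.node (.node (.leaf 13223468) (.leaf 3284364)) (.leaf 17802318)))))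

/-- Part of the table `witT1`. -/
def witT1_abab : Tr := .node witT1_ababa witT1_ababb

/-- Part of the table `witT1`. -/
def witT1_aba : Tr := .node witT1_abaa witT1_abab

/-- Part of the table `witT1`. -/
def witT1_abbaa : Tr := .node (.node (.node (.node (.node (.node (.leaf 29311632) (.leaf 13813411)) (.node (.leaf 25388003) (.leaf 723697))) (.node (.node (.leaf 29853927) (.leaf 29316074)) (.node (.leaf 10275660) (.leaf 15485252)))) (.node (.node (.node (.leaf 12322850) (.leaf 22859014)) (.node (.leaf 10166146) (.leaf 30221217))) (.node (.node (.leaf 17879116) (.leaf 28250734)) (.leaf 25499905)))) (.node (.node (.node (.node (.leaf 19703428) (.leaf 25379715)) (.node (.leaf 28905154) (.leaf 8801129))) (.node (.node (.leaf 679009) (.leaf 1418593)) (.node (.leaf 25466595) (.leaf 4433615)))) (.node (.node (.node (.leaf 28906060) (.leaf 17683220)) (.node (.leaf 23946825) (.leaf 3712620))) (.node (.node (.leaf 24798057) (.leaf 22846979)) (.leaf 20407278))))) (.node (.node (.node (.node (.node (.leaf 22371425) (.leaf 8412170)) (.node (.leaf 16213545) (.leaf 16557074)))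 (.node (.node (.leaf 12606690) (.leaf 28745164)) (.node (.leaf 2074319) (.leaf 18745962)))) (.node (.node (.node (.leaf 15245068) (.leaf 10783401)) (.node (.leaf 447980) (.leaf 6998883))) (.node (.node (.leaf 2096) (.leaf 6592946)) (.leaf 10782953)))) (.node (.node (.node (.node (.leaf 8348274) (.leaf 29320778)) (.node (.leaf 21072906) (.leaf 20204647))) (.node (.node (.leaf 16813416) (.leaf 26348233)) (.node (.leaf 10846833) (.leaf 18614926)))) (.node (.node (.node (.leaf 12813921) (.leaf 12377991)) (.node (.leaf 8708809) (.leaf 19045633))) (.node (.node (.leaf 17962476) (.leaf 1229295)) (.leaf 727375)))))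

/-- Part of the table `witT1`. -/
def witT1_abbab : Tr := .node (.node (.node (.node (.node (.node (.leaf 8705064) (.leaf 22298819)) (.node (.leaf 18157827) (.leaf 12985577))) (.node (.node (.leaf 7955178) (.leaf 7686958)) (.node (.leaf 30526479) (.leaf 28116615)))) (.node (.node (.node (.leaf 7570316) (.leaf 17074819)) (.node (.leaf 11099315) (.leaf 13288163))) (.node (.node (.leaf 3589249) (.leaf 22760591)) (.leaf 623146)))) (.node (.node (.node (.node (.leaf 6627950) (.leaf 2547148)) (.node (.leaf 15279752) (.leaf 18433356))) (.node (.node (.leaf 19222465) (.leaf 5837615)) (.node (.leaf 23595279) (.leaf 23644289)))) (.node (.node (.node (.leaf 8064514) (.leaf 992227)) (.node (.leaf 20649287) (.leaf 30035432))) (.node (.node (.leaf 6360641) (.leaf 11459500)) (.leaf 30877391))))) (.node (.node (.node (.node (.node (.leaf 6578956) (.leaf 14410665)) (.node (.leaf 2188499) (.leaf 3417793))) (.node (.node (.leaf 2802499) (.leaf 28165385)) (.node (.leaf 10429130) (.leaf 12534567)))) (.node (.node (.node (.leaf 16209862) (.leaf 30263809)) (.node (.leaf 26591401) (.leaf 3591471)))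 (.node (.node (.leaf 19634035) (.leaf 26627473)) (.leaf 14722881)))) (.node (.node (.node (.node (.leaf 30788905) (.leaf 8571180)) (.node (.leaf 21236238) (.leaf 29238631))) (.node (.node (.leaf 5089107) (.leaf 27402817)) (.node (.leaf 26986017) (.leaf 10682953)))) (.node (.node (.node (.leaf 5202252) (.leaf 11029450)) (.node (.leaf 8521060) (.leaf 23237230))) (.node (.node (.leaf 31328291) (.leaf 2376898)) (.leaf 11699050)))))

/-- Part of the table `witT1`. -/
def witT1_abba : Tr := .node witT1_abbaa witT1_abbab

/-- Part of the table `witT1`. -/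
def witT1_abbba : Tr := .node (.node (.node (.node (.node (.node (.leaf 11706723) (.leaf 27527890)) (.node (.leaf 14404393) (.leaf 18433875))) (.node (.node (.leaf 12740131) (.leaf 27661223)) (.node (.leaf 29872808) (.leaf 1394319)))) (.node (.node (.node (.leaf 17868170) (.leaf 3212338)) (.node (.leaf 28059174) (.leaf 12127171))) (.node (.node (.leaf 7956019) (.leaf 26601281)) (.leaf 6621441)))) (.node (.node (.node (.node (.leaf 23382798) (.leaf 7791716)) (.node (.leaf 20990350) (.leaf 8555106))) (.node (.node (.leaf 17270856) (.leaf 3875969)) (.node (.leaf 29379247) (.leaf 16023661)))) (.node (.node (.node (.leaf 22927340) (.leaf 13521761)) (.node (.leaf 7062049) (.leaf 25470537))) (.node (.node (.leaf 19678988) (.leaf 3887809)) (.leaf 10952756))))) (.node (.node (.node (.node (.node (.leaf 8673128) (.leaf 8111463)) (.node (.leaf 5524868) (.leaf 6015820))) (.node (.node (.leaf 29713060) (.leaf 14880425)) (.node (.leaf 7661063) (.leaf 27659684)))) (.node (.node (.node (.leaf 24102145) (.leaf 19826540)) (.node (.leaf 3968465) (.leaf 12173348))) (.node (.node (.leaf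 15247145) (.leaf 21958020)) (.leaf 5540520)))) (.node (.node (.node (.node (.leaf 30445612) (.leaf 5654735)) (.node (.leaf 23282988) (.leaf 16475393))) (.node (.node (.leaf 25502921) (.leaf 22106380)) (.node (.leaf 8119971) (.leaf 26268012)))) (.node (.node (.node (.leaf 4246924) (.leaf 3955628)) (.node (.leaf 14403945) (.leaf 24502956))) (.node (.node (.leaf 17793737) (.leaf 26371278)) (.leaf 3738026)))))

/-- Part of the table `witT1`. -/
def witT1_abbbb : Tr := .node (.node (.node (.node (.node (.node (.leaf 3981934) (.leaf 22796231)) (.node (.leaf 16081804) (.leaf 23635599))) (.node (.node (.leaf 5957289) (.leaf 25465479)) (.node (.leaf 24298761) (.leaf 8553710)))) (.node (.node (.node (.leaf 19826118) (.leaf 13485996)) (.node (.leaf 25470083) (.leaf 20448361))) (.node (.node (.leaf 6654531) (.leaf 11765930)) (.leaf 14375394)))) (.node (.node (.node (.node (.leaf 31282956) (.leaf 22119756)) (.node (.leaf 31131625) (.leaf 25970985))) (.node (.node (.leaf 24448940) (.leaf 18898412)) (.node (.leaf 28905441) (.leaf 3589491)))) (.node (.node (.node (.leaf 15715716) (.leaf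 29542697)) (.node (.leaf 28019251) (.leaf 27202668))) (.node (.node (.leaf 26890284) (.leaf 3590723)) (.leaf 25500449))))) (.node (.node (.node (.node (.node (.leaf 6376) (.leaf 16796524)) (.node (.leaf 20044713) (.leaf 6363822))) (.node (.node (.leaf 1827972) (.leaf 26941571)) (.node (.leaf 10823108) (.leaf 6292195)))) (.node (.node (.node (.leaf 12259400) (.leaf 6634)) (.node (.leaf 23108492) (.leaf 4072332))) (.node (.node (.leaf 25171529) (.leaf 5808035)) (.leaf 19864130)))) (.node (.node (.node (.node (.leaf 25468775) (.leaf 22072291)) (.node (.leaf 5539730) (.leaf 9266003))) (.node (.node (.leaf 5183331) (.leaf 31139338)) (.node (.leaf 22431474) (.leaf 17877960)))) (.node (.node (.node (.leaf 30713068) (.leaf 7605220)) (.node (.leaf 28787689) (.leaf 26886569))) (.node (.node (.leaf 20) (.leaf 8818947)) (.leaf 15368487)))))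

/-- Part of the table `witT1`. -/
def witT1_abbb : Tr := .node witT1_abbba witT1_abbbb

/-- Part of the table `witT1`. -/
def witT1_abb : Tr := .node witT1_abba witT1_abbb

/-- Part of the table `witT1`. -/
def witT1_ab : Tr := .node witT1_aba witT1_abb

/-- Part of the table `witT1`. -/
def witT1_a : Tr := .node witT1_aa witT1_ab

/-- Part of the table `witT1`. -/
def witT1_baaaa : Tr := .node (.node (.node (.node (.node (.node (.leaf 29314625) (.leaf 17090471)) (.node (.leaf 25502983) (.leaf 4868455))) (.node (.node (.leaf 23629967) (.leaf 15943570)) (.node (.leaf 28452489) (.leaf 8963489)))) (.node (.node (.node (.leaf 10618657) (.leaf 8555599)) (.node (.leaf 1171656) (.leaf 14273137))) (.node (.node (.leaf 11716302) (.leaf 2433036)) (.leaf 29069546)))) (.node (.node (.node (.node (.leaf 6362090) (.leaf 25841484)) (.node (.leaf 12920014) (.leaf 17236035))) (.node (.node (.leaf 13705486) (.leaf 7898092)) (.node (.leaf 15698193) (.leaf 4284788)))) (.node (.node (.node (.leaf 24188012) (.leaf 20599052)) (.node (.leaf 29185132) (.leaf 14755233))) (.node (.node (.leaf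 31319620) (.leaf 25051692)) (.leaf 31327233))))) (.node (.node (.node (.node (.node (.leaf 5268738) (.leaf 2772334)) (.node (.leaf 17654115) (.leaf 7609901))) (.node (.node (.leaf 13099779) (.leaf 11536329)) (.node (.leaf 14025132) (.leaf 23431662)))) (.node (.node (.node (.leaf 4211081) (.leaf 10454659)) (.node (.leaf 5603889) (.leaf 25500809))) (.node (.node (.leaf 27083681) (.leaf 5294787)) (.leaf 4325764)))) (.node (.node (.node (.node (.leaf 30037556) (.leaf 16032618)) (.node (.leaf 24648588) (.leaf 20251841))) (.node (.node (.leaf 29861604) (.leaf 14715180)) (.node (.leaf 31350291) (.leaf 19402319)))) (.node (.node (.node (.leaf 20177615) (.leaf 5081603)) (.node (.leaf 12542945) (.leaf 30034380))) (.node (.node (.leaf 18271634) (.leaf 6981809)) (.leaf 29673417)))))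

/-- Part of the table `witT1`. -/
def witT1_baaab : Tr := .node (.node (.node (.node (.node (.node (.leaf 16826956) (.leaf 7392655)) (.node (.leaf 25495667) (.leaf 3729))) (.node (.node (.leaf 4934409) (.leaf 11946241)) (.node (.leaf 8283556) (.leaf 20417601)))) (.node (.node (.node (.leaf 4592300) (.leaf 14749011)) (.node (.leaf 501390) (.leaf 6981673))) (.node (.node (.leaf 20399379) (.leaf 25298721)) (.leaf 2608431)))) (.node (.node (.node (.node (.leaf 28808786) (.leaf 24823553)) (.node (.leaf 5710730) (.leaf 5836495))) (.node (.node (.leaf 18154767) (.leaf 7586380)) (.node (.leaf 3171) (.leaf 7530)))) (.node (.node (.node (.leaf 16403106) (.leaf 19747500)) (.node (.leaf 7759657) (.leaf 27984840))) (.node (.node (.leaf 4953415) (.leaf 40396)) (.leaf 13622915))))) (.node (.node (.node (.node (.node (.leaf 22780274) (.leaf 10131313)) (.node (.leaf 2426322) (.leaf 13617345))) (.node (.node (.leaf 5917512) (.leaf 413420)) (.node (.leaf 14848451) (.leaf 29362024)))) (.node (.node (.node (.leaf 23977420) (.leaf 5607)) (.node (.leaf 17924492) (.leaf 30532513))) (.node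 (.node (.leaf 29220652) (.leaf 25758833)) (.leaf 25070451)))) (.node (.node (.node (.node (.leaf 8218313) (.leaf 18303660)) (.node (.leaf 4802788) (.leaf 26790673))) (.node (.node (.leaf 25470473) (.leaf 21992940)) (.node (.leaf 22897587) (.leaf 6752937)))) (.node (.node (.node (.leaf 6497618) (.leaf 11951532)) (.node (.leaf 20914095) (.leaf 28165068))) (.node (.node (.leaf 17785874) (.leaf 27808769)) (.leaf 20450156)))))

/-- Part of the table `witT1`. -/
def witT1_baaa : Tr := .node witT1_baaaa witT1_baaab

/-- Part of the table `witT1`. -/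
def witT1_baaba : Tr := .node (.node (.node (.node (.node (.node (.leaf 9019849) (.leaf 16737985)) (.node (.leaf 21423555) (.leaf 19631503))) (.node (.node (.leaf 3335433) (.leaf 15730959)) (.node (.leaf 28862180) (.leaf 21339055)))) (.node (.node (.node (.leaf 22791023) (.leaf 11049196)) (.node (.leaf 2351980) (.leaf 8182700))) (.node (.node (.leaf 4082433) (.leaf 1558737)) (.leaf 4246888)))) (.node (.node (.node (.node (.leaf 5088995) (.leaf 984002)) (.node (.leaf 4620908) (.leaf 24487587))) (.node (.node (.leaf 12340484) (.leaf 674514)) (.node (.leaf 10981324) (.leaf 21185028)))) (.node (.node (.node (.leaf 2280931) (.leaf 4326700)) (.node (.leaf 27741295) (.leaf 24905769))) (.node (.node (.leaf 20400713) (.leaf 11374056)) (.leaf 19890833))))) (.node (.node (.node (.node (.node (.leaf 28003020) (.leaf 30316914)) (.node (.leaf 10947305) (.leaf 8821130))) (.node (.node (.leaf 10816304) (.leaf 12330639)) (.node (.leaf 2216) (.leaf 1640481)))) (.node (.node (.node (.leaf 4915499) (.leaf 15393351)) (.node (.leaf 25593441) (.leaf 11740769))) (.node (.node (.leaf 15) (.leaf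 13751954)) (.leaf 19048193)))) (.node (.node (.node (.node (.leaf 10410094) (.leaf 9770986)) (.node (.leaf 20062633) (.leaf 9622319))) (.node (.node (.leaf 8214022) (.leaf 6851436)) (.node (.leaf 4871463) (.leaf 13428074)))) (.node (.node (.node (.leaf 5442084) (.leaf 31319626)) (.node (.leaf 4871474) (.leaf 7848196))) (.node (.node (.leaf 16373506) (.leaf 4146433)) (.leaf 9604673)))))

/-- Part of the table `witT1`. -/
def witT1_baabb : Tr := .node (.node (.node (.node (.node (.node (.leaf 20292689) (.leaf 17850668)) (.node (.leaf 12700225) (.leaf 10896364))) (.node (.node (.leaf 5564113) (.leaf 23240492)) (.node (.leaf 1545217) (.leaf 27985422)))) (.node (.node (.node (.leaf 20046922) (.leaf 853871)) (.node (.leaf 30543784) (.leaf 17252868))) (.node (.node (.leaf 27984844) (.leaf 7791169)) (.leaf 31245667)))) (.node (.node (.node (.node (.leaf 26708201) (.leaf 12739811)) (.node (.leaf 18589171) (.leaf 23910377))) (.node (.node (.leaf 28875747) (.leaf 5442281)) (.node (.leaf 30877321) (.leaf 3335425)))) (.node (.node (.node (.leaf 11592905) (.leaf 8603754)) (.node (.leaf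 21308162) (.leaf 6998564))) (.node (.node (.leaf 16078671) (.leaf 1065674)) (.leaf 20023304))))) (.node (.node (.node (.node (.node (.leaf 21891657) (.leaf 5083212)) (.node (.leaf 27501570) (.leaf 2286985))) (.node (.node (.leaf 16518049) (.leaf 7749831)) (.node (.leaf 26545231) (.leaf 2785705)))) (.node (.node (.node (.leaf 22119721) (.leaf 22862351)) (.node (.leaf 23593994) (.leaf 15125097))) (.node (.node (.leaf 1625569) (.leaf 1107783)) (.leaf 26283788)))) (.node (.node (.node (.node (.leaf 15993521) (.leaf 1854479)) (.node (.leaf 3919146) (.leaf 22892995))) (.node (.node (.leaf 14836451) (.leaf 3784)) (.node (.leaf 11978058) (.leaf 23698410)))) (.node (.node (.node (.leaf 18794729) (.leaf 31329796)) (.node (.leaf 10800385) (.leaf 30591246))) (.node (.node (.leaf 1696204) (.leaf 3363948)) (.leaf 10534954)))))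

/-- Part of the table `witT1`. -/
def witT1_baab : Tr := .node witT1_baaba witT1_baabb

/-- Part of the table `witT1`. -/
def witT1_baa : Tr := .node witT1_baaa witT1_baab

/-- Part of the table `witT1`. -/
def witT1_babaa : Tr := .node (.node (.node (.node (.node (.node (.leaf 24011969) (.leaf 20123826)) (.node (.leaf 9291784) (.leaf 12157836))) (.node (.node (.leaf 12051689) (.leaf 25332170)) (.node (.leaf 25004898) (.leaf 20333569)))) (.node (.node (.node (.leaf 5458604) (.leaf 25608588)) (.node (.leaf 19572532) (.leaf 6677258))) (.node (.node (.leaf 17794963) (.leaf 21597027)) (.leaf 5558860)))) (.node (.node (.node (.node (.leaf 26332524) (.leaf 16128297)) (.node (.leaf 16226311) (.leaf 19352419))) (.node (.node (.leaf 30860135) (.leaf 25143075)) (.node (.leaf 427873) (.leaf 11935713)))) (.node (.node (.node (.leaf 23726881) (.leaf 15126706)) (.node (.leaf 5523564) (.leaf 30074131))) (.node (.node (.leaf 21142665) (.leaf 24483123)) (.leaf 17475059))))) (.node (.node (.node (.node (.node (.leaf 1070924) (.leaf 7849825)) (.node (.leaf 27544131) (.leaf 23370924)))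 (.node (.node (.leaf 2729411) (.leaf 9593603)) (.node (.leaf 8947346) (.leaf 3187314)))) (.node (.node (.node (.leaf 16402724) (.leaf 31147137)) (.node (.leaf 14538313) (.leaf 26153513))) (.node (.node (.leaf 27255407) (.leaf 28791820)) (.leaf 16472686)))) (.node (.node (.node (.node (.leaf 29222625) (.leaf 330819)) (.node (.leaf 1418819) (.leaf 20553068))) (.node (.node (.leaf 2499630) (.leaf 1057634)) (.node (.leaf 14107468) (.leaf 10026)))) (.node (.node (.node (.leaf 21677327) (.leaf 24365870)) (.node (.leaf 19302826) (.leaf 6366788))) (.node (.node (.leaf 52044) (.leaf 6900556)) (.leaf 2114)))))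

/-- Part of the table `witT1`. -/
def witT1_babab : Tr := .node (.node (.node (.node (.node (.node (.leaf 8604291) (.leaf 18031585)) (.node (.leaf 9374537) (.leaf 2736))) (.node (.node (.leaf 5236143) (.leaf 25694796)) (.node (.leaf 4825953) (.leaf 3411425)))) (.node (.node (.node (.leaf 13914476) (.leaf 15420936)) (.node (.leaf 5546900) (.leaf 19989962))) (.node (.node (.leaf 19341986) (.leaf 15386625)) (.leaf 1758802)))) (.node (.node (.node (.node (.leaf 16197130) (.leaf 29909898)) (.node (.leaf 5276268) (.leaf 18421452))) (.node (.node (.leaf 22433107) (.leaf 22799692)) (.node (.leaf 25191790) (.leaf 30287457)))) (.node (.node (.node (.leaf 27640076) (.leaf 17040618)) (.node (.leaf 23666793) (.leaf 27987210))) (.node (.node (.leaf 7476044) (.leaf 21119598)) (.leaf 7950346))))) (.node (.node (.node (.node (.node (.leaf 13917329) (.leaf 23479523)) (.node (.leaf 15108780) (.leaf 7480099))) (.node (.node (.leaf 10126337) (.leaf 19893714)) (.node (.leaf 10585505) (.leaf 23598600)))) (.node (.node (.node (.leaf 24402217) (.leaf 31334856)) (.node (.leaf 17930094) (.leaf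 1303404))) (.node (.node (.leaf 17536140) (.leaf 29852652)) (.leaf 16124257)))) (.node (.node (.node (.node (.leaf 2171406) (.leaf 13328360)) (.node (.leaf 26645966) (.leaf 3737281))) (.node (.node (.leaf 26233617) (.leaf 31024772)) (.node (.leaf 9462147) (.leaf 1497578)))) (.node (.node (.node (.leaf 16075746) (.leaf 8014593)) (.node (.leaf 11887331) (.leaf 28050627))) (.node (.node (.leaf 11519233) (.leaf 9230019)) (.leaf 5521992)))))

/-- Part of the table `witT1`. -/
def witT1_baba : Tr := .node witT1_babaa witT1_babab

/-- Part of the table `witT1`. -/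
def witT1_babba : Tr := .node (.node (.node (.node (.node (.node (.leaf 29615849) (.leaf 15017667)) (.node (.leaf 8324771) (.leaf 24889706))) (.node (.node (.leaf 18749001) (.leaf 9817380)) (.node (.leaf 4285217) (.leaf 31051713)))) (.node (.node (.node (.leaf 23389922) (.leaf 1107018)) (.node (.leaf 24894120) (.leaf 23905473))) (.node (.node (.leaf 1596722) (.leaf 8274308)) (.leaf 9692098)))) (.node (.node (.node (.node (.leaf 29124004) (.leaf 2089)) (.node (.leaf 18846282) (.leaf 25894819))) (.node (.node (.leaf 13009228) (.leaf 19892809)) (.node (.leaf 1951076) (.leaf 30052643)))) (.node (.node (.node (.leaf 24011818) (.leaf 3268915)) (.node (.leaf 12540718) (.leaf 20028588))) (.node (.node (.leaf 19303201) (.leaf 28402369)) (.leaf 2539820))))) (.node (.node (.node (.node (.node (.leaf 24889475) (.leaf 23284433)) (.node (.leaf 22881770) (.leaf 26593057))) (.node (.node (.leaf 4066151) (.leaf 7652772)) (.node (.leaf 14697795) (.leaf 22744367)))) (.node (.node (.node (.leaf 27988785) (.leaf 28165646)) (.node (.leaf 17883596) (.leaf 1706947))) (.node (.node (.leaf 31410339)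 (.leaf 4433617)) (.leaf 24889892)))) (.node (.node (.node (.node (.leaf 29115681) (.leaf 17974092)) (.node (.leaf 4548353) (.leaf 16304227))) (.node (.node (.leaf 1828617) (.leaf 1739980)) (.node (.leaf 21792977) (.leaf 29877289)))) (.node (.node (.node (.leaf 90537) (.leaf 4524289)) (.node (.leaf 29334732) (.leaf 5721260))) (.node (.node (.leaf 3923343) (.leaf 25955274)) (.leaf 1397100)))))

/-- Part of the table `witT1`. -/
def witT1_babbb : Tr := .node (.node (.node (.node (.node (.node (.leaf 8233459) (.leaf 2871084)) (.node (.leaf 24512972) (.leaf 790190))) (.node (.node (.leaf 18081283) (.leaf 11378382)) (.node (.leaf 21236225) (.leaf 2180968)))) (.node (.node (.node (.leaf 430895) (.leaf 16737516)) (.node (.leaf 20211369) (.leaf 22119665))) (.node (.node (.leaf 13310986) (.leaf 11471843)) (.leaf 19336009)))) (.node (.node (.node (.node (.leaf 18793604) (.leaf 156364)) (.node (.leaf 5545298) (.leaf 6070798))) (.node (.node (.leaf 23907043) (.leaf 16469196)) (.node (.leaf 5508003) (.leaf 12707299)))) (.node (.node (.node (.leaf 24807555) (.leaf 4522)) (.node (.leaf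 27123148) (.leaf 23170705))) (.node (.node (.leaf 25372298) (.leaf 25600947)) (.leaf 9455206))))) (.node (.node (.node (.node (.node (.leaf 2187983) (.leaf 30089673)) (.node (.leaf 13454094) (.leaf 17089132))) (.node (.node (.leaf 4802817) (.leaf 28796385)) (.node (.leaf 12101153) (.leaf 22285379)))) (.node (.node (.node (.leaf 19662380) (.leaf 21693345)) (.node (.leaf 26797482) (.leaf 16124705))) (.node (.node (.leaf 20948360) (.leaf 5539571)) (.leaf 28499626)))) (.node (.node (.node (.node (.leaf 13673132) (.leaf 17)) (.node (.leaf 11718626) (.leaf 2759457))) (.node (.node (.leaf 13911695) (.leaf 13830130)) (.node (.leaf 27478657) (.leaf 13273507)))) (.node (.node (.node (.leaf 10408147) (.leaf 19420172)) (.node (.leaf 6888545) (.leaf 16))) (.node (.node (.leaf 6234498) (.leaf 8626702)) (.leaf 6380)))))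

/-- Part of the table `witT1`. -/
def witT1_babb : Tr := .node witT1_babba witT1_babbb

/-- Part of the table `witT1`. -/
def witT1_bab : Tr := .node witT1_baba witT1_babb

/-- Part of the table `witT1`. -/
def witT1_ba : Tr := .node witT1_baa witT1_bab

/-- Part of the table `witT1`. -/
def witT1_bbaaa : Tr := .node (.node (.node (.node (.node (.node (.leaf 7377103) (.leaf 18416846)) (.node (.leaf 30038081) (.leaf 25809074))) (.node (.node (.leaf 19630890) (.leaf 23750252)) (.node (.leaf 1412577) (.leaf 5423436)))) (.node (.node (.node (.leaf 31034770) (.leaf 18481668)) (.node (.leaf 22808257) (.leaf 27796335))) (.node (.node (.leaf 8905871) (.leaf 14066567)) (.leaf 11214604)))) (.node (.node (.node (.node (.leaf 6587852) (.leaf 6032033)) (.node (.leaf 30786227) (.leaf 2148705))) (.node (.node (.leaf 26009932) (.leaf 3758057)) (.node (.leaf 4106051) (.leaf 545492)))) (.node (.node (.node (.leaf 24334762) (.leaf 20105900)) (.node (.leaf 2377993) (.leaf 11773203))) (.node (.node (.leaf 20989484) (.leaf 20859427)) (.leaf 26349154))))) (.node (.node (.node (.node (.node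 (.leaf 7855171) (.leaf 28722369)) (.node (.leaf 13657761) (.leaf 23627892))) (.node (.node (.leaf 23595337) (.leaf 22515169)) (.node (.leaf 6203175) (.leaf 27024834)))) (.node (.node (.node (.leaf 24479009) (.leaf 13428524)) (.node (.leaf 28876995) (.leaf 6576775))) (.node (.node (.leaf 19629932) (.leaf 728526)) (.leaf 30738083)))) (.node (.node (.node (.node (.leaf 13230856) (.leaf 20111116)) (.node (.leaf 24266604) (.leaf 18572545))) (.node (.node (.leaf 8020873) (.leaf 29248168)) (.node (.leaf 25205226) (.leaf 25925929)))) (.node (.node (.node (.leaf 16196961) (.leaf 18436044)) (.node (.leaf 7361100) (.leaf 30543788))) (.node (.node (.leaf 20439372) (.leaf 4661359)) (.leaf 18507497)))))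

/-- Part of the table `witT1`. -/
def witT1_bbaab : Tr := .node (.node (.node (.node (.node (.node (.leaf 24004707) (.leaf 22103235)) (.node (.leaf 29509956) (.leaf 5448321))) (.node (.node (.leaf 20520451) (.leaf 2182113)) (.node (.leaf 2149153) (.leaf 25076492)))) (.node (.node (.node (.leaf 21825897) (.leaf 17327204)) (.node (.leaf 19712289) (.leaf 21144777))) (.node (.node (.leaf 20600588) (.leaf 3704777)) (.leaf 30450734)))) (.node (.node (.node (.node (.leaf 19710665) (.leaf 6972782)) (.node (.leaf 16668238) (.leaf 7511177))) (.node (.node (.leaf 14018089) (.leaf 29363169)) (.node (.leaf 26577103) (.leaf 4638828)))) (.node (.node (.node (.leaf 20046894) (.leaf 10263916)) (.node (.leaf 29609708) (.leaf 6817993))) (.node (.node (.leaf 23543980) (.leaf 29959297)) (.leaf 31427215))))) (.node (.node (.node (.node (.node (.leaf 14109993) (.leaf 23429162)) (.node (.leaf 12715203) (.leaf 11150499))) (.node (.node (.leaf 4292850) (.leaf 18720481)) (.node (.leaf 31068466) (.leaf 30053386)))) (.node (.node (.node (.leaf 20274380) (.leaf 19301260)) (.node (.leaf 7360780)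 (.leaf 20680905))) (.node (.node (.leaf 6210052) (.leaf 5706991)) (.leaf 21276067)))) (.node (.node (.node (.node (.leaf 5579919) (.leaf 7148225)) (.node (.leaf 14328611) (.leaf 28007855))) (.node (.node (.leaf 18408626) (.leaf 27255395)) (.node (.leaf 15500071) (.leaf 29580912)))) (.node (.node (.node (.leaf 11931023) (.leaf 22551526)) (.node (.leaf 2065603) (.leaf 10871946))) (.node (.node (.leaf 12475459) (.leaf 13674287)) (.leaf 28231858)))))

/-- Part of the table `witT1`. -/
def witT1_bbaa : Tr := .node witT1_bbaaa witT1_bbaab

/-- Part of the table `witT1`. -/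
def witT1_bbaba : Tr := .node (.node (.node (.node (.node (.node (.leaf 27403587) (.leaf 10853838)) (.node (.leaf 16157193) (.leaf 5989603))) (.node (.node (.leaf 10669425) (.leaf 17681697)) (.node (.leaf 19) (.leaf 24896129)))) (.node (.node (.node (.leaf 22586067) (.leaf 13730862)) (.node (.leaf 15623507) (.leaf 22529905))) (.node (.node (.leaf 19400620) (.leaf 29582697)) (.leaf 14436514)))) (.node (.node (.node (.node (.leaf 22380684) (.leaf 7708777)) (.node (.leaf 9929740) (.leaf 9014025))) (.node (.node (.leaf 3941347) (.leaf 15991459)) (.node (.leaf 27630060) (.leaf 16023668)))) (.node (.node (.node (.leaf 1809198) (.leaf 7768451)) (.node (.leaf 7840329) (.leaf 12928801))) (.node (.node (.leaf 6235722) (.leaf 1164193)) (.leaf 17647058))))) (.node (.node (.node (.node (.node (.leaf 16352611) (.leaf 3218569)) (.node (.leaf 12534185) (.leaf 22366386))) (.node (.node (.leaf 6857609) (.leaf 5623596)) (.node (.leaf 17615308) (.leaf 24577540)))) (.node (.node (.node (.leaf 25444588) (.leaf 30597770)) (.node (.leaf 26365361) (.leaf 7347471))) (.node (.node (.leaf 3512814)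 (.leaf 18058092)) (.leaf 18668908)))) (.node (.node (.node (.node (.leaf 11574732) (.leaf 9538825)) (.node (.leaf 18235428) (.leaf 8474536))) (.node (.node (.leaf 1982732) (.leaf 23268620)) (.node (.leaf 28429379) (.leaf 18040353)))) (.node (.node (.node (.leaf 30041775) (.leaf 18794984)) (.node (.leaf 5191) (.leaf 21758220))) (.node (.node (.leaf 14401964) (.leaf 13844780)) (.leaf 21682665)))))

/-- Part of the table `witT1`. -/
def witT1_bbabb : Tr := .node (.node (.node (.node (.node (.node (.leaf 24920108) (.leaf 28878305)) (.node (.leaf 12412257) (.leaf 14827875))) (.node (.node (.leaf 16162562) (.leaf 19253518)) (.node (.leaf 6979601) (.leaf 29860140)))) (.node (.node (.node (.leaf 13223332) (.leaf 5711214)) (.node (.leaf 21220211) (.leaf 2219))) (.node (.node (.leaf 21480590) (.leaf 30425923)) (.leaf 23389929)))) (.node (.node (.node (.node (.leaf 12733033) (.leaf 30704391)) (.node (.leaf 26412305) (.leaf 12494499))) (.node (.node (.leaf 13387667) (.leaf 3739151)) (.node (.leaf 19024129) (.leaf 27492371)))) (.node (.node (.node (.leaf 11668963) (.leaf 5741546))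 (.node (.leaf 2352291) (.leaf 25117966))) (.node (.node (.leaf 4593455) (.leaf 24576908)) (.leaf 17621486))))) (.node (.node (.node (.node (.node (.leaf 27976937) (.leaf 23593447)) (.node (.leaf 17081123) (.leaf 29661985))) (.node (.node (.leaf 15696424) (.leaf 25158756)) (.node (.leaf 24419528) (.leaf 25974604)))) (.node (.node (.node (.leaf 26498926) (.leaf 5089000)) (.node (.leaf 11098921) (.leaf 24634249))) (.node (.node (.leaf 15697990) (.leaf 24809410)) (.leaf 11740041)))) (.node (.node (.node (.node (.leaf 19830643) (.leaf 1729196)) (.node (.leaf 28007663) (.leaf 16115203))) (.node (.node (.leaf 21452370) (.leaf 19630889)) (.node (.leaf 9455593) (.leaf 4296)))) (.node (.node (.node (.leaf 13226191) (.leaf 23662739)) (.node (.leaf 11946212) (.leaf 566387))) (.node (.node (.leaf 13754991) (.leaf 6738785)) (.leaf 12535971)))))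

/-- Part of the table `witT1`. -/
def witT1_bbab : Tr := .node witT1_bbaba witT1_bbabb

/-- Part of the table `witT1`. -/
def witT1_bba : Tr := .node witT1_bbaa witT1_bbab

/-- Part of the table `witT1`. -/
def witT1_bbbaa : Tr := .node (.node (.node (.node (.node (.node (.leaf 19842026) (.leaf 24268175)) (.node (.leaf 232001) (.leaf 28853228))) (.node (.node (.leaf 6314250) (.leaf 2803529)) (.node (.leaf 15637761) (.leaf 9463491)))) (.node (.node (.node (.leaf 20909458) (.leaf 337025)) (.node (.leaf 18465255) (.leaf 19710092))) (.node (.node (.leaf 20914638) (.leaf 19637161)) (.leaf 28527178)))) (.node (.node (.node (.node (.leaf 31132809) (.leaf 3332718)) (.node (.leaf 21373644) (.leaf 15663185))) (.node (.node (.leaf 20487308) (.leaf 14239303)) (.node (.leaf 18047884) (.leaf 3974820)))) (.node (.node (.node (.leaf 8553002) (.leaf 25121480)) (.node (.leaf 24906851) (.leaf 6766764))) (.node (.node (.leaf 9897484) (.leaf 26041484)) (.leaf 580492))))) (.node (.node (.node (.node (.node (.leaf 16779020) (.leaf 16371048)) (.node (.leaf 20416144) (.leaf 25372292))) (.node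 (.node (.leaf 12209449) (.leaf 30903490)) (.node (.leaf 6243986) (.leaf 21436963)))) (.node (.node (.node (.leaf 15958945) (.leaf 10626881)) (.node (.leaf 19306793) (.leaf 3712334))) (.node (.node (.leaf 12265098) (.leaf 3770947)) (.leaf 29575058)))) (.node (.node (.node (.node (.leaf 1215337) (.leaf 19614222)) (.node (.leaf 15370447) (.leaf 30707169))) (.node (.node (.leaf 6217164) (.leaf 30873356)) (.node (.leaf 26247183) (.leaf 9784360)))) (.node (.node (.node (.leaf 9627018) (.leaf 11534892)) (.node (.leaf 19617770) (.leaf 25028065))) (.node (.node (.leaf 28615585) (.leaf 23946371)) (.leaf 31262927)))))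

/-- Part of the table `witT1`. -/
def witT1_bbbab : Tr := .node (.node (.node (.node (.node (.node (.leaf 29234668) (.leaf 4163265)) (.node (.leaf 17802289) (.leaf 25682546))) (.node (.node (.leaf 9258055) (.leaf 23595240)) (.node (.leaf 24855779) (.leaf 329128)))) (.node (.node (.node (.leaf 22355121) (.leaf 26352785)) (.node (.leaf 20552106) (.leaf 8577827))) (.node (.node (.leaf 29876531) (.leaf 25969475)) (.leaf 25938828)))) (.node (.node (.node (.node (.leaf 2883748) (.leaf 31279310)) (.node (.leaf 5949633) (.leaf 23601737))) (.node (.node (.leaf 4047918) (.leaf 23597297)) (.node (.leaf 23242465) (.leaf 7180652)))) (.node (.node (.node (.leaf 24694185) (.leaf 7005353)) (.node (.leaf 4915315) (.leaf 7424330))) (.node (.node (.leaf 16737987) (.leaf 13124846)) (.leaf 21137523))))) (.node (.node (.node (.node (.node (.leaf 25691331) (.leaf 9218)) (.node (.leaf 4867329) (.leaf 1169745))) (.node (.node (.leaf 31285555) (.leaf 20038057)) (.node (.leaf 5540417) (.leaf 6037966)))) (.node (.node (.node (.leaf 11092782) (.leaf 21169633)) (.node (.leaf 4826881) (.leaf 644620)))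 (.node (.node (.leaf 2811379) (.leaf 11505452)) (.leaf 23725761)))) (.node (.node (.node (.node (.leaf 2802378) (.leaf 18947603)) (.node (.leaf 13651238) (.leaf 9099244))) (.node (.node (.leaf 23911564) (.leaf 19319777)) (.node (.leaf 19129575) (.leaf 24519150)))) (.node (.node (.node (.leaf 614505) (.leaf 564367)) (.node (.leaf 87756) (.leaf 28053772))) (.node (.node (.leaf 18470408) (.leaf 26378665)) (.leaf 22692385)))))

/-- Part of the table `witT1`. -/
def witT1_bbba : Tr := .node witT1_bbbaa witT1_bbbab

/-- Part of the table `witT1`. -/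
def witT1_bbbba : Tr := .node (.node (.node (.node (.node (.node (.leaf 5574057) (.leaf 26676521)) (.node (.leaf 25281777) (.leaf 8035626))) (.node (.node (.leaf 20402408) (.leaf 17802095)) (.node (.leaf 8556850) (.leaf 3625582)))) (.node (.node (.node (.leaf 9445666) (.leaf 23435112)) (.node (.leaf 18465268) (.leaf 9438851))) (.node (.node (.leaf 14377388) (.leaf 15712302)) (.leaf 6036737)))) (.node (.node (.node (.node (.leaf 20457057) (.leaf 13031279)) (.node (.leaf 11541512) (.leaf 24365185))) (.node (.node (.leaf 15852515) (.leaf 18)) (.node (.leaf 19629836) (.leaf 4662259)))) (.node (.node (.node (.leaf 23242066) (.leaf 7955106)) (.node (.leaf 3426161) (.leaf 25498472))) (.node (.node (.leaf 20946285) (.leaf 607010)) (.leaf 23667457))))) (.node (.node (.node (.node (.node (.leaf 951561) (.leaf 5115058)) (.node (.leaf 23668515) (.leaf 20401618))) (.node (.node (.leaf 4296426) (.leaf 30573105)) (.node (.leaf 17390857) (.leaf 17796883)))) (.node (.node (.node (.leaf 25502602) (.leaf 13455084)) (.node (.leaf 6794) (.leaf 8834890))) (.node (.node (.leaf 14026508) (.leaf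 6377731)) (.leaf 26350447)))) (.node (.node (.node (.node (.leaf 7414506) (.leaf 28121268)) (.node (.leaf 25919683) (.leaf 27993377))) (.node (.node (.leaf 6296017) (.leaf 17358130)) (.node (.leaf 12095939) (.leaf 20549642)))) (.node (.node (.node (.leaf 29083425) (.leaf 1631937)) (.node (.leaf 25682603) (.leaf 22301098))) (.node (.node (.leaf 12428083) (.leaf 6443372)) (.leaf 11029764)))))

/-- Part of the table `witT1`. -/
def witT1_bbbbb : Tr := .node (.node (.node (.node (.node (.node (.leaf 10738159) (.leaf 6546703)) (.node (.leaf 336785) (.leaf 22546284))) (.node (.node (.leaf 3957959) (.leaf 13706497)) (.node (.leaf 21136434) (.leaf 21456711)))) (.node (.node (.node (.leaf 541027) (.leaf 25896300)) (.node (.leaf 2810657) (.leaf 9032))) (.node (.node (.leaf 19045556) (.leaf 17680676)) (.leaf 24903692)))) (.node (.node (.node (.node (.leaf 27516842) (.leaf 19892323)) (.node (.leaf 8160588) (.leaf 9298730))) (.node (.node (.leaf 10150593) (.leaf 1074675)) (.node (.leaf 3167372) (.leaf 29498505)))) (.node (.node (.node (.leaf 7938060) (.leaf 17304521)) (.node (.leaf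 8193416) (.leaf 11931025))) (.node (.node (.leaf 2673956) (.leaf 15765228)) (.leaf 9955143))))) (.node (.node (.node (.node (.node (.leaf 28788035) (.leaf 4065736)) (.node (.leaf 29524782) (.leaf 14697810))) (.node (.node (.leaf 7004801) (.leaf 14699249)) (.node (.leaf 20057345) (.leaf 15993570)))) (.node (.node (.node (.leaf 26353998) (.leaf 20735113)) (.node (.leaf 19891475) (.leaf 2214))) (.node (.node (.leaf 20995715) (.leaf 11231660)) (.leaf 4023747)))) (.node (.node (.node (.node (.leaf 5542862) (.leaf 794446)) (.node (.leaf 11764297) (.leaf 2807628))) (.node (.node (.leaf 22291585) (.leaf 14435593)) (.node (.leaf 23733124) (.leaf 13222308)))) (.node (.node (.node (.leaf 8702212) (.leaf 5589955)) (.node (.leaf 14785006) (.leaf 5449102))) (.node (.node (.leaf 24478084) (.leaf 20547433)) (.leaf 8611649)))))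

/-- Part of the table `witT1`. -/
def witT1_bbbb : Tr := .node witT1_bbbba witT1_bbbbb

/-- Part of the table `witT1`. -/
def witT1_bbb : Tr := .node witT1_bbba witT1_bbbb

/-- Part of the table `witT1`. -/
def witT1_bb : Tr := .node witT1_bba witT1_bbb

/-- Part of the table `witT1`. -/
def witT1_b : Tr := .node witT1_ba witT1_bb

/-- Part of the table `witT1`. -/
def witT1_ : Tr := .node witT1_a witT1_b

/-- Conjugating elements for one suborbit. -/
def witT1 : Tr := witT1_

end Cfsg.Agent.JTwo
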