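import Cfsg.Agent.Lib.J2.Packed

/-!
# Conjugating elements, part 2
-/

set_option autoImplicit false
set_option maxRecDepth 10000

namespace Cfsg.Agent.JTwo

/-- Part of the table `witT2`. -/
def witT2_aaaaa : Tr := .node (.node (.node (.node (.node (.node (.leaf 26414068) (.leaf 4294351)) (.node (.leaf 3410892) (.leaf 15123596))) (.node (.node (.leaf 3265034) (.leaf 2805710)) (.node (.leaf 27809068) (.leaf 8750017)))) (.node (.node (.node (.leaf 13516974) (.leaf 19637683)) (.node (.leaf 15863561) (.leaf 13147118))) (.node (.node (.leaf 23060140) (.leaf 11575817)) (.leaf 27170081)))) (.node (.node (.node (.node (.leaf 26549480) (.leaf 12520904)) (.node (.leaf 3269293) (.leaf 2776673))) (.node (.node (.leaf 14895844) (.leaf 24333064)) (.node (.leaf 12165650) (.leaf 18585555)))) (.node (.node (.node (.leaf 5544723) (.leaf 7997714)) (.node (.leaf 5640076) (.leaf 10133519))) (.node (.node (.leaf 20504873) (.leaf 15697970)) (.leaf 26711297))))) (.node (.node (.node (.node (.node (.leaf 24487699) (.leaf 5134612)) (.node (.leaf 17866881) (.leaf 1417513))) (.node (.node (.leaf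 5517) (.leaf 9312588)) (.node (.leaf 31327657) (.leaf 24009710)))) (.node (.node (.node (.leaf 26985103) (.leaf 16665548)) (.node (.leaf 7866913) (.leaf 29541106))) (.node (.node (.leaf 5081641) (.leaf 17682625)) (.leaf 6228108)))) (.node (.node (.node (.node (.leaf 25267945) (.leaf 434163)) (.node (.leaf 15258020) (.leaf 24905839))) (.node (.node (.leaf 9297385) (.leaf 28854377)) (.node (.leaf 6202540) (.leaf 29184233)))) (.node (.node (.node (.leaf 28530468) (.leaf 8660818)) (.node (.leaf 5545992) (.leaf 26134753))) (.node (.node (.leaf 28607116) (.leaf 9390505)) (.leaf 8114060)))))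

/-- Part of the table `witT2`. -/
def witT2_aaaab : Tr := .node (.node (.node (.node (.node (.node (.leaf 17075553) (.leaf 24007151)) (.node (.leaf 3219491) (.leaf 4768303))) (.node (.node (.leaf 7832943) (.leaf 2170339)) (.node (.leaf 23481257) (.leaf 21826369)))) (.node (.node (.node (.leaf 27812105) (.leaf 3918068)) (.node (.leaf 19891753) (.leaf 4446995))) (.node (.node (.leaf 3184211) (.leaf 10739395)) (.leaf 24742313)))) (.node (.node (.node (.node (.leaf 30542376) (.leaf 23483347)) (.node (.leaf 27156769) (.leaf 7833230))) (.node (.node (.leaf 2572905) (.leaf 31279241)) (.node (.leaf 84932) (.leaf 8339562)))) (.node (.node (.node (.leaf 27627404) (.leaf 4660644)) (.node (.leaf 5839977) (.leaf 10640366))) (.node (.node (.leaf 19768947) (.leaf 335887)) (.leaf 13058703))))) (.node (.node (.node (.node (.node (.leaf 4738574) (.leaf 20897523)) (.node (.leaf 6508393) (.leaf 30313665))) (.node (.node (.leaf 19402945) (.leaf 12207817)) (.node (.leaf 23743726) (.leaf 10748658)))) (.node (.node (.node (.leaf 4021353) (.leaf 11914473)) (.node (.leaf 10409769) (.leaf 18418217)))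 (.node (.node (.leaf 16833193) (.leaf 10394467)) (.leaf 5086915)))) (.node (.node (.node (.node (.leaf 14359155) (.leaf 23601160)) (.node (.leaf 13279081) (.leaf 25971588))) (.node (.node (.leaf 8625608) (.leaf 4595395)) (.node (.leaf 12573604) (.leaf 12389505)))) (.node (.node (.node (.leaf 3005923) (.leaf 21912051)) (.node (.leaf 7967049) (.leaf 22320385))) (.node (.node (.leaf 13060580) (.leaf 15145652)) (.leaf 13388201)))))

/-- Part of the table `witT2`. -/
def witT2_aaaa : Tr := .node witT2_aaaaa witT2_aaaab

/-- Part of the table `witT2`. -/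
def witT2_aaaba : Tr := .node (.node (.node (.node (.node (.node (.leaf 8553001) (.leaf 12747745)) (.node (.leaf 19570404) (.leaf 5069249))) (.node (.node (.leaf 30073353) (.leaf 2310796)) (.node (.leaf 7426604) (.leaf 25248809)))) (.node (.node (.node (.leaf 5884108) (.leaf 18156420)) (.node (.leaf 3269155) (.leaf 13949806))) (.node (.node (.leaf 20743721) (.leaf 23857988)) (.leaf 11457199)))) (.node (.node (.node (.node (.leaf 28826856) (.leaf 2148745)) (.node (.leaf 4065554) (.leaf 16404833))) (.node (.node (.leaf 410828) (.leaf 12322345)) (.node (.leaf 14833610) (.leaf 8113006)))) (.node (.node (.node (.leaf 23234249) (.leaf 1509298)) (.node (.leaf 25386035) (.leaf 15666280))) (.node (.node (.leaf 24533961) (.leaf 30646689)) (.leaf 25125133))))) (.node (.node (.node (.node (.node (.leaf 25878927) (.leaf 3606849)) (.node (.leaf 16730657) (.leaf 9592628))) (.node (.node (.leaf 21386502) (.leaf 25236947)) (.node (.leaf 31284841) (.leaf 18422441)))) (.node (.node (.node (.leaf 23630409) (.leaf 24632136)) (.node (.leaf 22406670) (.leaf 5021985))) (.node (.node (.leaf 22563986)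 (.leaf 16075758)) (.leaf 22614601)))) (.node (.node (.node (.node (.leaf 11181583) (.leaf 8554543)) (.node (.leaf 9262546) (.leaf 1410057))) (.node (.node (.leaf 11604558) (.leaf 24251809)) (.node (.leaf 16883977) (.leaf 11209729)))) (.node (.node (.node (.leaf 29100169) (.leaf 14407361)) (.node (.leaf 1982638) (.leaf 20400723))) (.node (.node (.leaf 11034020) (.leaf 3885103)) (.leaf 7471561)))))

/-- Part of the table `witT2`. -/
def witT2_aaabb : Tr := .node (.node (.node (.node (.node (.node (.leaf 18061060) (.leaf 19634803)) (.node (.leaf 1545103) (.leaf 10389484))) (.node (.node (.leaf 6359693) (.leaf 3169897)) (.node (.leaf 17275812) (.leaf 8342259)))) (.node (.node (.node (.leaf 27398473) (.leaf 17795212)) (.node (.leaf 18712969) (.leaf 16699598))) (.node (.node (.leaf 10587849) (.leaf 8015625)) (.leaf 11015145)))) (.node (.node (.node (.node (.leaf 24288865) (.leaf 14115336)) (.node (.leaf 31280435) (.leaf 26989134))) (.node (.node (.leaf 28164850) (.leaf 8211404)) (.node (.leaf 3594081) (.leaf 20171762)))) (.node (.node (.node (.leaf 4328114) (.leaf 7838921))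 (.node (.leaf 18682276) (.leaf 21022857))) (.node (.node (.leaf 4285612) (.leaf 23105228)) (.leaf 14229801))))) (.node (.node (.node (.node (.node (.leaf 19718482) (.leaf 18484175)) (.node (.leaf 7755617) (.leaf 1529362))) (.node (.node (.leaf 18809409) (.leaf 20485924)) (.node (.leaf 5871059) (.leaf 853966)))) (.node (.node (.node (.leaf 7332306) (.leaf 20043009)) (.node (.leaf 4297455) (.leaf 16273097))) (.node (.node (.leaf 13518980) (.leaf 30821377)) (.leaf 3334836)))) (.node (.node (.node (.node (.leaf 24534625) (.leaf 24614034)) (.node (.leaf 22713231) (.leaf 4099315))) (.node (.node (.leaf 8669426) (.leaf 30055375)) (.node (.leaf 24923553) (.leaf 12485362)))) (.node (.node (.node (.leaf 18156492) (.leaf 21121444)) (.node (.leaf 25073682) (.leaf 17537524))) (.node (.node (.leaf 22299276) (.leaf 29024771)) (.leaf 7081321)))))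

/-- Part of the table `witT2`. -/
def witT2_aaab : Tr := .node witT2_aaaba witT2_aaabb

/-- Part of the table `witT2`. -/
def witT2_aaa : Tr := .node witT2_aaaa witT2_aaab

/-- Part of the table `witT2`. -/
def witT2_aabaa : Tr := .node (.node (.node (.node (.node (.node (.leaf 18156648) (.leaf 23562660)) (.node (.leaf 11029866) (.leaf 27886729))) (.node (.node (.leaf 12212876) (.leaf 24157924)) (.node (.leaf 6624457) (.leaf 2040065)))) (.node (.node (.node (.leaf 14209395) (.leaf 27871282)) (.node (.leaf 14752595) (.leaf 6297555))) (.node (.node (.leaf 11733674) (.leaf 25383407)) (.leaf 6545454)))) (.node (.node (.node (.node (.leaf 11493385) (.leaf 8951404)) (.node (.leaf 14147922) (.leaf 2736527))) (.node (.node (.leaf 1924579) (.leaf 28593345)) (.node (.leaf 17486003) (.leaf 9460868)))) (.node (.node (.node (.leaf 4950706) (.leaf 23660047)) (.node (.leaf 25764499) (.leaf 23863145))) (.node (.node (.leaf 3021249) (.leaf 3677459)) (.leaf 1926382))))) (.node (.node (.node (.node (.node (.leaf 5654724) (.leaf 9329769)) (.node (.leaf 5262148) (.leaf 17867151))) (.node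 (.node (.leaf 13566122) (.leaf 10273478)) (.node (.leaf 8342382) (.leaf 24516809)))) (.node (.node (.node (.leaf 10617930) (.leaf 6654308)) (.node (.leaf 21072897) (.leaf 28249450))) (.node (.node (.leaf 31378253) (.leaf 4687822)) (.leaf 6736033)))) (.node (.node (.node (.node (.leaf 26255380) (.leaf 25380393)) (.node (.leaf 1802414) (.leaf 23759681))) (.node (.node (.leaf 16715529) (.leaf 2590670)) (.node (.leaf 27890988) (.leaf 24810857)))) (.node (.node (.node (.leaf 16568204) (.leaf 13092434)) (.node (.leaf 9470505) (.leaf 30802913))) (.node (.node (.leaf 20340425) (.leaf 3328169)) (.leaf 19633577)))))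

/-- Part of the table `witT2`. -/
def witT2_aabab : Tr := .node (.node (.node (.node (.node (.node (.leaf 28574255) (.leaf 16225683)) (.node (.leaf 5132820) (.leaf 10716777))) (.node (.node (.leaf 26960402) (.leaf 28137929)) (.node (.leaf 25134284) (.leaf 22841412)))) (.node (.node (.node (.leaf 30051784) (.leaf 13260754)) (.node (.leaf 4754625) (.leaf 20599279))) (.node (.node (.leaf 24481779) (.leaf 8964844)) (.leaf 13238377)))) (.node (.node (.node (.node (.leaf 6250227) (.leaf 25628393)) (.node (.leaf 11946546) (.leaf 30838728))) (.node (.node (.leaf 27252484) (.leaf 11176942)) (.node (.leaf 13878476) (.leaf 15255859)))) (.node (.node (.node (.leaf 6965633) (.leaf 20776140)) (.node (.leaf 9691433) (.leaf 1102505))) (.node (.node (.leaf 18795251) (.leaf 28295944)) (.leaf 18139689))))) (.node (.node (.node (.node (.node (.leaf 10815593) (.leaf 23906899)) (.node (.leaf 25124552) (.leaf 19628431))) (.node (.node (.leaf 26299332) (.leaf 1332524)) (.node (.leaf 14111073) (.leaf 29933934)))) (.node (.node (.node (.leaf 21385100) (.leaf 13228684)) (.node (.leaf 12306500)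 (.leaf 26627201))) (.node (.node (.leaf 6510952) (.leaf 29232403)) (.leaf 9020419)))) (.node (.node (.node (.node (.leaf 5047890) (.leaf 13881036)) (.node (.leaf 4922985) (.leaf 17041540))) (.node (.node (.leaf 17238561) (.leaf 3269161)) (.node (.leaf 18598921) (.leaf 18471498)))) (.node (.node (.node (.leaf 20908193) (.leaf 29528014)) (.node (.leaf 20645226) (.leaf 6051681))) (.node (.node (.leaf 13225289) (.leaf 27238196)) (.leaf 24563404)))))

/-- Part of the table `witT2`. -/
def witT2_aaba : Tr := .node witT2_aabaa witT2_aabab

/-- Part of the table `witT2`. -/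
def witT2_aabba : Tr := .node (.node (.node (.node (.node (.node (.leaf 5621710) (.leaf 858817)) (.node (.leaf 2773548) (.leaf 26646729))) (.node (.node (.leaf 5702284) (.leaf 11653235)) (.node (.leaf 3886062) (.leaf 11895777)))) (.node (.node (.node (.leaf 27992723) (.leaf 6971913)) (.node (.leaf 22076872) (.leaf 9462419))) (.node (.node (.leaf 22077961) (.leaf 25221987)) (.leaf 7248968)))) (.node (.node (.node (.node (.leaf 4922049) (.leaf 12682444)) (.node (.leaf 6524044) (.leaf 5575246))) (.node (.node (.leaf 24035) (.leaf 18550735)) (.node (.leaf 4099023) (.leaf 20680897)))) (.node (.node (.node (.leaf 23429875) (.leaf 15698081)) (.node (.leaf 3597315) (.leaf 14357633))) (.node (.node (.leaf 14372996) (.leaf 18685281)) (.leaf 22857298))))) (.node (.node (.node (.node (.node (.leaf 7755977) (.leaf 15322465)) (.node (.leaf 18601377) (.leaf 8570473))) (.node (.node (.leaf 20221066) (.leaf 22366369)) (.node (.leaf 11934195) (.leaf 2033938)))) (.node (.node (.node (.leaf 19554593) (.leaf 13852355)) (.node (.leaf 7864649) (.leaf 30032173))) (.node (.node (.leaf 25119315)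 (.leaf 6872558)) (.leaf 29384364)))) (.node (.node (.node (.node (.leaf 6964591) (.leaf 6428713)) (.node (.leaf 26200457) (.leaf 13418666))) (.node (.node (.leaf 19781964) (.leaf 12818450)) (.node (.leaf 20502209) (.leaf 9690721)))) (.node (.node (.node (.leaf 3506477) (.leaf 17585490)) (.node (.leaf 5924366) (.leaf 28300243))) (.node (.node (.leaf 890057) (.leaf 26629545)) (.leaf 17974862)))))

/-- Part of the table `witT2`. -/
def witT2_aabbb : Tr := .node (.node (.node (.node (.node (.node (.leaf 19636739) (.leaf 30284428)) (.node (.leaf 6510377) (.leaf 26959907))) (.node (.node (.leaf 854161) (.leaf 12556489)) (.node (.leaf 19697057) (.leaf 26388179)))) (.node (.node (.node (.leaf 12820234) (.leaf 29104833)) (.node (.leaf 20437697) (.leaf 5952461))) (.node (.node (.leaf 5573545) (.leaf 24222028)) (.leaf 27333970)))) (.node (.node (.node (.node (.leaf 12519585) (.leaf 28773514)) (.node (.leaf 26957577) (.leaf 26006828))) (.node (.node (.leaf 20948818) (.leaf 26006889)) (.node (.leaf 17834113) (.leaf 577486)))) (.node (.node (.node (.leaf 16502633) (.leaf 31050954))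 (.node (.leaf 25855185) (.leaf 17877537))) (.node (.node (.leaf 23942121) (.leaf 17793633)) (.leaf 4278932))))) (.node (.node (.node (.node (.node (.leaf 1105763) (.leaf 14994802)) (.node (.leaf 15993569) (.leaf 1950348))) (.node (.node (.leaf 7841459) (.leaf 2758497)) (.node (.leaf 9462246) (.leaf 7610028)))) (.node (.node (.node (.leaf 16079886) (.leaf 7773793)) (.node (.leaf 21800399) (.leaf 26696590))) (.node (.node (.leaf 20584367) (.leaf 19649102)) (.leaf 18127297)))) (.node (.node (.node (.node (.leaf 29967564) (.leaf 26167841)) (.node (.leaf 2441647) (.leaf 18325010))) (.node (.node (.leaf 24517518) (.leaf 6588521)) (.node (.leaf 21306721) (.leaf 14733868)))) (.node (.node (.node (.leaf 22366276) (.leaf 4654284)) (.node (.leaf 28871027) (.leaf 4495809))) (.node (.node (.leaf 19109153) (.leaf 6150339)) (.leaf 25823393)))))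

/-- Part of the table `witT2`. -/
def witT2_aabb : Tr := .node witT2_aabba witT2_aabbb

/-- Part of the table `witT2`. -/
def witT2_aab : Tr := .node witT2_aaba witT2_aabb

/-- Part of the table `witT2`. -/
def witT2_aa : Tr := .node witT2_aaa witT2_aab

/-- Part of the table `witT2`. -/
def witT2_abaaa : Tr := .node (.node (.node (.node (.node (.node (.leaf 7704526) (.leaf 13427154)) (.node (.leaf 24485394) (.leaf 20497417))) (.node (.node (.leaf 20988074) (.leaf 30628878)) (.node (.leaf 28787681) (.leaf 3712333)))) (.node (.node (.node (.leaf 8626163) (.leaf 23598884)) (.node (.leaf 16096609) (.leaf 15502862))) (.node (.node (.leaf 7429065) (.leaf 18940942)) (.leaf 20946278)))) (.node (.node (.node (.node (.leaf 11391329) (.leaf 35635)) (.node (.leaf 11963155) (.leaf 23594957))) (.node (.node (.leaf 3612137) (.leaf 11321998)) (.node (.leaf 17387955) (.leaf 6625475)))) (.node (.node (.node (.leaf 27988525) (.leaf 15141874)) (.node (.leaf 23077411) (.leaf 23912136))) (.node (.node (.leaf 10851529) (.leaf 4656969)) (.leaf 7604369))))) (.node (.node (.node (.node (.node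 (.leaf 15000579) (.leaf 15322052)) (.node (.leaf 30152243) (.leaf 15701249))) (.node (.node (.leaf 18745956) (.leaf 5577678)) (.node (.leaf 6149321) (.leaf 498369)))) (.node (.node (.node (.leaf 20913166) (.leaf 16405363)) (.node (.leaf 19841577) (.leaf 23650127))) (.node (.node (.leaf 15942730) (.leaf 886575)) (.leaf 16162825)))) (.node (.node (.node (.node (.leaf 19448041) (.leaf 13535023)) (.node (.leaf 17125129) (.leaf 6856833))) (.node (.node (.leaf 9568911) (.leaf 5754697)) (.node (.leaf 13424146) (.leaf 4953426)))) (.node (.node (.node (.leaf 11081409) (.leaf 14438249)) (.node (.leaf 6964878) (.leaf 23725140))) (.node (.node (.leaf 1644498) (.leaf 25122770)) (.leaf 12539009)))))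

/-- Part of the table `witT2`. -/
def witT2_abaab : Tr := .node (.node (.node (.node (.node (.node (.leaf 5097964) (.leaf 2744835)) (.node (.leaf 20318321) (.leaf 9689364))) (.node (.node (.leaf 6069746) (.leaf 10387950)) (.node (.leaf 8362636) (.leaf 2460033)))) (.node (.node (.node (.leaf 27988531) (.leaf 30300201)) (.node (.leaf 15148403) (.leaf 23925715))) (.node (.node (.leaf 23234449) (.leaf 8999981)) (.leaf 22370867)))) (.node (.node (.node (.node (.leaf 884879) (.leaf 6311105)) (.node (.leaf 9902803) (.leaf 26169331))) (.node (.node (.leaf 7950025) (.leaf 7900148)) (.node (.leaf 23286323) (.leaf 7162468)))) (.node (.node (.node (.leaf 28791374) (.leaf 26986980)) (.node (.leaf 19040367) (.leaf 630633))) (.node (.node (.leaf 18140905) (.leaf 14368943)) (.leaf 19040308))))) (.node (.node (.node (.node (.node (.leaf 2722113) (.leaf 8077929)) (.node (.leaf 10410665) (.leaf 7315497))) (.node (.node (.leaf 27892212) (.leaf 561892)) (.node (.leaf 4593449) (.leaf 15108326)))) (.node (.node (.node (.leaf 12738248) (.leaf 9259756)) (.node (.leaf 28156425) (.leaf 26871977)))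 (.node (.node (.leaf 17418732) (.leaf 11917667)) (.leaf 16587914)))) (.node (.node (.node (.node (.leaf 16832297) (.leaf 22748900)) (.node (.leaf 24283340) (.leaf 27498120))) (.node (.node (.leaf 28463689) (.leaf 26989523)) (.node (.leaf 722866) (.leaf 6578642)))) (.node (.node (.node (.leaf 3266131) (.leaf 5526191)) (.node (.leaf 3752659) (.leaf 1592132))) (.node (.node (.leaf 10604361) (.leaf 24813833)) (.leaf 22858692)))))

/-- Part of the table `witT2`. -/
def witT2_abaa : Tr := .node witT2_abaaa witT2_abaab

/-- Part of the table `witT2`. -/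
def witT2_ababa : Tr := .node (.node (.node (.node (.node (.node (.leaf 12524495) (.leaf 15686505)) (.node (.leaf 7768268) (.leaf 9706441))) (.node (.node (.leaf 28018377) (.leaf 28889417)) (.node (.leaf 20306195) (.leaf 28428850)))) (.node (.node (.node (.leaf 22760588) (.leaf 26954516)) (.node (.leaf 5268148) (.leaf 19630193))) (.node (.node (.leaf 19303657) (.leaf 5541930)) (.leaf 23593288)))) (.node (.node (.node (.node (.leaf 26165577) (.leaf 8611054)) (.node (.leaf 9085443) (.leaf 2034601))) (.node (.node (.leaf 23404260) (.leaf 6755305)) (.node (.leaf 23972225) (.leaf 10161345)))) (.node (.node (.node (.leaf 15243630) (.leaf 15687150)) (.node (.leaf 11027660) (.leaf 19713353))) (.node (.node (.leaf 9225810) (.leaf 28990947)) (.leaf 18506990))))) (.node (.node (.node (.node (.node (.leaf 5659843) (.leaf 13460652)) (.node (.leaf 30904009) (.leaf 21498505))) (.node (.node (.leaf 14353192) (.leaf 6622354)) (.node (.leaf 20896360) (.leaf 25496947)))) (.node (.node (.node (.leaf 19716748) (.leaf 10132108)) (.node (.leaf 16734900) (.leaf 23269363))) (.node (.node (.leaf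 7955117) (.leaf 28121743)) (.leaf 3887475)))) (.node (.node (.node (.node (.leaf 24044067) (.leaf 3622834)) (.node (.leaf 14208456) (.leaf 3803305))) (.node (.node (.leaf 20056385) (.leaf 29728654)) (.node (.leaf 11969059) (.leaf 5573960)))) (.node (.node (.node (.leaf 8849652) (.leaf 2706380)) (.node (.leaf 1641043) (.leaf 15032174))) (.node (.node (.leaf 13176170) (.leaf 29656073)) (.leaf 9572558)))))

/-- Part of the table `witT2`. -/
def witT2_ababb : Tr := .node (.node (.node (.node (.node (.node (.leaf 30529130) (.leaf 23790918)) (.node (.leaf 6296239) (.leaf 381833))) (.node (.node (.leaf 2884236) (.leaf 19864929)) (.node (.leaf 21876041) (.leaf 15108321)))) (.node (.node (.node (.leaf 20044814) (.leaf 10734568)) (.node (.leaf 28476115) (.leaf 10733394))) (.node (.node (.leaf 24201636) (.leaf 15663758)) (.leaf 23434803)))) (.node (.node (.node (.node (.leaf 29331241) (.leaf 29018225)) (.node (.leaf 29886604) (.leaf 28249929))) (.node (.node (.leaf 14077289) (.leaf 25502211)) (.node (.leaf 11911562) (.leaf 13230095)))) (.node (.node (.node (.leaf 6308873) (.leaf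 7769281)) (.node (.leaf 18943817) (.leaf 7758857))) (.node (.node (.leaf 30952809) (.leaf 13437761)) (.leaf 12688804))))) (.node (.node (.node (.node (.node (.leaf 8571187) (.leaf 14950529)) (.node (.leaf 13749964) (.leaf 5267855))) (.node (.node (.leaf 26314382) (.leaf 31137452)) (.node (.leaf 413388) (.leaf 2034148)))) (.node (.node (.node (.leaf 25855980) (.leaf 23906893)) (.node (.leaf 28616242) (.leaf 20404585))) (.node (.node (.leaf 9883827) (.leaf 2776009)) (.leaf 13180324)))) (.node (.node (.node (.node (.leaf 21091759) (.leaf 23437870)) (.node (.leaf 27221705) (.leaf 15025193))) (.node (.node (.leaf 5654217) (.leaf 22284780)) (.node (.leaf 5678318) (.leaf 18162548)))) (.node (.node (.node (.leaf 3858281) (.leaf 22190772)) (.node (.leaf 18602345) (.leaf 17597523))) (.node (.node (.leaf 13420174) (.leaf 23975923)) (.leaf 21470628)))))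

/-- Part of the table `witT2`. -/
def witT2_abab : Tr := .node witT2_ababa witT2_ababb

/-- Part of the table `witT2`. -/
def witT2_aba : Tr := .node witT2_abaa witT2_abab

/-- Part of the table `witT2`. -/
def witT2_abbaa : Tr := .node (.node (.node (.node (.node (.node (.leaf 3021929) (.leaf 29777580)) (.node (.leaf 9932489) (.leaf 19748705))) (.node (.node (.leaf 30543956) (.leaf 30546575)) (.node (.leaf 18399630) (.leaf 9683977)))) (.node (.node (.node (.leaf 25119304) (.leaf 25978643)) (.node (.leaf 1165896) (.leaf 2790))) (.node (.node (.leaf 8970323) (.leaf 11945043)) (.leaf 5038095)))) (.node (.node (.node (.node (.leaf 1494369) (.leaf 22816306)) (.node (.leaf 27019186) (.leaf 10164810))) (.node (.node (.leaf 19208138) (.leaf 9787955)) (.node (.leaf 12721769) (.leaf 10428545)))) (.node (.node (.node (.leaf 27614735) (.leaf 27991272)) (.node (.leaf 26172946) (.leaf 2299500))) (.node (.node (.leaf 21456398) (.leaf 14370738)) (.leaf 19894767))))) (.node (.node (.node (.node (.node (.leaf 13962442) (.leaf 11376595)) (.node (.leaf 30284995) (.leaf 7438540))) (.node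 (.node (.leaf 19913203) (.leaf 25859361)) (.node (.leaf 8995980) (.leaf 16748428)))) (.node (.node (.node (.leaf 8428739) (.leaf 22826793)) (.node (.leaf 6547155) (.leaf 17650825))) (.node (.node (.leaf 11813481) (.leaf 6857900)) (.leaf 7933235)))) (.node (.node (.node (.node (.leaf 20728300) (.leaf 18073580)) (.node (.leaf 138995) (.leaf 10916521))) (.node (.node (.leaf 11654401) (.leaf 30038894)) (.node (.leaf 21119945) (.leaf 20270857)))) (.node (.node (.node (.leaf 30153065) (.leaf 5082985)) (.node (.leaf 26299918) (.leaf 9297249))) (.node (.node (.leaf 26936682) (.leaf 15208819)) (.leaf 8557295)))))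

/-- Part of the table `witT2`. -/
def witT2_abbab : Tr := .node (.node (.node (.node (.node (.node (.leaf 24712004) (.leaf 25461729)) (.node (.leaf 16506563) (.leaf 120778))) (.node (.node (.leaf 1926) (.leaf 16190377)) (.node (.leaf 2757193) (.leaf 28019437)))) (.node (.node (.node (.leaf 21341193) (.leaf 28314977)) (.node (.leaf 20039841) (.leaf 28336787))) (.node (.node (.leaf 27871279) (.leaf 3722484)) (.leaf 30428110)))) (.node (.node (.node (.node (.leaf 23631713) (.leaf 16898035)) (.node (.leaf 28597746) (.leaf 1641032))) (.node (.node (.leaf 22186226) (.leaf 23109028)) (.node (.leaf 27468065) (.leaf 23596013)))) (.node (.node (.node (.leaf 11033161) (.leaf 28674209)) (.node (.leaf 5381395) (.leaf 25889740))) (.node (.node (.leaf 20634510) (.leaf 26478258)) (.leaf 5839297))))) (.node (.node (.node (.node (.node (.leaf 6675561) (.leaf 4511020)) (.node (.leaf 28461705) (.leaf 25598657))) (.node (.node (.leaf 27903178) (.leaf 4332099)) (.node (.leaf 20416652) (.leaf 22076617)))) (.node (.node (.node (.leaf 12229481) (.leaf 14750049)) (.node (.leaf 20913103) (.leaf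 10870250))) (.node (.node (.leaf 21318785) (.leaf 10737001)) (.leaf 16834243)))) (.node (.node (.node (.node (.leaf 24478350) (.leaf 24009779)) (.node (.leaf 21341187) (.leaf 12275596))) (.node (.node (.leaf 8002835) (.leaf 28396777)) (.node (.leaf 17370735) (.leaf 20171297)))) (.node (.node (.node (.leaf 18025673) (.leaf 6300681)) (.node (.leaf 31019593) (.leaf 6300675))) (.node (.node (.leaf 20403763) (.leaf 7389672)) (.leaf 855347)))))

/-- Part of the table `witT2`. -/
def witT2_abba : Tr := .node witT2_abbaa witT2_abbab

/-- Part of the table `witT2`. -/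
def witT2_abbba : Tr := .node (.node (.node (.node (.node (.node (.leaf 15768137) (.leaf 24216513)) (.node (.leaf 7834282) (.leaf 25321321))) (.node (.node (.leaf 25763726) (.leaf 7407812)) (.node (.leaf 7228228) (.leaf 30988745)))) (.node (.node (.node (.leaf 8619375) (.leaf 6545640)) (.node (.leaf 6669833) (.leaf 8461))) (.node (.node (.leaf 19307075) (.leaf 13029508)) (.leaf 28722145)))) (.node (.node (.node (.node (.leaf 27249897) (.leaf 8557825)) (.node (.leaf 26354081) (.leaf 16665121))) (.node (.node (.leaf 5508513) (.leaf 887346)) (.node (.leaf 31411401) (.leaf 8487369)))) (.node (.node (.node (.leaf 14375210) (.leaf 12736051)) (.node (.leaf 3916841) (.leaf 12534568))) (.node (.node (.leaf 23905011) (.leaf 7097010)) (.leaf 25386579))))) (.node (.node (.node (.node (.node (.leaf 17549972) (.leaf 597839)) (.node (.leaf 6641260) (.leaf 23435625))) (.node (.node (.leaf 8623634) (.leaf 15697615)) (.node (.leaf 24479986) (.leaf 27582994)))) (.node (.node (.node (.leaf 19761577) (.leaf 348489)) (.node (.leaf 24991762) (.leaf 22928456))) (.node (.node (.leaf 8554564) (.leaf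 23267873)) (.leaf 11427305)))) (.node (.node (.node (.node (.leaf 24481869) (.leaf 11313001)) (.node (.leaf 12668106) (.leaf 23682867))) (.node (.node (.leaf 15092649) (.leaf 12621231)) (.node (.leaf 5980769) (.leaf 20908100)))) (.node (.node (.node (.leaf 19811241) (.leaf 25120435)) (.node (.leaf 27167460) (.leaf 14141833))) (.node (.node (.leaf 26461129) (.leaf 28878287)) (.leaf 14998414)))))

/-- Part of the table `witT2`. -/
def witT2_abbbb : Tr := .node (.node (.node (.node (.node (.node (.leaf 1413518) (.leaf 3103539)) (.node (.leaf 26992897) (.leaf 15289060))) (.node (.node (.leaf 16027532) (.leaf 23675457)) (.node (.leaf 29852105) (.leaf 15697967)))) (.node (.node (.node (.leaf 3071171) (.leaf 494830)) (.node (.leaf 21451247) (.leaf 623169))) (.node (.node (.leaf 9625106) (.leaf 17801257)) (.leaf 25674956)))) (.node (.node (.node (.node (.leaf 6358670) (.leaf 22554162)) (.node (.leaf 741327) (.leaf 24480754))) (.node (.node (.leaf 22102447) (.leaf 25975476)) (.node (.leaf 6505) (.leaf 20201866)))) (.node (.node (.node (.leaf 10738345) (.leaf 20029326)) (.node (.leaf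 7609961) (.leaf 8751026))) (.node (.node (.leaf 21798378) (.leaf 21643916)) (.leaf 24480289))))) (.node (.node (.node (.node (.node (.leaf 30050465) (.leaf 216873)) (.node (.leaf 17262003) (.leaf 6213865))) (.node (.node (.leaf 17261059) (.leaf 26494802)) (.node (.leaf 854153) (.leaf 20911727)))) (.node (.node (.node (.leaf 23594186) (.leaf 9847753)) (.node (.leaf 15420364) (.leaf 6836417))) (.node (.node (.leaf 19794033) (.leaf 19043948)) (.leaf 20979108)))) (.node (.node (.node (.node (.leaf 20828110) (.leaf 23599885)) (.node (.leaf 2776562) (.leaf 1166345))) (.node (.node (.leaf 5669039) (.leaf 13048257)) (.node (.leaf 7758851) (.leaf 5982348)))) (.node (.node (.node (.leaf 11176097) (.leaf 4509545)) (.node (.leaf 30597135) (.leaf 13424627))) (.node (.node (.leaf 1824001) (.leaf 10212201)) (.leaf 28779891)))))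

/-- Part of the table `witT2`. -/
def witT2_abbb : Tr := .node witT2_abbba witT2_abbbb

/-- Part of the table `witT2`. -/
def witT2_abb : Tr := .node witT2_abba witT2_abbb

/-- Part of the table `witT2`. -/
def witT2_ab : Tr := .node witT2_aba witT2_abb

/-- Part of the table `witT2`. -/
def witT2_a : Tr := .node witT2_aa witT2_ab

/-- Part of the table `witT2`. -/
def witT2_baaaa : Tr := .node (.node (.node (.node (.node (.node (.leaf 7395907) (.leaf 7130250)) (.node (.leaf 4328449) (.leaf 2657641))) (.node (.node (.leaf 4459060) (.leaf 2090)) (.node (.leaf 16665476) (.leaf 18832456)))) (.node (.node (.node (.leaf 3213065) (.leaf 21061889)) (.node (.leaf 24857476) (.leaf 17318857))) (.node (.node (.leaf 9460585) (.leaf 7395683)) (.leaf 13570788)))) (.node (.node (.node (.node (.leaf 7030852) (.leaf 6672335)) (.node (.leaf 12457903) (.leaf 27181487))) (.node (.node (.leaf 29510057) (.leaf 23387529)) (.node (.leaf 19824814) (.leaf 9020425)))) (.node (.node (.node (.leaf 16827529) (.leaf 17678984)) (.node (.leaf 26943785) (.leaf 450447))) (.node (.node (.leaf 6652556) (.leaf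 27790345)) (.leaf 1542249))))) (.node (.node (.node (.node (.node (.leaf 9257569) (.leaf 25889668)) (.node (.leaf 8804193) (.leaf 10410344))) (.node (.node (.leaf 4063887) (.leaf 3885281)) (.node (.leaf 23906888) (.leaf 24044073)))) (.node (.node (.node (.leaf 23077417) (.leaf 27941449)) (.node (.leaf 17687501) (.leaf 17782290))) (.node (.node (.leaf 1711236) (.leaf 5360769)) (.leaf 40041)))) (.node (.node (.node (.node (.leaf 21122377) (.leaf 11395602)) (.node (.leaf 16894337) (.leaf 11525737))) (.node (.node (.leaf 30726867) (.leaf 30301992)) (.node (.leaf 30451123) (.leaf 12329006)))) (.node (.node (.node (.leaf 7768307) (.leaf 2546345)) (.node (.leaf 24252595) (.leaf 14263534))) (.node (.node (.leaf 17007209) (.leaf 7880)) (.leaf 16123657)))))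

/-- Part of the table `witT2`. -/
def witT2_baaab : Tr := .node (.node (.node (.node (.node (.node (.leaf 26321417) (.leaf 18743662)) (.node (.leaf 23593065) (.leaf 26952297))) (.node (.node (.leaf 17646177) (.leaf 12130084)) (.node (.leaf 22807180) (.leaf 3703849)))) (.node (.node (.node (.leaf 11738313) (.leaf 15599841)) (.node (.leaf 26846770) (.leaf 7392489))) (.node (.node (.leaf 28789258) (.leaf 30687841)) (.leaf 6996623)))) (.node (.node (.node (.node (.leaf 25755822) (.leaf 6427777)) (.node (.leaf 29821806) (.leaf 1820833))) (.node (.node (.leaf 7066753) (.leaf 23626186)) (.node (.leaf 20730089) (.leaf 12736466)))) (.node (.node (.node (.leaf 6983027) (.leaf 11065676)) (.node (.leaf 6985769) (.leaf 29285870))) (.node (.node (.leaf 15999124) (.leaf 10852547)) (.leaf 30674066))))) (.node (.node (.node (.node (.node (.leaf 29868463) (.leaf 2920467)) (.node (.leaf 17877964) (.leaf 3182281))) (.node (.node (.leaf 11376481) (.leaf 22747715)) (.node (.leaf 6538440) (.leaf 18336897)))) (.node (.node (.node (.leaf 20157697) (.leaf 17089683)) (.node (.leaf 18585441) (.leaf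 4678098))) (.node (.node (.leaf 481033) (.leaf 24807977)) (.leaf 11538121)))) (.node (.node (.node (.node (.leaf 21889679) (.leaf 6916018)) (.node (.leaf 22284783) (.leaf 13817257))) (.node (.node (.leaf 30311433) (.leaf 11395592)) (.node (.leaf 28789673) (.leaf 7034113)))) (.node (.node (.node (.leaf 18484577) (.leaf 5232236)) (.node (.leaf 17537705) (.leaf 17129188))) (.node (.node (.leaf 19537390) (.leaf 14207044)) (.leaf 14375244)))))

/-- Part of the table `witT2`. -/
def witT2_baaa : Tr := .node witT2_baaaa witT2_baaab

/-- Part of the table `witT2`. -/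
def witT2_baaba : Tr := .node (.node (.node (.node (.node (.node (.leaf 9266029) (.leaf 5886508)) (.node (.leaf 19039181) (.leaf 19629704))) (.node (.node (.leaf 17795820) (.leaf 1427881)) (.node (.leaf 26250228) (.leaf 2572492)))) (.node (.node (.node (.leaf 1282483) (.leaf 24368265)) (.node (.leaf 24480906) (.leaf 18416777))) (.node (.node (.leaf 15897289) (.leaf 5683)) (.leaf 29890002)))) (.node (.node (.node (.node (.leaf 14209775) (.leaf 29416801)) (.node (.leaf 17930945) (.leaf 28115342))) (.node (.node (.leaf 11456947) (.leaf 6705171)) (.node (.leaf 23596019) (.leaf 987914)))) (.node (.node (.node (.leaf 17124851) (.leaf 13094241)) (.node (.leaf 3097228) (.leaf 1725641))) (.node (.node (.leaf 22370856) (.leaf 4379823)) (.leaf 12917229))))) (.node (.node (.node (.node (.node (.leaf 8605828) (.leaf 15324335)) (.node (.leaf 29575858) (.leaf 15794380))) (.node (.node (.leaf 4033953) (.leaf 16371049)) (.node (.leaf 4333284) (.leaf 6985129)))) (.node (.node (.node (.leaf 25493737) (.leaf 972243)) (.node (.leaf 27222305) (.leaf 30248065))) (.node (.node (.leaf 6542502)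 (.leaf 39361)) (.leaf 13650162)))) (.node (.node (.node (.node (.leaf 2727265) (.leaf 25547337)) (.node (.leaf 22317096) (.leaf 27807593))) (.node (.node (.leaf 25828303) (.leaf 7012526)) (.node (.leaf 28149390) (.leaf 2547395)))) (.node (.node (.node (.leaf 6364616) (.leaf 23382500)) (.node (.leaf 14207023) (.leaf 12698159))) (.node (.node (.leaf 3476431) (.leaf 17141097)) (.leaf 18746561)))))

/-- Part of the table `witT2`. -/
def witT2_baabb : Tr := .node (.node (.node (.node (.node (.node (.leaf 6621746) (.leaf 25493903)) (.node (.leaf 25495176) (.leaf 23435218))) (.node (.node (.leaf 19452740) (.leaf 10423436)) (.node (.leaf 7429729) (.leaf 10669418)))) (.node (.node (.node (.leaf 2841875) (.leaf 19898611)) (.node (.leaf 29680082) (.leaf 26597571))) (.node (.node (.leaf 13811945) (.leaf 26168306)) (.leaf 9687572)))) (.node (.node (.node (.node (.leaf 31020897) (.leaf 8522665)) (.node (.leaf 27418083) (.leaf 16273930))) (.node (.node (.leaf 20401161) (.leaf 31410337)) (.node (.leaf 11583721) (.leaf 26331972)))) (.node (.node (.node (.leaf 10092748) (.leaf 13173964))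 (.node (.leaf 24566345) (.leaf 12917235))) (.node (.node (.leaf 30541321) (.leaf 15015521)) (.leaf 6179369))))) (.node (.node (.node (.node (.node (.leaf 1823471) (.leaf 17845196)) (.node (.leaf 12148210) (.leaf 7605555))) (.node (.node (.leaf 27612783) (.leaf 8544915)) (.node (.leaf 14835599) (.leaf 14517801)))) (.node (.node (.node (.leaf 15190753) (.leaf 10984580)) (.node (.leaf 3588554) (.leaf 28084428))) (.node (.node (.leaf 12427681) (.leaf 17475347)) (.leaf 26232754)))) (.node (.node (.node (.node (.leaf 3593448) (.leaf 21501793)) (.node (.leaf 31330675) (.leaf 9685556))) (.node (.node (.leaf 5037251) (.leaf 24206531)) (.node (.leaf 16130578) (.leaf 6989235)))) (.node (.node (.node (.leaf 6621641) (.leaf 26992329)) (.node (.leaf 20369007) (.leaf 29678793))) (.node (.node (.leaf 29384297) (.leaf 23864492)) (.leaf 14746217)))))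

/-- Part of the table `witT2`. -/
def witT2_baab : Tr := .node witT2_baaba witT2_baabb

/-- Part of the table `witT2`. -/
def witT2_baa : Tr := .node witT2_baaa witT2_baab

/-- Part of the table `witT2`. -/
def witT2_babaa : Tr := .node (.node (.node (.node (.node (.node (.leaf 30809801) (.leaf 28772897)) (.node (.leaf 17596559) (.leaf 6069857))) (.node (.node (.leaf 20518665) (.leaf 23238099)) (.node (.leaf 25484420) (.leaf 4276801)))) (.node (.node (.node (.leaf 7225921) (.leaf 31057359)) (.node (.leaf 25497709) (.leaf 15139470))) (.node (.node (.leaf 14845545) (.leaf 22746884)) (.leaf 328649)))) (.node (.node (.node (.node (.leaf 13655570) (.leaf 27723916)) (.node (.leaf 27510889) (.leaf 34313))) (.node (.node (.leaf 22470121) (.leaf 1447273)) (.node (.leaf 11093769) (.leaf 13224329)))) (.node (.node (.node (.leaf 13063123) (.leaf 1724435)) (.node (.leaf 23562633) (.leaf 27517362))) (.node (.node (.leaf 17252585) (.leaf 4708370)) (.leaf 16764211))))) (.node (.node (.node (.node (.node (.leaf 23434657) (.leaf 4278441)) (.node (.leaf 27874561) (.leaf 10800078))) (.node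 (.node (.leaf 7264617) (.leaf 30821042)) (.node (.leaf 3592838) (.leaf 7848513)))) (.node (.node (.node (.leaf 19013481) (.leaf 12307657)) (.node (.leaf 31329262) (.leaf 9591428))) (.node (.node (.leaf 26413228) (.leaf 16195841)) (.leaf 1097960)))) (.node (.node (.node (.node (.leaf 16157971) (.leaf 23599891)) (.node (.leaf 5659276) (.leaf 10411715))) (.node (.node (.leaf 25500275) (.leaf 27183844)) (.node (.leaf 15583337) (.leaf 27874031)))) (.node (.node (.node (.leaf 4294703) (.leaf 28149103)) (.node (.leaf 23939567) (.leaf 22239250))) (.node (.node (.leaf 7438953) (.leaf 4955876)) (.leaf 5654417)))))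

/-- Part of the table `witT2`. -/
def witT2_babab : Tr := .node (.node (.node (.node (.node (.node (.leaf 1956659) (.leaf 20897770)) (.node (.leaf 31230124) (.leaf 16831788))) (.node (.node (.leaf 29936228) (.leaf 11520137)) (.node (.leaf 21225295) (.leaf 30064810)))) (.node (.node (.node (.leaf 15372810) (.leaf 334476)) (.node (.leaf 14063634) (.leaf 20602260))) (.node (.node (.leaf 23026820) (.leaf 16207050)) (.leaf 23597098)))) (.node (.node (.node (.node (.leaf 2147273) (.leaf 18619524)) (.node (.leaf 775571) (.leaf 17257284))) (.node (.node (.leaf 24321219) (.leaf 3763)) (.node (.leaf 10357476) (.leaf 18884047)))) (.node (.node (.node (.leaf 7610696) (.leaf 24531500)) (.node (.leaf 623346) (.leaf 28023436))) (.node (.node (.leaf 25728618) (.leaf 9266035)) (.leaf 6523540))))) (.node (.node (.node (.node (.node (.leaf 18548402) (.leaf 18473257)) (.node (.leaf 26992009) (.leaf 1885388))) (.node (.node (.leaf 25813038) (.leaf 27250441)) (.node (.leaf 16223855) (.leaf 11764938)))) (.node (.node (.node (.leaf 3081) (.leaf 25757828)) (.node (.leaf 28116489) (.leaf 7770668)))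 (.node (.node (.leaf 14879745) (.leaf 23265609)) (.leaf 27793362)))) (.node (.node (.node (.node (.leaf 31218369) (.leaf 29360332)) (.node (.leaf 17355465) (.leaf 885843))) (.node (.node (.leaf 26809321) (.leaf 22103249)) (.node (.leaf 29366025) (.leaf 15057066)))) (.node (.node (.node (.leaf 18057906) (.leaf 22317103)) (.node (.leaf 22367433) (.leaf 6963370))) (.node (.node (.leaf 18796737) (.leaf 9687438)) (.leaf 23628425)))))

/-- Part of the table `witT2`. -/
def witT2_baba : Tr := .node witT2_babaa witT2_babab

/-- Part of the table `witT2`. -/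
def witT2_babba : Tr := .node (.node (.node (.node (.node (.node (.leaf 11537217) (.leaf 5424722)) (.node (.leaf 165838) (.leaf 4477281))) (.node (.node (.leaf 27152590) (.leaf 6920524)) (.node (.leaf 27612417) (.leaf 19025514)))) (.node (.node (.node (.leaf 19628840) (.leaf 4544810)) (.node (.leaf 25105162) (.leaf 16408611))) (.node (.node (.leaf 23597385) (.leaf 25119309)) (.leaf 17321289)))) (.node (.node (.node (.node (.leaf 23125475) (.leaf 18237033)) (.node (.leaf 25468617) (.leaf 8077516))) (.node (.node (.leaf 17732457) (.leaf 29317452)) (.node (.leaf 15734569) (.leaf 24372083)))) (.node (.node (.node (.leaf 18163059) (.leaf 14107241)) (.node (.leaf 12658190) (.leaf 21661193))) (.node (.node (.leaf 4738401) (.leaf 9359566)) (.leaf 6507402))))) (.node (.node (.node (.node (.node (.leaf 811273) (.leaf 28449710)) (.node (.leaf 13552364) (.leaf 23040019))) (.node (.node (.leaf 17681683) (.leaf 17997907)) (.node (.leaf 18142508) (.leaf 23188457)))) (.node (.node (.node (.leaf 12375603) (.leaf 2068430)) (.node (.leaf 7867340) (.leaf 27853454))) (.node (.node (.leaf 8676212)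 (.leaf 26600820)) (.leaf 25958849)))) (.node (.node (.node (.node (.leaf 23610920) (.leaf 10395085)) (.node (.leaf 8703214) (.leaf 25385966))) (.node (.node (.leaf 541281) (.leaf 27218126)) (.node (.leaf 3100271) (.leaf 17802099)))) (.node (.node (.node (.leaf 24692716) (.leaf 30072264)) (.node (.leaf 2889107) (.leaf 3688137))) (.node (.node (.leaf 5136681) (.leaf 3349422)) (.leaf 27871393)))))

/-- Part of the table `witT2`. -/
def witT2_babbb : Tr := .node (.node (.node (.node (.node (.node (.leaf 18073454) (.leaf 13242697)) (.node (.leaf 10739977) (.leaf 4769545))) (.node (.node (.leaf 20554275) (.leaf 9587713)) (.node (.leaf 19715539) (.leaf 8558191)))) (.node (.node (.node (.leaf 17927406) (.leaf 3688868)) (.node (.leaf 9685196) (.leaf 23431763))) (.node (.node (.leaf 20647105) (.leaf 12902643)) (.leaf 749)))) (.node (.node (.node (.node (.leaf 11969065) (.leaf 17681262)) (.node (.leaf 17090482) (.leaf 31136449))) (.node (.node (.leaf 9817395) (.leaf 24487283)) (.node (.leaf 6098) (.leaf 5834418)))) (.node (.node (.node (.leaf 24773260) (.leaf 1352372)) (.node (.leaf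 16409106) (.leaf 18601523))) (.node (.node (.leaf 9897838) (.leaf 3753007)) (.leaf 11420812))))) (.node (.node (.node (.node (.node (.leaf 10394323) (.leaf 23631466)) (.node (.leaf 31446316) (.leaf 16122415))) (.node (.node (.leaf 1167027) (.leaf 23939564)) (.node (.leaf 15392814) (.leaf 22070639)))) (.node (.node (.node (.leaf 2788161) (.leaf 1639155)) (.node (.leaf 2430724) (.leaf 3410820))) (.node (.node (.leaf 2252270) (.leaf 11291457)) (.leaf 1165907)))) (.node (.node (.node (.node (.leaf 1644905) (.leaf 17371315)) (.node (.leaf 26365523) (.leaf 7281796))) (.node (.node (.leaf 28874157) (.leaf 11244015)) (.node (.leaf 27792947) (.leaf 8618899)))) (.node (.node (.node (.leaf 29100177) (.leaf 492751)) (.node (.leaf 16401001) (.leaf 10392865))) (.node (.node (.leaf 24010132) (.leaf 7081204)) (.leaf 24043363)))))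

/-- Part of the table `witT2`. -/
def witT2_babb : Tr := .node witT2_babba witT2_babbb

/-- Part of the table `witT2`. -/
def witT2_bab : Tr := .node witT2_baba witT2_babb

/-- Part of the table `witT2`. -/
def witT2_ba : Tr := .node witT2_baa witT2_bab

/-- Part of the table `witT2`. -/
def witT2_bbaaa : Tr := .node (.node (.node (.node (.node (.node (.leaf 13828819) (.leaf 24480872)) (.node (.leaf 12684650) (.leaf 7898633))) (.node (.node (.leaf 31280366) (.leaf 6661682)) (.node (.leaf 18486447) (.leaf 30450179)))) (.node (.node (.node (.leaf 8079113) (.leaf 28809548)) (.node (.leaf 13242410) (.leaf 16453582))) (.node (.node (.leaf 20652329) (.leaf 26253761)) (.leaf 14308489)))) (.node (.node (.node (.node (.leaf 20728303) (.leaf 14635201)) (.node (.leaf 19694220) (.leaf 13681193))) (.node (.node (.leaf 25119753) (.leaf 23598853)) (.node (.leaf 11830412) (.leaf 22694899)))) (.node (.node (.node (.leaf 10361699) (.leaf 22430419)) (.node (.leaf 755) (.leaf 5950340))) (.node (.node (.leaf 11395107) (.leaf 17304430)) (.leaf 25007305))))) (.node (.node (.node (.node (.node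 (.leaf 24315793) (.leaf 16507145)) (.node (.leaf 17877234) (.leaf 9575699))) (.node (.node (.leaf 11083250) (.leaf 28901580)) (.node (.leaf 28728595) (.leaf 770700)))) (.node (.node (.node (.leaf 7083439) (.leaf 20699154)) (.node (.leaf 5653449) (.leaf 23855681))) (.node (.node (.leaf 2637) (.leaf 8555721)) (.leaf 11604174)))) (.node (.node (.node (.node (.leaf 8669729) (.leaf 20040686)) (.node (.leaf 12454724) (.leaf 17252751))) (.node (.node (.leaf 20502804) (.leaf 8017668)) (.node (.leaf 23370884) (.leaf 24285740)))) (.node (.node (.node (.leaf 12656686) (.leaf 29006953)) (.node (.leaf 17931881) (.leaf 7898802))) (.node (.node (.leaf 31284908) (.leaf 17877892)) (.leaf 641996)))))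

/-- Part of the table `witT2`. -/
def witT2_bbaab : Tr := .node (.node (.node (.node (.node (.node (.leaf 23793796) (.leaf 18321395)) (.node (.leaf 30263049) (.leaf 17794224))) (.node (.node (.leaf 13848297) (.leaf 16122060)) (.node (.leaf 14848173) (.leaf 6357734)))) (.node (.node (.node (.leaf 22061097) (.leaf 31024137)) (.node (.leaf 15000585) (.leaf 28302729))) (.node (.node (.leaf 31329481) (.leaf 5119396)) (.leaf 27956929)))) (.node (.node (.node (.node (.leaf 19568995) (.leaf 15994479)) (.node (.leaf 9906002) (.leaf 8323649))) (.node (.node (.leaf 26609804) (.leaf 13291507)) (.node (.leaf 26501037) (.leaf 13096111)))) (.node (.node (.node (.leaf 26136947) (.leaf 12255436)) (.node (.leaf 14141636) (.leaf 28673449))) (.node (.node (.leaf 3211468) (.leaf 4954691)) (.leaf 6365705))))) (.node (.node (.node (.node (.node (.leaf 31081612) (.leaf 15697321)) (.node (.leaf 30590665) (.leaf 19797121))) (.node (.node (.leaf 5985066) (.leaf 18252335)) (.node (.leaf 1330058) (.leaf 7831722)))) (.node (.node (.node (.leaf 20039727) (.leaf 30574089)) (.node (.leaf 25503149) (.leaf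 8064129))) (.node (.node (.leaf 16828969) (.leaf 25971698)) (.leaf 22286569)))) (.node (.node (.node (.node (.leaf 1396521) (.leaf 6540906)) (.node (.leaf 30988207) (.leaf 2876879))) (.node (.node (.leaf 9542510) (.leaf 27986052)) (.node (.leaf 14308818) (.leaf 17926094)))) (.node (.node (.node (.leaf 15306945) (.leaf 17046660)) (.node (.leaf 3825044) (.leaf 3809679))) (.node (.node (.leaf 8347657) (.leaf 1169769)) (.leaf 6545651)))))

/-- Part of the table `witT2`. -/
def witT2_bbaa : Tr := .node witT2_bbaaa witT2_bbaab

/-- Part of the table `witT2`. -/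
def witT2_bbaba : Tr := .node (.node (.node (.node (.node (.node (.leaf 28795137) (.leaf 18551497)) (.node (.leaf 28901935) (.leaf 12738829))) (.node (.node (.leaf 1853761) (.leaf 16832392)) (.node (.leaf 28787343) (.leaf 11458515)))) (.node (.node (.node (.leaf 27448449) (.leaf 28810723)) (.node (.leaf 7064705) (.leaf 24563050))) (.node (.node (.leaf 11525804) (.leaf 30837156)) (.leaf 8691747)))) (.node (.node (.node (.node (.leaf 15696425) (.leaf 27893443)) (.node (.leaf 30656897) (.leaf 23908019))) (.node (.node (.leaf 10634793) (.leaf 24857548)) (.node (.leaf 17980270) (.leaf 6066732)))) (.node (.node (.node (.leaf 7789249) (.leaf 25499049)) (.node (.leaf 26870337) (.leaf 6642664))) (.node (.node (.leaf 7840265) (.leaf 4233411)) (.leaf 16209516))))) (.node (.node (.node (.node (.node (.leaf 2803817) (.leaf 17405289)) (.node (.leaf 20898209) (.leaf 25498753))) (.node (.node (.leaf 27182289) (.leaf 941929)) (.node (.leaf 27874927) (.leaf 19895462)))) (.node (.node (.node (.leaf 15785458) (.leaf 15996307)) (.node (.leaf 30066031) (.leaf 14750579))) (.node (.node (.leaf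 6672468) (.leaf 7030945)) (.leaf 29071022)))) (.node (.node (.node (.node (.leaf 29333345) (.leaf 19633281)) (.node (.leaf 20994035) (.leaf 14031817))) (.node (.node (.leaf 15209729) (.leaf 10131368)) (.node (.leaf 26007337) (.leaf 27875731)))) (.node (.node (.node (.leaf 14408649) (.leaf 5705327)) (.node (.leaf 10099539) (.leaf 20125714))) (.node (.node (.leaf 16400588) (.leaf 9290185)) (.leaf 17345)))))

/-- Part of the table `witT2`. -/
def witT2_bbabb : Tr := .node (.node (.node (.node (.node (.node (.leaf 8146337) (.leaf 27345455)) (.node (.leaf 4294817) (.leaf 10096993))) (.node (.node (.leaf 13026451) (.leaf 12524558)) (.node (.leaf 5129578) (.leaf 18354766)))) (.node (.node (.node (.leaf 9620001) (.leaf 4133865)) (.node (.leaf 27676001) (.leaf 20401843))) (.node (.node (.leaf 6169459) (.leaf 11568495)) (.leaf 11801132)))) (.node (.node (.node (.node (.leaf 2790057) (.leaf 25503155)) (.node (.leaf 11949257) (.leaf 12887566))) (.node (.node (.leaf 1169362) (.leaf 2331625)) (.node (.leaf 11244393) (.leaf 23239308)))) (.node (.node (.node (.leaf 25382506) (.leaf 27023692))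 (.node (.leaf 16023658) (.leaf 24072970))) (.node (.node (.leaf 772833) (.leaf 23927758)) (.leaf 10477985))))) (.node (.node (.node (.node (.node (.leaf 26466956) (.leaf 27253380)) (.node (.leaf 20581516) (.leaf 9658084))) (.node (.node (.leaf 11344196) (.leaf 3497443)) (.node (.leaf 31018793) (.leaf 22104044)))) (.node (.node (.node (.leaf 17832393) (.leaf 26136691)) (.node (.leaf 30168201) (.leaf 18078419))) (.node (.node (.leaf 23863091) (.leaf 28608868)) (.leaf 21831434)))) (.node (.node (.node (.node (.leaf 10181459) (.leaf 14357316)) (.node (.leaf 27482764) (.leaf 13031756))) (.node (.node (.leaf 5537) (.leaf 2169164)) (.node (.leaf 5573092) (.leaf 13226573)))) (.node (.node (.node (.leaf 2632) (.leaf 20220424)) (.node (.leaf 2643) (.leaf 20913679))) (.node (.node (.leaf 29248164) (.leaf 24943041)) (.leaf 13671556)))))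

/-- Part of the table `witT2`. -/
def witT2_bbab : Tr := .node witT2_bbaba witT2_bbabb

/-- Part of the table `witT2`. -/
def witT2_bba : Tr := .node witT2_bbaa witT2_bbab

/-- Part of the table `witT2`. -/
def witT2_bbbaa : Tr := .node (.node (.node (.node (.node (.node (.leaf 5131457) (.leaf 22864966)) (.node (.leaf 17171084) (.leaf 22486633))) (.node (.node (.leaf 23239875) (.leaf 23485833)) (.node (.leaf 18404041) (.leaf 8118281)))) (.node (.node (.node (.leaf 26297938) (.leaf 28871882)) (.node (.leaf 3100065) (.leaf 7839176))) (.node (.node (.leaf 8211332) (.leaf 25316164)) (.leaf 20596265)))) (.node (.node (.node (.node (.leaf 9062196) (.leaf 10406794)) (.node (.leaf 16111657) (.leaf 16554441))) (.node (.node (.leaf 9769871) (.leaf 16539913)) (.node (.leaf 28497961) (.leaf 14754322)))) (.node (.node (.node (.leaf 2393608) (.leaf 12065924)) (.node (.leaf 9443108) (.leaf 8587689))) (.node (.node (.leaf 14829708) (.leaf 24576609)) (.leaf 2183252))))) (.node (.node (.node (.node (.node (.leaf 21250601) (.leaf 16536876)) (.node (.leaf 18081618) (.leaf 26646369))) (.node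 (.node (.leaf 21138098) (.leaf 27001897)) (.node (.leaf 31023245) (.leaf 29727976)))) (.node (.node (.node (.leaf 11143916) (.leaf 3706099)) (.node (.leaf 25763048) (.leaf 31442057))) (.node (.node (.leaf 27466702) (.leaf 14557071)) (.leaf 954561)))) (.node (.node (.node (.node (.leaf 15208563) (.leaf 29613539)) (.node (.leaf 23105353) (.leaf 9820865))) (.node (.node (.leaf 22069418) (.leaf 20584905)) (.node (.leaf 30547049) (.leaf 18467020)))) (.node (.node (.node (.leaf 18563724) (.leaf 6358383)) (.node (.leaf 6888393) (.leaf 18685417))) (.node (.node (.leaf 20041843) (.leaf 16386252)) (.leaf 29164481)))))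

/-- Part of the table `witT2`. -/
def witT2_bbbab : Tr := .node (.node (.node (.node (.node (.node (.leaf 1100609) (.leaf 23566988)) (.node (.leaf 3659817) (.leaf 13427209))) (.node (.node (.leaf 28119753) (.leaf 21125032)) (.node (.leaf 2886369) (.leaf 20942728)))) (.node (.node (.node (.leaf 15008110) (.leaf 15409001)) (.node (.leaf 14408612) (.leaf 1642163))) (.node (.node (.leaf 31279249) (.leaf 6591919)) (.leaf 19634630)))) (.node (.node (.node (.node (.leaf 25123177) (.leaf 29876047)) (.node (.leaf 13223625) (.leaf 4178351))) (.node (.node (.leaf 15734060) (.leaf 31327752)) (.node (.leaf 30823762) (.leaf 30579343)))) (.node (.node (.node (.leaf 22317106) (.leaf 19306851)) (.node (.leaf 16205935) (.leaf 30394643))) (.node (.node (.leaf 8720577) (.leaf 5085064)) (.leaf 55497))))) (.node (.node (.node (.node (.node (.leaf 12535921) (.leaf 6064332)) (.node (.leaf 15206625) (.leaf 2542121))) (.node (.node (.leaf 5603532) (.leaf 18406505)) (.node (.leaf 24888467) (.leaf 10457801)))) (.node (.node (.node (.leaf 15949001) (.leaf 30229132)) (.node (.leaf 17236622) (.leaf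 26189484))) (.node (.node (.leaf 24707305) (.leaf 7997962)) (.leaf 2547977)))) (.node (.node (.node (.node (.leaf 30104179) (.leaf 25461391)) (.node (.leaf 16834825) (.leaf 7459187))) (.node (.node (.leaf 10872271) (.leaf 20514569)) (.node (.leaf 29729427) (.leaf 11092172)))) (.node (.node (.node (.leaf 4491436) (.leaf 25383785)) (.node (.leaf 22187146) (.leaf 17622542))) (.node (.node (.leaf 10771507) (.leaf 30954383)) (.leaf 3597321)))))

/-- Part of the table `witT2`. -/
def witT2_bbba : Tr := .node witT2_bbbaa witT2_bbbab

/-- Part of the table `witT2`. -/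
def witT2_bbbba : Tr := .node (.node (.node (.node (.node (.node (.leaf 31331951) (.leaf 11537171)) (.node (.leaf 23661106) (.leaf 4986660))) (.node (.node (.leaf 29673857) (.leaf 4082057)) (.node (.leaf 2937513) (.leaf 18907242)))) (.node (.node (.node (.leaf 10420801) (.leaf 20169033)) (.node (.leaf 26825609) (.leaf 10995538))) (.node (.node (.leaf 23944046) (.leaf 21496266)) (.leaf 22692168)))) (.node (.node (.node (.node (.leaf 29854003) (.leaf 10133842)) (.node (.leaf 19613193) (.leaf 30036969))) (.node (.node (.leaf 7307873) (.leaf 31024131)) (.node (.leaf 20563534) (.leaf 25477830)))) (.node (.node (.node (.leaf 14997705) (.leaf 19569219)) (.node (.leaf 30970185) (.leaf 14115346))) (.node (.node (.leaf 8554657) (.leaf 6603246)) (.leaf 27236100))))) (.node (.node (.node (.node (.node (.leaf 30595724) (.leaf 17798281)) (.node (.leaf 27869737) (.leaf 27574889))) (.node (.node (.leaf 8586834) (.leaf 22075379)) (.node (.leaf 24478025) (.leaf 12519492)))) (.node (.node (.node (.leaf 20530772) (.leaf 16210419)) (.node (.leaf 3197132) (.leaf 7145042))) (.node (.node (.leaf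 9782991) (.leaf 6214802)) (.leaf 29642254)))) (.node (.node (.node (.node (.leaf 9996428) (.leaf 6637620)) (.node (.leaf 20534473) (.leaf 13650892))) (.node (.node (.leaf 329417) (.leaf 27789907)) (.node (.leaf 8750) (.leaf 8618154)))) (.node (.node (.node (.leaf 2185665) (.leaf 7604361)) (.node (.leaf 20859890) (.leaf 30016526))) (.node (.node (.leaf 4146380) (.leaf 12533993)) (.leaf 431634)))))

/-- Part of the table `witT2`. -/
def witT2_bbbbb : Tr := .node (.node (.node (.node (.node (.node (.leaf 12882415) (.leaf 18947592)) (.node (.leaf 6888946) (.leaf 30117390))) (.node (.node (.leaf 25008323) (.leaf 20554281)) (.node (.leaf 18060974) (.leaf 31327951)))) (.node (.node (.node (.leaf 8086034) (.leaf 7951017)) (.node (.leaf 19047887) (.leaf 23384654))) (.node (.node (.leaf 29805292) (.leaf 12653417)) (.leaf 20648334)))) (.node (.node (.node (.node (.leaf 5524105) (.leaf 18584239)) (.node (.leaf 7293385) (.leaf 9620466))) (.node (.node (.leaf 20154418) (.leaf 29757838)) (.node (.leaf 17682316) (.leaf 23910354)))) (.node (.node (.node (.leaf 6998500) (.leaf 19826820))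 (.node (.leaf 30659300) (.leaf 3710029))) (.node (.node (.leaf 11307844) (.leaf 10932174)) (.leaf 13343305))))) (.node (.node (.node (.node (.node (.leaf 549747) (.leaf 28597857)) (.node (.leaf 5446510) (.leaf 13865865))) (.node (.node (.leaf 6931660) (.leaf 18744329)) (.node (.leaf 23644900) (.leaf 7030280)))) (.node (.node (.node (.leaf 18471844) (.leaf 6461220)) (.node (.leaf 2180617) (.leaf 10160332))) (.node (.node (.leaf 30088682) (.leaf 10535566)) (.leaf 28284969)))) (.node (.node (.node (.node (.leaf 16195873) (.leaf 13290444)) (.node (.leaf 23910761) (.leaf 14747401))) (.node (.node (.leaf 4951539) (.leaf 20384393)) (.node (.leaf 19978945) (.leaf 22858153)))) (.node (.node (.node (.leaf 22857293) (.leaf 13091881)) (.node (.leaf 13916001) (.leaf 12329166))) (.node (.node (.leaf 6542217) (.leaf 29218762)) (.leaf 14256050)))))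

/-- Part of the table `witT2`. -/
def witT2_bbbb : Tr := .node witT2_bbbba witT2_bbbbb

/-- Part of the table `witT2`. -/
def witT2_bbb : Tr := .node witT2_bbba witT2_bbbb

/-- Part of the table `witT2`. -/
def witT2_bb : Tr := .node witT2_bba witT2_bbb

/-- Part of the table `witT2`. -/
def witT2_b : Tr := .node witT2_ba witT2_bb

/-- Part of the table `witT2`. -/
def witT2_ : Tr := .node witT2_a witT2_b

/-- Conjugating elements for one suborbit. -/
def witT2 : Tr := witT2_

end Cfsg.Agent.JTwo
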