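import Cfsg.Agent.Lib.J2.Packed

/-!
# Conjugating elements, part 3
-/

set_option autoImplicit false
set_option maxRecDepth 10000

namespace Cfsg.Agent.JTwo

/-- Part of the table `witT3`. -/
def witT3_aaaaa : Tr := .node (.node (.node (.node (.node (.node (.leaf 18943301) (.leaf 12835116)) (.node (.leaf 7131596) (.leaf 7442194))) (.node (.node (.leaf 19826193) (.leaf 14402611)) (.node (.leaf 24569281) (.leaf 17897644)))) (.node (.node (.node (.leaf 8625620) (.leaf 3588481)) (.node (.leaf 10167756) (.leaf 9264897))) (.node (.node (.leaf 20993897) (.leaf 14111368)) (.leaf 2624961)))) (.node (.node (.node (.node (.leaf 22384737) (.leaf 8623375)) (.node (.leaf 25920321) (.leaf 20913486))) (.node (.node (.leaf 16566241) (.leaf 13964161)) (.node (.leaf 12260321) (.leaf 8689027)))) (.node (.node (.node (.leaf 2330529) (.leaf 11621537)) (.node (.leaf 23602483) (.leaf 26252292))) (.node (.node (.leaf 14407924) (.leaf 22103241)) (.leaf 15011886))))) (.node (.node (.node (.node (.node (.leaf 28825827) (.leaf 9455090)) (.node (.leaf 7151337) (.leaf 21138354))) (.node (.node (.leaf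 15557548) (.leaf 24272110)) (.node (.leaf 23910596) (.leaf 21897315)))) (.node (.node (.node (.leaf 16761891) (.leaf 11246340)) (.node (.leaf 28529710) (.leaf 28922404))) (.node (.node (.leaf 16473923) (.leaf 30827010)) (.leaf 27795283)))) (.node (.node (.node (.node (.leaf 20975905) (.leaf 4277009)) (.node (.leaf 26349905) (.leaf 18470700))) (.node (.node (.leaf 631502) (.leaf 952772)) (.node (.leaf 2805575) (.leaf 12159267)))) (.node (.node (.node (.leaf 6934804) (.leaf 3939372)) (.node (.leaf 5938601) (.leaf 6150316))) (.node (.node (.leaf 23594962) (.leaf 22516385)) (.leaf 27644548)))))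

/-- Part of the table `witT3`. -/
def witT3_aaaab : Tr := .node (.node (.node (.node (.node (.node (.leaf 18043463) (.leaf 13949647)) (.node (.leaf 759822) (.leaf 11931300))) (.node (.node (.leaf 3022499) (.leaf 8919812)) (.node (.leaf 28251939) (.leaf 5795)))) (.node (.node (.node (.leaf 23560739) (.leaf 16043884)) (.node (.leaf 30982894) (.leaf 5135913))) (.node (.node (.leaf 3187379) (.leaf 3266254)) (.leaf 27204339)))) (.node (.node (.node (.node (.leaf 19060908) (.leaf 16457491)) (.node (.leaf 14752274) (.leaf 17601135))) (.node (.node (.leaf 29858963) (.leaf 24679662)) (.node (.leaf 11704931) (.leaf 20403758)))) (.node (.node (.node (.leaf 5849809) (.leaf 24004012)) (.node (.leaf 3184334) (.leaf 19457409))) (.node (.node (.leaf 23445889) (.leaf 22269545)) (.leaf 22467012))))) (.node (.node (.node (.node (.node (.leaf 4332527) (.leaf 29907044)) (.node (.leaf 21008513) (.leaf 5540004))) (.node (.node (.leaf 1761100) (.leaf 26076174)) (.node (.leaf 19383731) (.leaf 4147914)))) (.node (.node (.node (.leaf 10862788) (.leaf 29459310)) (.node (.leaf 15208873) (.leaf 20403822)))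 (.node (.node (.leaf 12206540) (.leaf 29726611)) (.leaf 1169260)))) (.node (.node (.node (.node (.leaf 15698471) (.leaf 19702287)) (.node (.leaf 26593065) (.leaf 23941251))) (.node (.node (.leaf 11965447) (.leaf 20486158)) (.node (.leaf 11718802) (.leaf 9591791)))) (.node (.node (.node (.leaf 19392239) (.leaf 20600594)) (.node (.leaf 20485324) (.leaf 2891306))) (.node (.node (.leaf 26054894) (.leaf 15663169)) (.leaf 3643969)))))

/-- Part of the table `witT3`. -/
def witT3_aaaa : Tr := .node witT3_aaaaa witT3_aaaab

/-- Part of the table `witT3`. -/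
def witT3_aaaba : Tr := .node (.node (.node (.node (.node (.node (.leaf 24351363) (.leaf 25773956)) (.node (.leaf 17433140) (.leaf 11914697))) (.node (.node (.leaf 31277537) (.leaf 3642372)) (.node (.leaf 11033892) (.leaf 12554084)))) (.node (.node (.node (.leaf 22717700) (.leaf 31351268)) (.node (.leaf 17423118) (.leaf 872705))) (.node (.node (.leaf 20268844) (.leaf 20484035)) (.leaf 21487105)))) (.node (.node (.node (.node (.leaf 17471539) (.leaf 29872140)) (.node (.leaf 2840753) (.leaf 334163))) (.node (.node (.leaf 12833636) (.leaf 30596553)) (.node (.leaf 4378983) (.leaf 25796809)))) (.node (.node (.node (.leaf 31049679) (.leaf 8340228)) (.node (.leaf 4427249) (.leaf 8683593))) (.node (.node (.leaf 28250260) (.leaf 27891698)) (.leaf 11944385))))) (.node (.node (.node (.node (.node (.leaf 21387556) (.leaf 28136559)) (.node (.leaf 3278209) (.leaf 28281836))) (.node (.node (.leaf 17958281) (.leaf 30442418)) (.node (.leaf 8523779) (.leaf 17056041)))) (.node (.node (.node (.leaf 9572876) (.leaf 10571826)) (.node (.leaf 22826275) (.leaf 22585521))) (.node (.node (.leaf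 6637715) (.leaf 20497713)) (.leaf 4574668)))) (.node (.node (.node (.node (.leaf 30576321) (.leaf 2729460)) (.node (.leaf 13421138) (.leaf 30871599))) (.node (.node (.leaf 53871) (.leaf 6553763)) (.node (.leaf 15289417) (.leaf 4677379)))) (.node (.node (.node (.leaf 11223329) (.leaf 12490674)) (.node (.leaf 24074542) (.leaf 11508844))) (.node (.node (.leaf 25223474) (.leaf 19046482)) (.leaf 22370865)))))

/-- Part of the table `witT3`. -/
def witT3_aaabb : Tr := .node (.node (.node (.node (.node (.node (.leaf 24517747) (.leaf 4294962)) (.node (.leaf 29874051) (.leaf 16729540))) (.node (.node (.leaf 30590098) (.leaf 57988)) (.node (.leaf 22683410) (.leaf 23266030)))) (.node (.node (.node (.leaf 4297103) (.leaf 19211601)) (.node (.leaf 13750668) (.leaf 5004004))) (.node (.node (.leaf 6969476) (.leaf 17058913)) (.leaf 842796)))) (.node (.node (.node (.node (.leaf 8556846) (.leaf 19751762)) (.node (.leaf 8087052) (.leaf 25339436))) (.node (.node (.leaf 25383028) (.leaf 4330954)) (.node (.leaf 2067235) (.leaf 29613932)))) (.node (.node (.node (.leaf 16896689) (.leaf 4907986))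 (.node (.leaf 10065745) (.leaf 3333262))) (.node (.node (.leaf 29956323) (.leaf 4899105)) (.leaf 4658466))))) (.node (.node (.node (.node (.node (.leaf 858510) (.leaf 11424236)) (.node (.leaf 1759380) (.leaf 18143535))) (.node (.node (.leaf 21141331) (.leaf 2804108)) (.node (.leaf 30581939) (.leaf 958959)))) (.node (.node (.node (.leaf 27854820) (.leaf 8283084)) (.node (.leaf 9079793) (.leaf 15753324))) (.node (.node (.leaf 90282) (.leaf 28235698)) (.leaf 6642924)))) (.node (.node (.node (.node (.leaf 24517070) (.leaf 27518385)) (.node (.leaf 68655) (.leaf 6506084))) (.node (.node (.leaf 18465289) (.leaf 6545827)) (.node (.leaf 19898033) (.leaf 15065409)))) (.node (.node (.node (.leaf 12686721) (.leaf 6986516)) (.node (.leaf 8918190) (.leaf 19813170))) (.node (.node (.leaf 24518313) (.leaf 6637743)) (.leaf 8079463)))))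

/-- Part of the table `witT3`. -/
def witT3_aaab : Tr := .node witT3_aaaba witT3_aaabb

/-- Part of the table `witT3`. -/
def witT3_aaa : Tr := .node witT3_aaaa witT3_aaab

/-- Part of the table `witT3`. -/
def witT3_aabaa : Tr := .node (.node (.node (.node (.node (.node (.leaf 2479875) (.leaf 23430255)) (.node (.leaf 21401423) (.leaf 7002121))) (.node (.node (.leaf 2006060) (.leaf 15819873)) (.node (.leaf 6215823) (.leaf 10737137)))) (.node (.node (.node (.leaf 11242252) (.leaf 1097)) (.node (.leaf 14752593) (.leaf 7605582))) (.node (.node (.leaf 9808) (.leaf 8657961)) (.leaf 10129102)))) (.node (.node (.node (.node (.leaf 3097281) (.leaf 6673889)) (.node (.leaf 30609057) (.leaf 13885356))) (.node (.node (.leaf 9936801) (.leaf 1695794)) (.node (.leaf 23239332) (.leaf 3396452)))) (.node (.node (.node (.leaf 25125924) (.leaf 23601647)) (.node (.leaf 561668) (.leaf 25495655))) (.node (.node (.leaf 25166089) (.leaf 9079788)) (.leaf 27233769))))) (.node (.node (.node (.node (.node (.leaf 1232545) (.leaf 28025618)) (.node (.leaf 19924943) (.leaf 4956161))) (.node (.node (.leaf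 14754770) (.leaf 28876018)) (.node (.leaf 30868705) (.leaf 13453102)))) (.node (.node (.node (.leaf 6636836) (.leaf 31283305)) (.node (.leaf 27514705) (.leaf 19305905))) (.node (.node (.leaf 24091937) (.leaf 23173108)) (.leaf 19256228)))) (.node (.node (.node (.node (.leaf 23239044) (.leaf 17597426)) (.node (.leaf 3380) (.leaf 24794610))) (.node (.node (.leaf 5604014) (.leaf 21168641)) (.node (.leaf 17423406) (.leaf 5539473)))) (.node (.node (.node (.leaf 21125228) (.leaf 21742473)) (.node (.leaf 15730161) (.leaf 23727439))) (.node (.node (.leaf 25514124) (.leaf 5280577)) (.leaf 12260785)))))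

/-- Part of the table `witT3`. -/
def witT3_aabab : Tr := .node (.node (.node (.node (.node (.node (.leaf 24774450) (.leaf 22077298)) (.node (.leaf 18744788) (.leaf 18547618))) (.node (.node (.leaf 29622371) (.leaf 22189281)) (.node (.leaf 3072449) (.leaf 18305761)))) (.node (.node (.node (.leaf 7690) (.leaf 12897553)) (.node (.leaf 9541187) (.leaf 12115241))) (.node (.node (.leaf 12473358) (.leaf 30643657)) (.leaf 26352687)))) (.node (.node (.node (.node (.leaf 24512324) (.leaf 372)) (.node (.leaf 22553358) (.leaf 17797604))) (.node (.node (.leaf 26247681) (.leaf 11765363)) (.node (.leaf 24631692) (.leaf 2840081)))) (.node (.node (.node (.leaf 26853583) (.leaf 28417106)) (.node (.leaf 11229714) (.leaf 17703370))) (.node (.node (.leaf 28036786) (.leaf 8143689)) (.leaf 11456937))))) (.node (.node (.node (.node (.node (.leaf 7903305) (.leaf 29120329)) (.node (.leaf 22127340) (.leaf 26990601))) (.node (.node (.leaf 11962289) (.leaf 19716804)) (.node (.leaf 8573380) (.leaf 30821481)))) (.node (.node (.node (.leaf 1412897) (.leaf 8080242)) (.node (.leaf 26155724) (.leaf 23642339)))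 (.node (.node (.leaf 26992815) (.leaf 14584929)) (.leaf 23203683)))) (.node (.node (.node (.node (.leaf 5803950) (.leaf 31073266)) (.node (.leaf 29042348) (.leaf 9901681))) (.node (.node (.leaf 5080876) (.leaf 19585955)) (.node (.leaf 19664545) (.leaf 25757577)))) (.node (.node (.node (.leaf 12427076) (.leaf 30951433)) (.node (.leaf 11704201) (.leaf 11673358))) (.node (.node (.leaf 8624273) (.leaf 5953074)) (.leaf 1923122)))))

/-- Part of the table `witT3`. -/
def witT3_aaba : Tr := .node witT3_aabaa witT3_aabab

/-- Part of the table `witT3`. -/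
def witT3_aabba : Tr := .node (.node (.node (.node (.node (.node (.leaf 20038924) (.leaf 12320868)) (.node (.leaf 17680690) (.leaf 5821993))) (.node (.node (.leaf 3444818) (.leaf 27282924)) (.node (.leaf 393649) (.leaf 19620644)))) (.node (.node (.node (.leaf 10816300) (.leaf 10641042)) (.node (.leaf 13648915) (.leaf 23970868))) (.node (.node (.leaf 26009358) (.leaf 26204705)) (.leaf 28383276)))) (.node (.node (.node (.node (.leaf 7233287) (.leaf 21455668)) (.node (.leaf 4282419) (.leaf 21385068))) (.node (.node (.leaf 17867630) (.leaf 2202344)) (.node (.leaf 7050575) (.leaf 23237417)))) (.node (.node (.node (.leaf 27640259) (.leaf 19896775)) (.node (.leaf 22516718) (.leaf 27526115))) (.node (.node (.leaf 2722194) (.leaf 6526220)) (.leaf 12255556))))) (.node (.node (.node (.node (.node (.leaf 2334412) (.leaf 30546931)) (.node (.leaf 1859314) (.leaf 29908545))) (.node (.node (.leaf 14524138) (.leaf 19469761)) (.node (.leaf 891105) (.leaf 2811372)))) (.node (.node (.node (.leaf 14211378) (.leaf 19242307)) (.node (.leaf 30818705) (.leaf 27023393))) (.node (.node (.leaf 10589263)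 (.leaf 11375660)) (.leaf 22384431)))) (.node (.node (.node (.node (.leaf 6195875) (.leaf 3842467)) (.node (.leaf 4771466) (.leaf 10100335))) (.node (.node (.leaf 11503843) (.leaf 18604876)) (.node (.leaf 3214252) (.leaf 9036)))) (.node (.node (.node (.leaf 27023785) (.leaf 13963619)) (.node (.leaf 2729449) (.leaf 7002628))) (.node (.node (.leaf 10357324) (.leaf 55436)) (.leaf 27987367)))))

/-- Part of the table `witT3`. -/
def witT3_aabbb : Tr := .node (.node (.node (.node (.node (.node (.leaf 16475918) (.leaf 29317187)) (.node (.leaf 4546828) (.leaf 5098702))) (.node (.node (.leaf 16834964) (.leaf 23596308)) (.node (.leaf 10937260) (.leaf 3788268)))) (.node (.node (.node (.leaf 15376329) (.leaf 26499887)) (.node (.leaf 25691756) (.leaf 16652193))) (.node (.node (.leaf 30792913) (.leaf 14648402)) (.leaf 23627267)))) (.node (.node (.node (.node (.leaf 30250567) (.leaf 2950599)) (.node (.leaf 23305673) (.leaf 8372687))) (.node (.node (.leaf 24564681) (.leaf 10521708)) (.node (.leaf 5263939) (.leaf 17678593)))) (.node (.node (.node (.leaf 8515) (.leaf 18877358)) (.node (.leaf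 30216195) (.leaf 29025231))) (.node (.node (.leaf 10134124) (.leaf 3492876)) (.leaf 7967876))))) (.node (.node (.node (.node (.node (.leaf 15455692) (.leaf 22776257)) (.node (.leaf 29904068) (.leaf 17796707))) (.node (.node (.leaf 16782703) (.leaf 26254833)) (.node (.leaf 6247950) (.leaf 18077967)))) (.node (.node (.node (.leaf 15488081) (.leaf 3723823)) (.node (.leaf 28891305) (.leaf 24204193))) (.node (.node (.leaf 5101801) (.leaf 20882738)) (.leaf 706083)))) (.node (.node (.node (.node (.leaf 21777316) (.leaf 2806889)) (.node (.leaf 10929249) (.leaf 3524835))) (.node (.node (.leaf 7904243) (.leaf 12472260)) (.node (.leaf 15781603) (.leaf 10405361)))) (.node (.node (.node (.leaf 7587683) (.leaf 15992530)) (.node (.leaf 28936978) (.leaf 40040))) (.node (.node (.leaf 591073) (.leaf 4067849)) (.leaf 11018113)))))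

/-- Part of the table `witT3`. -/
def witT3_aabb : Tr := .node witT3_aabba witT3_aabbb

/-- Part of the table `witT3`. -/
def witT3_aab : Tr := .node witT3_aaba witT3_aabb

/-- Part of the table `witT3`. -/
def witT3_aa : Tr := .node witT3_aaa witT3_aab

/-- Part of the table `witT3`. -/
def witT3_abaaa : Tr := .node (.node (.node (.node (.node (.node (.leaf 14814767) (.leaf 6916867)) (.node (.leaf 29720897) (.leaf 4511242))) (.node (.node (.leaf 23135918) (.leaf 30591844)) (.node (.leaf 21745921) (.leaf 1643697)))) (.node (.node (.node (.leaf 6216737) (.leaf 2378852)) (.node (.leaf 16550497) (.leaf 6999854))) (.node (.node (.leaf 3310510) (.leaf 4562569)) (.leaf 5592611)))) (.node (.node (.node (.node (.leaf 9823337) (.leaf 13229391)) (.node (.leaf 30769554) (.leaf 18695172))) (.node (.node (.leaf 27645324) (.leaf 26812417)) (.node (.leaf 22123977) (.leaf 17256905)))) (.node (.node (.node (.leaf 13522516) (.leaf 26612052)) (.node (.leaf 5265379) (.leaf 10133127))) (.node (.node (.leaf 16453761) (.leaf 30545993)) (.leaf 12437057))))) (.node (.node (.node (.node (.node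 (.leaf 18914145) (.leaf 26253889)) (.node (.leaf 26050636) (.leaf 21619492))) (.node (.node (.leaf 16372974) (.leaf 15703299)) (.node (.leaf 20487329) (.leaf 13173860)))) (.node (.node (.node (.leaf 14763434) (.leaf 8037138)) (.node (.leaf 26810698) (.leaf 24894159))) (.node (.node (.leaf 11912978) (.leaf 5954689)) (.leaf 451457)))) (.node (.node (.node (.node (.leaf 27564867) (.leaf 6946979)) (.node (.leaf 11537775) (.leaf 26008268))) (.node (.node (.leaf 11177587) (.leaf 11011858)) (.node (.leaf 29722803) (.leaf 941898)))) (.node (.node (.node (.leaf 10127918) (.leaf 6999458)) (.node (.leaf 17959235) (.leaf 16797505))) (.node (.node (.leaf 25632684) (.leaf 25698049)) (.leaf 548719)))))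

/-- Part of the table `witT3`. -/
def witT3_abaab : Tr := .node (.node (.node (.node (.node (.node (.leaf 31280691) (.leaf 22497249)) (.node (.leaf 11772713) (.leaf 29842625))) (.node (.node (.leaf 14058922) (.leaf 19040686)) (.node (.leaf 28878284) (.leaf 16171715)))) (.node (.node (.node (.leaf 20794596) (.leaf 23370153)) (.node (.leaf 26449171) (.leaf 4809428))) (.node (.node (.leaf 12157252) (.leaf 15177001)) (.leaf 25253162)))) (.node (.node (.node (.node (.leaf 858377) (.leaf 5250478)) (.node (.leaf 7004335) (.leaf 18860803))) (.node (.node (.leaf 23889484) (.leaf 20484740)) (.node (.leaf 8376563) (.leaf 29874158)))) (.node (.node (.node (.leaf 24485169) (.leaf 10870435)) (.node (.leaf 8620625) (.leaf 29099463))) (.node (.node (.leaf 20909601) (.leaf 12723537)) (.leaf 29529362))))) (.node (.node (.node (.node (.node (.leaf 8557106) (.leaf 14373394)) (.node (.leaf 22318668) (.leaf 21266609))) (.node (.node (.leaf 14848274) (.leaf 30218636)) (.node (.leaf 29475396) (.leaf 29073831)))) (.node (.node (.node (.leaf 4817705) (.leaf 13567843)) (.node (.leaf 29345738) (.leaf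 4070636))) (.node (.node (.leaf 26644291) (.leaf 2822739)) (.leaf 3596940)))) (.node (.node (.node (.node (.leaf 29104388) (.leaf 6513668)) (.node (.leaf 20927410) (.leaf 25681507))) (.node (.node (.leaf 11652978) (.leaf 14637202)) (.node (.leaf 10542159) (.leaf 4981187)))) (.node (.node (.node (.leaf 29726596) (.leaf 8983884)) (.node (.leaf 626217) (.leaf 6456977))) (.node (.node (.leaf 12259407) (.leaf 20975348)) (.leaf 26250223)))))

/-- Part of the table `witT3`. -/
def witT3_abaa : Tr := .node witT3_abaaa witT3_abaab

/-- Part of the table `witT3`. -/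
def witT3_ababa : Tr := .node (.node (.node (.node (.node (.node (.leaf 16129793) (.leaf 16074899)) (.node (.leaf 19630516) (.leaf 21422098))) (.node (.node (.leaf 12472243) (.leaf 18598611)) (.node (.leaf 27985924) (.leaf 4768771)))) (.node (.node (.node (.leaf 27214756) (.leaf 22401484)) (.node (.leaf 9713) (.leaf 9460329))) (.node (.node (.leaf 674) (.leaf 27887404)) (.leaf 20910514)))) (.node (.node (.node (.node (.leaf 14242674) (.leaf 6145604)) (.node (.leaf 9900457) (.leaf 13525199))) (.node (.node (.leaf 16207620) (.leaf 27643843)) (.node (.leaf 20454833) (.leaf 29859649)))) (.node (.node (.node (.leaf 30040588) (.leaf 18730953)) (.node (.leaf 7837985) (.leaf 13172804))) (.node (.node (.leaf 31331188) (.leaf 13914706)) (.leaf 22892993))))) (.node (.node (.node (.node (.node (.leaf 16767209) (.leaf 5703442)) (.node (.leaf 18944289) (.leaf 7275108))) (.node (.node (.leaf 4900851) (.leaf 31073263)) (.node (.leaf 8297292) (.leaf 20601650)))) (.node (.node (.node (.leaf 27663886) (.leaf 19828712)) (.node (.leaf 22236961) (.leaf 23975681))) (.node (.node (.leaf 7330)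 (.leaf 11945028)) (.leaf 23519886)))) (.node (.node (.node (.node (.leaf 9178851) (.leaf 28876466)) (.node (.leaf 8357356) (.leaf 12290479))) (.node (.node (.leaf 30613646) (.leaf 1546127)) (.node (.leaf 15751684) (.leaf 1826881)))) (.node (.node (.node (.leaf 22611180) (.leaf 3269299)) (.node (.leaf 10394921) (.leaf 492643))) (.node (.node (.leaf 18074380) (.leaf 11426177)) (.leaf 20645601)))))

/-- Part of the table `witT3`. -/
def witT3_ababb : Tr := .node (.node (.node (.node (.node (.node (.leaf 10541361) (.leaf 726828)) (.node (.leaf 1023785) (.leaf 31412681))) (.node (.node (.leaf 23005775) (.leaf 20405004)) (.node (.leaf 5855948) (.leaf 21500708)))) (.node (.node (.node (.leaf 8561358) (.leaf 29107017)) (.node (.leaf 10115817) (.leaf 27592462))) (.node (.node (.leaf 21338703) (.leaf 12798116)) (.leaf 25893331)))) (.node (.node (.node (.node (.leaf 4262497) (.leaf 29663150)) (.node (.leaf 30954385) (.leaf 25595308))) (.node (.node (.leaf 12701618) (.leaf 21471209)) (.node (.leaf 4067698) (.leaf 29859177)))) (.node (.node (.node (.leaf 8295593) (.leaf 19893521))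 (.node (.leaf 1169604) (.leaf 27495715))) (.node (.node (.leaf 10804148) (.leaf 23060419)) (.leaf 11522220))))) (.node (.node (.node (.node (.node (.leaf 8439588) (.leaf 20939948)) (.node (.leaf 1509967) (.leaf 6235215))) (.node (.node (.leaf 5246572) (.leaf 1170542)) (.node (.leaf 6137550) (.leaf 23598126)))) (.node (.node (.node (.leaf 16796580) (.leaf 4587881)) (.node (.leaf 30578956) (.leaf 18209779))) (.node (.node (.leaf 2446755) (.leaf 28659457)) (.leaf 23595460)))) (.node (.node (.node (.node (.leaf 10099783) (.leaf 1430386)) (.node (.leaf 26141875) (.leaf 7099695))) (.node (.node (.leaf 3334348) (.leaf 16666916)) (.node (.leaf 24074700) (.leaf 17601010)))) (.node (.node (.node (.leaf 6119628) (.leaf 3590482)) (.node (.leaf 19308914) (.leaf 27253361))) (.node (.node (.leaf 10739726) (.leaf 3593459)) (.leaf 19653380)))))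

/-- Part of the table `witT3`. -/
def witT3_abab : Tr := .node witT3_ababa witT3_ababb

/-- Part of the table `witT3`. -/
def witT3_aba : Tr := .node witT3_abaa witT3_abab

/-- Part of the table `witT3`. -/
def witT3_abbaa : Tr := .node (.node (.node (.node (.node (.node (.leaf 27019022) (.leaf 13929763)) (.node (.leaf 30908065) (.leaf 8249828))) (.node (.node (.leaf 18596241) (.leaf 11082316)) (.node (.leaf 17649075) (.leaf 17367950)))) (.node (.node (.node (.leaf 6981587) (.leaf 17913068)) (.node (.leaf 22511) (.leaf 6246211))) (.node (.node (.leaf 6603585) (.leaf 12322340)) (.leaf 22415409)))) (.node (.node (.node (.node (.leaf 2955524) (.leaf 19637636)) (.node (.leaf 5448081) (.leaf 6921281))) (.node (.node (.leaf 12785196) (.leaf 30285380)) (.node (.leaf 26599948) (.leaf 13227108)))) (.node (.node (.node (.leaf 8017320) (.leaf 20043465)) (.node (.leaf 29368553) (.leaf 8920812))) (.node (.node (.leaf 14715474) (.leaf 5132804)) (.leaf 6001417))))) (.node (.node (.node (.node (.node (.leaf 10193711) (.leaf 1791201)) (.node (.leaf 20651849) (.leaf 2151779))) (.node (.node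 (.leaf 24334250) (.leaf 8328719)) (.node (.leaf 16023635) (.leaf 27713418)))) (.node (.node (.node (.leaf 19092644) (.leaf 6196452)) (.node (.leaf 10735026) (.leaf 11527505))) (.node (.node (.leaf 28086147) (.leaf 29069105)) (.leaf 4579428)))) (.node (.node (.node (.node (.leaf 10410796) (.leaf 25333812)) (.node (.leaf 16798881) (.leaf 19294028))) (.node (.node (.leaf 30294351) (.leaf 23434755)) (.node (.leaf 3920772) (.leaf 20488463)))) (.node (.node (.node (.leaf 7479372) (.leaf 23846857)) (.node (.leaf 27984136) (.leaf 31328403))) (.node (.node (.leaf 30871564) (.leaf 30038606)) (.leaf 2216882)))))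

/-- Part of the table `witT3`. -/
def witT3_abbab : Tr := .node (.node (.node (.node (.node (.node (.leaf 25697393) (.leaf 23600015)) (.node (.leaf 30067276) (.leaf 26547530))) (.node (.node (.leaf 27645738) (.leaf 21172681)) (.node (.leaf 14851219) (.leaf 9111299)))) (.node (.node (.node (.leaf 14853618) (.leaf 15768306)) (.node (.leaf 28004449) (.leaf 6097604))) (.node (.node (.leaf 8380340) (.leaf 18948580)) (.leaf 10751681)))) (.node (.node (.node (.node (.leaf 25350830) (.leaf 27706601)) (.node (.leaf 5522735) (.leaf 11833426))) (.node (.node (.leaf 23438575) (.leaf 450369)) (.node (.leaf 6792435) (.leaf 14042858)))) (.node (.node (.node (.leaf 29526449) (.leaf 11099812)) (.node (.leaf 6376428) (.leaf 11313804))) (.node (.node (.leaf 5130132) (.leaf 29679105)) (.leaf 26986307))))) (.node (.node (.node (.node (.node (.leaf 14733586) (.leaf 20405358)) (.node (.leaf 7641796) (.leaf 29729966))) (.node (.node (.leaf 23511137) (.leaf 11215114)) (.node (.leaf 13898257) (.leaf 22550572)))) (.node (.node (.node (.leaf 3758508) (.leaf 8898578)) (.node (.leaf 27370441) (.leaf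 27447459))) (.node (.node (.leaf 2167858) (.leaf 20792113)) (.leaf 6553766)))) (.node (.node (.node (.node (.leaf 7866212) (.leaf 15698420)) (.node (.leaf 1807212) (.leaf 23535468))) (.node (.node (.leaf 15866593) (.leaf 24861825)) (.node (.leaf 11587460) (.leaf 14785033)))) (.node (.node (.node (.leaf 23975244) (.leaf 18586188)) (.node (.leaf 26580788) (.leaf 5134657))) (.node (.node (.leaf 19354316) (.leaf 17239459)) (.leaf 27563122)))))

/-- Part of the table `witT3`. -/
def witT3_abba : Tr := .node witT3_abbaa witT3_abbab

/-- Part of the table `witT3`. -/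
def witT3_abbba : Tr := .node (.node (.node (.node (.node (.node (.leaf 706318) (.leaf 26463950)) (.node (.leaf 29872175) (.leaf 13966930))) (.node (.node (.leaf 16819212) (.leaf 11230343)) (.node (.leaf 726756) (.leaf 23135203)))) (.node (.node (.node (.leaf 24943745) (.leaf 21119346)) (.node (.leaf 2203809) (.leaf 30998977))) (.node (.node (.leaf 20405289) (.leaf 10913843)) (.leaf 9653298)))) (.node (.node (.node (.node (.leaf 23910252) (.leaf 29330953)) (.node (.leaf 11931571) (.leaf 4331692))) (.node (.node (.leaf 707779) (.leaf 24781938)) (.node (.leaf 25007433) (.leaf 6788147)))) (.node (.node (.node (.leaf 11930675) (.leaf 9618884)) (.node (.leaf 12815692) (.leaf 854036))) (.node (.node (.leaf 3596583) (.leaf 9461006)) (.leaf 4475762))))) (.node (.node (.node (.node (.node (.leaf 13672268) (.leaf 5544106)) (.node (.leaf 13914281) (.leaf 16981961))) (.node (.node (.leaf 15751177) (.leaf 12485358)) (.node (.leaf 89491) (.leaf 27254307)))) (.node (.node (.node (.leaf 9818026) (.leaf 26987938)) (.node (.leaf 7229665) (.leaf 26362612))) (.node (.node (.leaf 20060622)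 (.leaf 2164449)) (.leaf 19388545)))) (.node (.node (.node (.node (.leaf 25612961) (.leaf 25595681)) (.node (.leaf 10132937) (.leaf 11002884))) (.node (.node (.leaf 16065743) (.leaf 18799555)) (.node (.leaf 7002450) (.leaf 10277795)))) (.node (.node (.node (.leaf 22414121) (.leaf 5445580)) (.node (.leaf 28051119) (.leaf 3856174))) (.node (.node (.leaf 2328654) (.leaf 6409326)) (.leaf 28415406)))))

/-- Part of the table `witT3`. -/
def witT3_abbbb : Tr := .node (.node (.node (.node (.node (.node (.leaf 11887343) (.leaf 15996932)) (.node (.leaf 20814601) (.leaf 3887978))) (.node (.node (.leaf 27887955) (.leaf 7607219)) (.node (.leaf 11243843) (.leaf 5079857)))) (.node (.node (.node (.leaf 4917130) (.leaf 328140)) (.node (.leaf 1266593) (.leaf 14729796))) (.node (.node (.leaf 11027556) (.leaf 16142369)) (.leaf 21630604)))) (.node (.node (.node (.node (.leaf 10248399) (.leaf 2186863)) (.node (.leaf 3608622) (.leaf 25773964))) (.node (.node (.leaf 19894769) (.leaf 24339276)) (.node (.leaf 1639535) (.leaf 23269459)))) (.node (.node (.node (.leaf 10273490) (.leaf 17256004)) (.node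 (.leaf 20057134) (.leaf 10162051))) (.node (.node (.leaf 14586499) (.leaf 14797475)) (.leaf 28283172))))) (.node (.node (.node (.node (.node (.leaf 16209640) (.leaf 24533236)) (.node (.leaf 27695468) (.leaf 8365001))) (.node (.node (.leaf 1433875) (.leaf 15097838)) (.node (.leaf 5081644) (.leaf 17980881)))) (.node (.node (.node (.leaf 6528940) (.leaf 8164546)) (.node (.leaf 18900812) (.leaf 4869217))) (.node (.node (.leaf 2335788) (.leaf 3216817)) (.leaf 26891116)))) (.node (.node (.node (.node (.leaf 229897) (.leaf 27891466)) (.node (.leaf 7508684) (.leaf 28254985))) (.node (.node (.leaf 19765135) (.leaf 4463905)) (.node (.leaf 20547555) (.leaf 4802532)))) (.node (.node (.node (.leaf 1644035) (.leaf 21889281)) (.node (.leaf 8144257) (.leaf 20324276))) (.node (.node (.leaf 13229569) (.leaf 6407666)) (.leaf 20611940)))))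

/-- Part of the table `witT3`. -/
def witT3_abbb : Tr := .node witT3_abbba witT3_abbbb

/-- Part of the table `witT3`. -/
def witT3_abb : Tr := .node witT3_abba witT3_abbb

/-- Part of the table `witT3`. -/
def witT3_ab : Tr := .node witT3_aba witT3_abb

/-- Part of the table `witT3`. -/
def witT3_a : Tr := .node witT3_aa witT3_ab

/-- Part of the table `witT3`. -/
def witT3_baaaa : Tr := .node (.node (.node (.node (.node (.node (.leaf 19188750) (.leaf 14113252)) (.node (.leaf 22450401) (.leaf 17472492))) (.node (.node (.leaf 23977842) (.leaf 11179331)) (.node (.leaf 316739) (.leaf 2771)))) (.node (.node (.node (.leaf 7018883) (.leaf 5081763)) (.node (.leaf 28021545) (.leaf 10411119))) (.node (.node (.leaf 13049601) (.leaf 11672291)) (.leaf 6227242)))) (.node (.node (.node (.node (.leaf 23107858) (.leaf 7147250)) (.node (.leaf 9805) (.leaf 14376361))) (.node (.node (.leaf 22298825) (.leaf 25075812)) (.node (.leaf 10804801) (.leaf 11391297)))) (.node (.node (.node (.leaf 26351113) (.leaf 16669203)) (.node (.leaf 8298665) (.leaf 30202611))) (.node (.node (.leaf 15549537)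 (.leaf 6295075)) (.leaf 3593761))))) (.node (.node (.node (.node (.node (.leaf 29852228) (.leaf 1170473)) (.node (.leaf 23371137) (.leaf 5888174))) (.node (.node (.leaf 5967022) (.leaf 14745889)) (.node (.leaf 11523858) (.leaf 8118410)))) (.node (.node (.node (.leaf 30526857) (.leaf 9602346)) (.node (.leaf 26281601) (.leaf 30591534))) (.node (.node (.leaf 9852612) (.leaf 10391470)) (.leaf 17800398)))) (.node (.node (.node (.node (.leaf 28387084) (.leaf 29737924)) (.node (.leaf 20714346) (.leaf 16767236))) (.node (.node (.leaf 7036810) (.leaf 28035502)) (.node (.leaf 8184993) (.leaf 22452041)))) (.node (.node (.node (.leaf 6362383) (.leaf 11522595)) (.node (.leaf 16241615) (.leaf 11764163))) (.node (.node (.leaf 24256099) (.leaf 8015556)) (.leaf 30032179)))))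

/-- Part of the table `witT3`. -/
def witT3_baaab : Tr := .node (.node (.node (.node (.node (.node (.leaf 29383471) (.leaf 31277129)) (.node (.leaf 11164993) (.leaf 11591233))) (.node (.node (.leaf 1934924) (.leaf 26069028)) (.node (.leaf 26747762) (.leaf 13228169)))) (.node (.node (.node (.leaf 4589507) (.leaf 2164201)) (.node (.leaf 26206377) (.leaf 13228740))) (.node (.node (.leaf 5707460) (.leaf 18587314)) (.leaf 25990339)))) (.node (.node (.node (.node (.leaf 31017198) (.leaf 4196526)) (.node (.leaf 17056481) (.leaf 738092))) (.node (.node (.leaf 22044417) (.leaf 25416820)) (.node (.leaf 12536849) (.leaf 4347116)))) (.node (.node (.node (.leaf 401) (.leaf 23142867)) (.node (.leaf 29203436) (.leaf 14356484))) (.node (.node (.leaf 20995794) (.leaf 19653092)) (.leaf 23597287))))) (.node (.node (.node (.node (.node (.leaf 25482787) (.leaf 14752417)) (.node (.leaf 2559300) (.leaf 12095617))) (.node (.node (.leaf 25339444) (.leaf 27518380)) (.node (.leaf 15540705) (.leaf 6512841)))) (.node (.node (.node (.leaf 10569289) (.leaf 21892684)) (.node (.leaf 1906057) (.leaf 21467361)))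 (.node (.node (.leaf 21451265) (.leaf 24221763)) (.leaf 28024266)))) (.node (.node (.node (.node (.leaf 19751566) (.leaf 12099215)) (.node (.leaf 25497169) (.leaf 16374706))) (.node (.node (.leaf 4579699) (.leaf 10637185)) (.node (.leaf 20455186) (.leaf 14373027)))) (.node (.node (.node (.leaf 15590834) (.leaf 2757202)) (.node (.leaf 20481651) (.leaf 25124691))) (.node (.node (.leaf 20601353) (.leaf 9804)) (.leaf 3180209)))))

/-- Part of the table `witT3`. -/
def witT3_baaa : Tr := .node witT3_baaaa witT3_baaab

/-- Part of the table `witT3`. -/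
def witT3_baaba : Tr := .node (.node (.node (.node (.node (.node (.leaf 28247148) (.leaf 23601007)) (.node (.leaf 3169577) (.leaf 7837828))) (.node (.node (.leaf 8717065) (.leaf 13046787)) (.node (.leaf 29808833) (.leaf 7557458)))) (.node (.node (.node (.leaf 3923338) (.leaf 3924908)) (.node (.leaf 21388332) (.leaf 15319762))) (.node (.node (.leaf 20911793) (.leaf 6229618)) (.leaf 27297042)))) (.node (.node (.node (.node (.leaf 18748396) (.leaf 19192577)) (.node (.leaf 12093068) (.leaf 30510017))) (.node (.node (.leaf 22070638) (.leaf 8573420)) (.node (.leaf 9946540) (.leaf 29524051)))) (.node (.node (.node (.leaf 2868068) (.leaf 29726273)) (.node (.leaf 30659363) (.leaf 23659273))) (.node (.node (.leaf 12456515) (.leaf 19831496)) (.leaf 25187212))))) (.node (.node (.node (.node (.node (.leaf 23514962) (.leaf 30790578)) (.node (.leaf 1908905) (.leaf 16245409))) (.node (.node (.leaf 29413295) (.leaf 14864044)) (.node (.leaf 313393) (.leaf 15093876)))) (.node (.node (.node (.leaf 26371084) (.leaf 6980652)) (.node (.leaf 22520722) (.leaf 3428366))) (.node (.node (.leaf 8328707)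 (.leaf 4951209)) (.leaf 1628620)))) (.node (.node (.node (.node (.leaf 23729604) (.leaf 1397804)) (.node (.leaf 2874273) (.leaf 26936878))) (.node (.node (.leaf 29197804) (.leaf 24403585)) (.node (.leaf 856681) (.leaf 3462572)))) (.node (.node (.node (.leaf 31017825) (.leaf 24367116)) (.node (.leaf 21126188) (.leaf 16927244))) (.node (.node (.leaf 11392329) (.leaf 6164899)) (.leaf 30352500)))))

/-- Part of the table `witT3`. -/
def witT3_baabb : Tr := .node (.node (.node (.node (.node (.node (.leaf 26467762) (.leaf 27397705)) (.node (.leaf 14886156) (.leaf 9321))) (.node (.node (.leaf 1198945) (.leaf 22823314)) (.node (.leaf 20404076) (.leaf 27037409)))) (.node (.node (.node (.leaf 15097420) (.leaf 30722497)) (.node (.leaf 19940401) (.leaf 1068239))) (.node (.node (.leaf 8541836) (.leaf 16847251)) (.leaf 28052940)))) (.node (.node (.node (.node (.leaf 25497775) (.leaf 8425577)) (.node (.leaf 12424083) (.leaf 11767747))) (.node (.node (.leaf 24300238) (.leaf 549843)) (.node (.leaf 13195052) (.leaf 22856902)))) (.node (.node (.node (.leaf 4573875) (.leaf 19367820)) (.node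 (.leaf 18487811) (.leaf 19632428))) (.node (.node (.leaf 3689548) (.leaf 16258500)) (.leaf 25188905))))) (.node (.node (.node (.node (.node (.leaf 6495969) (.leaf 17997906)) (.node (.leaf 1414474) (.leaf 9078227))) (.node (.node (.leaf 7611922) (.leaf 15992484)) (.node (.leaf 19268131) (.leaf 334666)))) (.node (.node (.node (.leaf 4010) (.leaf 19637682)) (.node (.leaf 26169426) (.leaf 19796268))) (.node (.node (.leaf 11932626) (.leaf 15111911)) (.leaf 11396718)))) (.node (.node (.node (.node (.leaf 8346732) (.leaf 20045892)) (.node (.leaf 12264552) (.leaf 2427436))) (.node (.node (.leaf 25301795) (.leaf 3884488)) (.node (.leaf 24301228) (.leaf 29090067)))) (.node (.node (.node (.leaf 23061711) (.leaf 17622543)) (.node (.leaf 25467916) (.leaf 17401839))) (.node (.node (.leaf 23482657) (.leaf 29923347)) (.leaf 212)))))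

/-- Part of the table `witT3`. -/
def witT3_baab : Tr := .node witT3_baaba witT3_baabb

/-- Part of the table `witT3`. -/
def witT3_baa : Tr := .node witT3_baaa witT3_baab

/-- Part of the table `witT3`. -/
def witT3_babaa : Tr := .node (.node (.node (.node (.node (.node (.leaf 9018537) (.leaf 10765953)) (.node (.leaf 10736552) (.leaf 11387404))) (.node (.node (.leaf 1819442) (.leaf 17371492)) (.node (.leaf 3722028) (.leaf 12518569)))) (.node (.node (.node (.leaf 26076308) (.leaf 10456084)) (.node (.leaf 27647137) (.leaf 20357924))) (.node (.node (.leaf 28958017) (.leaf 934673)) (.leaf 20879247)))) (.node (.node (.node (.node (.leaf 26697513) (.leaf 8150035)) (.node (.leaf 25534211) (.leaf 11379538))) (.node (.node (.leaf 19893710) (.leaf 13064404)) (.node (.leaf 4147009) (.leaf 17682831)))) (.node (.node (.node (.leaf 22398948) (.leaf 27951427)) (.node (.leaf 28826867) (.leaf 29659433))) (.node (.node (.leaf 12524498) (.leaf 27329075)) (.leaf 13460644))))) (.node (.node (.node (.node (.node (.leaf 5511762) (.leaf 30743635)) (.node (.leaf 3674785) (.leaf 21315905))) (.node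 (.node (.leaf 15847427) (.leaf 2169007)) (.node (.leaf 24895619) (.leaf 31031785)))) (.node (.node (.node (.leaf 25890403) (.leaf 25498577)) (.node (.leaf 13962002) (.leaf 23912049))) (.node (.node (.leaf 2540910) (.leaf 29217678)) (.leaf 2200812)))) (.node (.node (.node (.node (.leaf 14766002) (.leaf 20939075)) (.node (.leaf 25493711) (.leaf 6888394))) (.node (.node (.leaf 860945) (.leaf 2544972)) (.node (.leaf 22976291) (.leaf 20485930)))) (.node (.node (.node (.leaf 1530156) (.leaf 11182382)) (.node (.leaf 18188993) (.leaf 1647043))) (.node (.node (.leaf 6678156) (.leaf 26348868)) (.leaf 21694252)))))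

/-- Part of the table `witT3`. -/
def witT3_babab : Tr := .node (.node (.node (.node (.node (.node (.leaf 11700273) (.leaf 25121224)) (.node (.leaf 6332137) (.leaf 4597487))) (.node (.node (.leaf 31234339) (.leaf 29844177)) (.node (.leaf 29950962) (.leaf 29630915)))) (.node (.node (.node (.leaf 13587858) (.leaf 19304780)) (.node (.leaf 3955727) (.leaf 28787041))) (.node (.node (.leaf 14602986) (.leaf 19899185)) (.leaf 10617938)))) (.node (.node (.node (.node (.leaf 25683393) (.leaf 9983457)) (.node (.leaf 16785860) (.leaf 30249554))) (.node (.node (.leaf 12912513) (.leaf 9326420)) (.node (.leaf 30876494) (.leaf 23909934)))) (.node (.node (.node (.leaf 14356097) (.leaf 18073450)) (.node (.leaf 11427060) (.leaf 3933299))) (.node (.node (.leaf 23631457) (.leaf 31333036)) (.leaf 17685587))))) (.node (.node (.node (.node (.node (.leaf 18571342) (.leaf 9454290)) (.node (.leaf 25961484) (.leaf 15369427))) (.node (.node (.leaf 13698179) (.leaf 21234162)) (.node (.leaf 25467092) (.leaf 100142)))) (.node (.node (.node (.leaf 25216260) (.leaf 18539241)) (.node (.leaf 27495265) (.leaf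 16220612))) (.node (.node (.leaf 7574883) (.leaf 31414260)) (.leaf 23634147)))) (.node (.node (.node (.node (.leaf 22074956) (.leaf 26545992)) (.node (.leaf 10159407) (.leaf 26349970))) (.node (.node (.leaf 23910351) (.leaf 14371587)) (.node (.leaf 25269161) (.leaf 31056969)))) (.node (.node (.node (.leaf 1000707) (.leaf 4956033)) (.node (.leaf 19568003) (.leaf 2563119))) (.node (.node (.leaf 9812) (.leaf 25432306)) (.leaf 9378634)))))

/-- Part of the table `witT3`. -/
def witT3_baba : Tr := .node witT3_babaa witT3_babab

/-- Part of the table `witT3`. -/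
def witT3_babba : Tr := .node (.node (.node (.node (.node (.node (.leaf 13702601) (.leaf 6431729)) (.node (.leaf 13746738) (.leaf 12541602))) (.node (.node (.leaf 25968948) (.leaf 9914260)) (.node (.leaf 15490316) (.leaf 16191684)))) (.node (.node (.node (.leaf 9637092) (.leaf 20940882)) (.node (.leaf 18589132) (.leaf 11223724))) (.node (.node (.leaf 23912783) (.leaf 27561714)) (.leaf 15698419)))) (.node (.node (.node (.node (.leaf 26137833) (.leaf 5820771)) (.node (.leaf 19813160) (.leaf 11930644))) (.node (.node (.leaf 82931) (.leaf 23601708)) (.node (.leaf 14845486) (.leaf 16419460)))) (.node (.node (.node (.leaf 14164388) (.leaf 13438284)) (.node (.leaf 15095858) (.leaf 1120812))) (.node (.node (.leaf 25104481) (.leaf 18588970)) (.leaf 29792684))))) (.node (.node (.node (.node (.node (.leaf 4283372) (.leaf 3608142)) (.node (.leaf 28266212) (.leaf 24634259))) (.node (.node (.leaf 3885100) (.leaf 9372353)) (.node (.leaf 16799748) (.leaf 27886730)))) (.node (.node (.node (.leaf 24236242) (.leaf 2642609)) (.node (.leaf 21120562) (.leaf 14851905))) (.node (.node (.leaf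 5825106) (.leaf 21143105)) (.leaf 16028946)))) (.node (.node (.node (.node (.leaf 3952402) (.leaf 24481875)) (.node (.leaf 27984335) (.leaf 18580783))) (.node (.node (.leaf 3871218) (.leaf 31413252)) (.node (.leaf 11737172) (.leaf 7770596)))) (.node (.node (.node (.leaf 24780801) (.leaf 8996387)) (.node (.leaf 20797361) (.leaf 16604809))) (.node (.node (.leaf 19962386) (.leaf 266369)) (.leaf 27985300)))))

/-- Part of the table `witT3`. -/
def witT3_babbb : Tr := .node (.node (.node (.node (.node (.node (.leaf 17090472) (.leaf 23907820)) (.node (.leaf 6440562) (.leaf 8049828))) (.node (.node (.leaf 22742417) (.leaf 7029993)) (.node (.leaf 942066) (.leaf 3851593)))) (.node (.node (.node (.leaf 19710436) (.leaf 2285106)) (.node (.leaf 23238724) (.leaf 14507204))) (.node (.node (.leaf 26248236) (.leaf 4100132)) (.leaf 28057971)))) (.node (.node (.node (.node (.leaf 30987683) (.leaf 24364257)) (.node (.leaf 24729929) (.leaf 6284105))) (.node (.node (.leaf 450657) (.leaf 5988850)) (.node (.leaf 23480684) (.leaf 17932073)))) (.node (.node (.node (.leaf 6153678) (.leaf 30712004))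 (.node (.leaf 10469539) (.leaf 21911956))) (.node (.node (.leaf 23365390) (.leaf 7838739)) (.leaf 17800138))))) (.node (.node (.node (.node (.node (.leaf 15258959) (.leaf 4751939)) (.node (.leaf 20258660) (.leaf 4490851))) (.node (.node (.leaf 2278322) (.leaf 16770578)) (.node (.leaf 4478506) (.leaf 16732463)))) (.node (.node (.node (.leaf 6364628) (.leaf 19833138)) (.node (.leaf 3711425) (.leaf 4707729))) (.node (.node (.leaf 26136434) (.leaf 20647844)) (.leaf 4070060)))) (.node (.node (.node (.node (.leaf 26239593) (.leaf 19202353)) (.node (.leaf 10325988) (.leaf 23054194))) (.node (.node (.leaf 5820524) (.leaf 5836481)) (.node (.leaf 25467057) (.leaf 15696434)))) (.node (.node (.node (.leaf 6211297) (.leaf 29443566)) (.node (.leaf 26986156) (.leaf 23381423))) (.node (.node (.leaf 16832404) (.leaf 27386212)) (.leaf 6540975)))))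

/-- Part of the table `witT3`. -/
def witT3_babb : Tr := .node witT3_babba witT3_babbb

/-- Part of the table `witT3`. -/
def witT3_bab : Tr := .node witT3_baba witT3_babb

/-- Part of the table `witT3`. -/
def witT3_ba : Tr := .node witT3_baa witT3_bab

/-- Part of the table `witT3`. -/
def witT3_bbaaa : Tr := .node (.node (.node (.node (.node (.node (.leaf 5825103) (.leaf 9817396)) (.node (.leaf 1148654) (.leaf 18026892))) (.node (.node (.leaf 27527076) (.leaf 18375724)) (.node (.leaf 28907745) (.leaf 16650988)))) (.node (.node (.node (.leaf 26318980) (.leaf 10634322)) (.node (.leaf 20404175) (.leaf 29245961))) (.node (.node (.leaf 1761970) (.leaf 1872780)) (.leaf 23370979)))) (.node (.node (.node (.node (.leaf 6905156) (.leaf 15925985)) (.node (.leaf 4334351) (.leaf 5738668))) (.node (.node (.leaf 7799660) (.leaf 16682979)) (.node (.leaf 15289185) (.leaf 3214578)))) (.node (.node (.node (.leaf 9832707) (.leaf 26362600)) (.node (.leaf 13342924) (.leaf 14144804))) (.node (.node (.leaf 28533295) (.leaf 16828259)) (.leaf 19648801))))) (.node (.node (.node (.node (.node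 (.leaf 20505231) (.leaf 8114802)) (.node (.leaf 19186083) (.leaf 12248050))) (.node (.node (.leaf 90721) (.leaf 4150369)) (.node (.leaf 12754508) (.leaf 6248974)))) (.node (.node (.node (.leaf 11772490) (.leaf 12407379)) (.node (.leaf 20060937) (.leaf 7086802))) (.node (.node (.leaf 16029612) (.leaf 19305441)) (.leaf 17405827)))) (.node (.node (.node (.node (.leaf 5885768) (.leaf 13092335)) (.node (.leaf 7920332) (.leaf 1449836))) (.node (.node (.leaf 22872371) (.leaf 27952300)) (.node (.leaf 28150065) (.leaf 17796835)))) (.node (.node (.node (.leaf 19892556) (.leaf 8872385)) (.node (.leaf 19767571) (.leaf 21470575))) (.node (.node (.leaf 7969795) (.leaf 17418145)) (.leaf 8070308)))))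

/-- Part of the table `witT3`. -/
def witT3_bbaab : Tr := .node (.node (.node (.node (.node (.node (.leaf 19635763) (.leaf 17930670)) (.node (.leaf 17335329) (.leaf 20404617))) (.node (.node (.leaf 25857476) (.leaf 16917802)) (.node (.leaf 22107212) (.leaf 18911233)))) (.node (.node (.node (.leaf 22189604) (.leaf 22928967)) (.node (.leaf 24516241) (.leaf 17047692))) (.node (.node (.leaf 4343315) (.leaf 6898450)) (.leaf 23381505)))) (.node (.node (.node (.node (.leaf 20010184) (.leaf 3887538)) (.node (.leaf 9198418) (.leaf 11526094))) (.node (.node (.leaf 6366145) (.leaf 16781121)) (.node (.leaf 25975340) (.leaf 19309970)))) (.node (.node (.node (.leaf 6096138) (.leaf 10659201)) (.node (.leaf 24155943) (.leaf 12324424))) (.node (.node (.leaf 19621132) (.leaf 30659052)) (.leaf 22861294))))) (.node (.node (.node (.node (.node (.leaf 10457028) (.leaf 24463756)) (.node (.leaf 17680718) (.leaf 888131))) (.node (.node (.leaf 9691155) (.leaf 2545409)) (.node (.leaf 25517121) (.leaf 3525217)))) (.node (.node (.node (.leaf 20644259) (.leaf 8553266)) (.node (.leaf 11273057) (.leaf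 5882979))) (.node (.node (.leaf 30201201) (.leaf 13229092)) (.leaf 24815343)))) (.node (.node (.node (.node (.leaf 17007785) (.leaf 2396260)) (.node (.leaf 19746958) (.leaf 1493970))) (.node (.node (.leaf 18761089) (.leaf 5461012)) (.node (.leaf 2332227) (.leaf 6982639)))) (.node (.node (.node (.leaf 10914415) (.leaf 5410956)) (.node (.leaf 24711809) (.leaf 17979050))) (.node (.node (.leaf 14796588) (.leaf 26991790)) (.leaf 10557586)))))

/-- Part of the table `witT3`. -/
def witT3_bbaa : Tr := .node witT3_bbaaa witT3_bbaab

/-- Part of the table `witT3`. -/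
def witT3_bbaba : Tr := .node (.node (.node (.node (.node (.node (.leaf 6082209) (.leaf 24543300)) (.node (.leaf 16212018) (.leaf 26757452))) (.node (.node (.leaf 23434417) (.leaf 9539489)) (.node (.leaf 26927553) (.leaf 26174003)))) (.node (.node (.node (.leaf 26141684) (.leaf 14737505)) (.node (.leaf 8880169) (.leaf 1615))) (.node (.node (.leaf 30152355) (.leaf 3328620)) (.leaf 19137769)))) (.node (.node (.node (.node (.leaf 17339556) (.leaf 25893650)) (.node (.leaf 13222499) (.leaf 1347442))) (.node (.node (.leaf 8339730) (.leaf 29856018)) (.node (.leaf 2720876) (.leaf 27466881)))) (.node (.node (.node (.leaf 12243471) (.leaf 22075137)) (.node (.leaf 3596201) (.leaf 8640935))) (.node (.node (.leaf 2146728) (.leaf 17834991)) (.leaf 30786222))))) (.node (.node (.node (.node (.node (.leaf 18126798) (.leaf 26647054)) (.node (.leaf 9542156) (.leaf 1704548))) (.node (.node (.leaf 11503076) (.leaf 30067281)) (.node (.leaf 1823282) (.leaf 27019183)))) (.node (.node (.node (.leaf 19398913) (.leaf 10705569)) (.node (.leaf 17373778) (.leaf 4398852))) (.node (.node (.leaf 5709825)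 (.leaf 28533292)) (.leaf 8657676)))) (.node (.node (.node (.node (.leaf 29398532) (.leaf 12684196)) (.node (.leaf 7604044) (.leaf 20619852))) (.node (.node (.leaf 21988065) (.leaf 9282028)) (.node (.leaf 12895939) (.leaf 6231982)))) (.node (.node (.node (.leaf 20042241) (.leaf 5018408)) (.node (.leaf 23857740) (.leaf 21122692))) (.node (.node (.leaf 25533193) (.leaf 6619602)) (.leaf 22070760)))))

/-- Part of the table `witT3`. -/
def witT3_bbabb : Tr := .node (.node (.node (.node (.node (.node (.leaf 14374641) (.leaf 3097036)) (.node (.leaf 2541386) (.leaf 23388335))) (.node (.node (.leaf 30524652) (.leaf 26986196)) (.node (.leaf 19303666) (.leaf 30069866)))) (.node (.node (.node (.leaf 24255204) (.leaf 3348867)) (.node (.leaf 13229425) (.leaf 3590146))) (.node (.node (.leaf 28155762) (.leaf 31286369)) (.leaf 17355523)))) (.node (.node (.node (.node (.leaf 4801220) (.leaf 3637761)) (.node (.leaf 15653260) (.leaf 16058478))) (.node (.node (.leaf 2396815) (.leaf 23599156)) (.node (.leaf 2121708) (.leaf 1106318)))) (.node (.node (.node (.leaf 31334785) (.leaf 1580196)) (.node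 (.leaf 19044196) (.leaf 23386121))) (.node (.node (.leaf 29723603) (.leaf 23435604)) (.leaf 29409871))))) (.node (.node (.node (.node (.node (.leaf 29429929) (.leaf 22699172)) (.node (.leaf 7955121) (.leaf 5018418))) (.node (.node (.leaf 21562084) (.leaf 4183183)) (.node (.leaf 12849763) (.leaf 30528492)))) (.node (.node (.node (.leaf 2310345) (.leaf 24905292)) (.node (.leaf 30580851) (.leaf 11583823))) (.node (.node (.leaf 18078732) (.leaf 22371090)) (.leaf 13848943)))) (.node (.node (.node (.node (.leaf 21119620) (.leaf 25463564)) (.node (.leaf 4821257) (.leaf 12165490))) (.node (.node (.leaf 18581646) (.leaf 8428884)) (.node (.leaf 4284897) (.leaf 6652114)))) (.node (.node (.node (.leaf 15994988) (.leaf 23241490)) (.node (.leaf 23912040) (.leaf 24805737))) (.node (.node (.leaf 7758476) (.leaf 25003780)) (.leaf 10503313)))))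

/-- Part of the table `witT3`. -/
def witT3_bbab : Tr := .node witT3_bbaba witT3_bbabb

/-- Part of the table `witT3`. -/
def witT3_bba : Tr := .node witT3_bbaa witT3_bbab

/-- Part of the table `witT3`. -/
def witT3_bbbaa : Tr := .node (.node (.node (.node (.node (.node (.leaf 11686831) (.leaf 11095694)) (.node (.leaf 17041831) (.leaf 13307762))) (.node (.node (.leaf 9933409) (.leaf 5391058)) (.node (.leaf 27792238) (.leaf 29854947)))) (.node (.node (.node (.leaf 24513667) (.leaf 27991988)) (.node (.leaf 26198355) (.leaf 10409937))) (.node (.node (.leaf 9618766) (.leaf 21859)) (.leaf 20501484)))) (.node (.node (.node (.node (.leaf 28039361) (.leaf 3513102)) (.node (.leaf 19928462) (.leaf 7281123))) (.node (.node (.leaf 20906473) (.leaf 25498508)) (.node (.leaf 27836690) (.leaf 2695114)))) (.node (.node (.node (.leaf 22074700) (.leaf 31379668)) (.node (.leaf 11522834) (.leaf 711107))) (.node (.node (.leaf 7784306) (.leaf 28824050)) (.leaf 22554444))))) (.node (.node (.node (.node (.node (.leaf 15650819) (.leaf 3872995)) (.node (.leaf 14698065) (.leaf 23667660))) (.node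 (.node (.leaf 26992841) (.leaf 4292849)) (.node (.leaf 3220882) (.leaf 3177)))) (.node (.node (.node (.leaf 18798991) (.leaf 17093489)) (.node (.leaf 11687177) (.leaf 18351119))) (.node (.node (.leaf 6752129) (.leaf 11356396)) (.leaf 11985070)))) (.node (.node (.node (.node (.leaf 21501553) (.leaf 1644047)) (.node (.leaf 11733011) (.leaf 26958354))) (.node (.node (.leaf 17678450) (.leaf 5114788)) (.node (.leaf 21599183) (.leaf 13730305)))) (.node (.node (.node (.leaf 7832961) (.leaf 3034030)) (.node (.leaf 11887566) (.leaf 12748713))) (.node (.node (.leaf 16079532) (.leaf 15633043)) (.leaf 18256588)))))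

/-- Part of the table `witT3`. -/
def witT3_bbbab : Tr := .node (.node (.node (.node (.node (.node (.leaf 2427219) (.leaf 8620620)) (.node (.leaf 2139442) (.leaf 10620435))) (.node (.node (.leaf 20845513) (.leaf 2169889)) (.node (.leaf 22436105) (.leaf 9441417)))) (.node (.node (.node (.leaf 30588961) (.leaf 13027567)) (.node (.leaf 16601857) (.leaf 18432082))) (.node (.node (.leaf 17252865) (.leaf 6854961)) (.leaf 27040260)))) (.node (.node (.node (.node (.leaf 11391631) (.leaf 15899822)) (.node (.leaf 26141862) (.leaf 17375140))) (.node (.node (.leaf 26548398) (.leaf 27988626)) (.node (.leaf 29859937) (.leaf 8313292)))) (.node (.node (.node (.leaf 6247630) (.leaf 16450292)) (.node (.leaf 5213353) (.leaf 12247105))) (.node (.node (.leaf 11703619) (.leaf 29203535)) (.leaf 6644097))))) (.node (.node (.node (.node (.node (.leaf 10673377) (.leaf 364556)) (.node (.leaf 30900449) (.leaf 29149262))) (.node (.node (.leaf 21159873) (.leaf 4096335)) (.node (.leaf 12649900) (.leaf 6048899)))) (.node (.node (.node (.leaf 6150548) (.leaf 30819919)) (.node (.leaf 2803017) (.leaf 23796623)))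 (.node (.node (.leaf 17393100) (.leaf 14376001)) (.leaf 3217444)))) (.node (.node (.node (.node (.leaf 20863276) (.leaf 30662290)) (.node (.leaf 16123500) (.leaf 11963820))) (.node (.node (.leaf 9607953) (.leaf 29610674)) (.node (.leaf 14405932) (.leaf 9543372)))) (.node (.node (.node (.leaf 16883663) (.leaf 21794124)) (.node (.leaf 20406607) (.leaf 30055555))) (.node (.node (.leaf 22696073) (.leaf 25807809)) (.leaf 8343553)))))

/-- Part of the table `witT3`. -/
def witT3_bbba : Tr := .node witT3_bbbaa witT3_bbbab

/-- Part of the table `witT3`. -/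
def witT3_bbbba : Tr := .node (.node (.node (.node (.node (.node (.leaf 6147214) (.leaf 23593764)) (.node (.leaf 22119555) (.leaf 21503201))) (.node (.node (.leaf 12538313) (.leaf 30903858)) (.node (.leaf 3216353) (.leaf 7838889)))) (.node (.node (.node (.leaf 21103433) (.leaf 10722572)) (.node (.leaf 2890113) (.leaf 13518820))) (.node (.node (.leaf 4930) (.leaf 18438531)) (.leaf 21308114)))) (.node (.node (.node (.node (.leaf 22814337) (.leaf 25387374)) (.node (.leaf 23501550) (.leaf 11190732))) (.node (.node (.leaf 17848611) (.leaf 11555954)) (.node (.leaf 9851809) (.leaf 18126732)))) (.node (.node (.node (.leaf 18941839) (.leaf 12243506)) (.node (.leaf 15145106) (.leaf 13915692))) (.node (.node (.leaf 17800590) (.leaf 11326698)) (.leaf 30705604))))) (.node (.node (.node (.node (.node (.leaf 22236588) (.leaf 2836850)) (.node (.leaf 23911465) (.leaf 27238185))) (.node (.node (.leaf 8231843) (.leaf 14372942)) (.node (.leaf 25386572) (.leaf 11912874)))) (.node (.node (.node (.leaf 29873988) (.leaf 22220626)) (.node (.leaf 16631148) (.leaf 10125345))) (.node (.node (.leaf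 5213641) (.leaf 957327)) (.leaf 19894484)))) (.node (.node (.node (.node (.leaf 3218532) (.leaf 26363530)) (.node (.leaf 26692303) (.leaf 17745618))) (.node (.node (.leaf 28542897) (.leaf 19745394)) (.node (.leaf 8423148) (.leaf 16111716)))) (.node (.node (.node (.leaf 27902865) (.leaf 6149711)) (.node (.leaf 12146732) (.leaf 2443791))) (.node (.node (.leaf 15716562) (.leaf 30073250)) (.leaf 18604355)))))

/-- Part of the table `witT3`. -/
def witT3_bbbbb : Tr := .node (.node (.node (.node (.node (.node (.leaf 7607052) (.leaf 4904916)) (.node (.leaf 21759763) (.leaf 29147732))) (.node (.node (.leaf 7611924) (.leaf 5871011)) (.node (.leaf 7791377) (.leaf 8560705)))) (.node (.node (.node (.leaf 19924938) (.leaf 22061202)) (.node (.leaf 20650866) (.leaf 12854578))) (.node (.node (.leaf 11374563) (.leaf 21190417)) (.leaf 5572206)))) (.node (.node (.node (.node (.leaf 31070092) (.leaf 7148617)) (.node (.leaf 15698444) (.leaf 1476236))) (.node (.node (.leaf 3760179) (.leaf 12469939)) (.node (.leaf 25761107) (.leaf 25121646)))) (.node (.node (.node (.leaf 23601519) (.leaf 4294990))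 (.node (.leaf 26009572) (.leaf 20405864))) (.node (.node (.leaf 28791343) (.leaf 26597202)) (.leaf 8081583))))) (.node (.node (.node (.node (.node (.leaf 3578052) (.leaf 23601711)) (.node (.leaf 8113967) (.leaf 18734834))) (.node (.node (.leaf 15996289) (.leaf 29869281)) (.node (.leaf 30089964) (.leaf 23892946)))) (.node (.node (.node (.leaf 30760708) (.leaf 16465996)) (.node (.leaf 23550060) (.leaf 19307091))) (.node (.node (.leaf 7281763) (.leaf 29728908)) (.leaf 12261412)))) (.node (.node (.node (.node (.leaf 10864227) (.leaf 23386628)) (.node (.leaf 13031140) (.leaf 5116012))) (.node (.node (.leaf 23601683) (.leaf 6295049)) (.node (.leaf 22193025) (.leaf 16057060)))) (.node (.node (.node (.leaf 13343649) (.leaf 9576292)) (.node (.leaf 28843236) (.leaf 16647884))) (.node (.node (.leaf 28051474) (.leaf 2610990)) (.leaf 26837068)))))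

/-- Part of the table `witT3`. -/
def witT3_bbbb : Tr := .node witT3_bbbba witT3_bbbbb

/-- Part of the table `witT3`. -/
def witT3_bbb : Tr := .node witT3_bbba witT3_bbbb

/-- Part of the table `witT3`. -/
def witT3_bb : Tr := .node witT3_bba witT3_bbb

/-- Part of the table `witT3`. -/
def witT3_b : Tr := .node witT3_ba witT3_bb

/-- Part of the table `witT3`. -/
def witT3_ : Tr := .node witT3_a witT3_b

/-- Conjugating elements for one suborbit. -/
def witT3 : Tr := witT3_

end Cfsg.Agent.JTwo
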