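import Cfsg.Agent.Lib.J2.Packed

/-!
# Conjugating elements, part 4
-/

set_option autoImplicit false
set_option maxRecDepth 10000

namespace Cfsg.Agent.JTwo

/-- Part of the table `witT4`. -/
def witT4_aaaaa : Tr := .node (.node (.node (.node (.node (.node (.leaf 19080212) (.leaf 28821516)) (.node (.leaf 3986193) (.leaf 13027316))) (.node (.node (.leaf 858883) (.leaf 16426060)) (.node (.leaf 11017838) (.leaf 13849793)))) (.node (.node (.node (.leaf 11575023) (.leaf 29528547)) (.node (.leaf 17097007) (.leaf 23991374))) (.node (.node (.leaf 6276431) (.leaf 15212849)) (.leaf 4182980)))) (.node (.node (.node (.node (.leaf 72722) (.leaf 26254514)) (.node (.leaf 12241379) (.leaf 12706467))) (.node (.node (.leaf 8487427) (.leaf 25468067)) (.node (.leaf 29577731) (.leaf 19713738)))) (.node (.node (.node (.leaf 21681169) (.leaf 28122180)) (.node (.leaf 332740) (.leaf 18948641))) (.node (.node (.leaf 18058465) (.leaf 25762193)) (.leaf 217550))))) (.node (.node (.node (.node (.node (.leaf 8937731) (.leaf 9691439)) (.node (.leaf 2098092) (.leaf 20210563))) (.node (.node (.leaf 14139907)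 (.leaf 22596833)) (.node (.leaf 3885073) (.leaf 3269153)))) (.node (.node (.node (.leaf 25434564) (.leaf 14716562)) (.node (.leaf 19930766) (.leaf 25582020))) (.node (.node (.leaf 1107793) (.leaf 1923)) (.leaf 9604174)))) (.node (.node (.node (.node (.leaf 20552402) (.leaf 1165198)) (.node (.leaf 1268754) (.leaf 29975427))) (.node (.node (.leaf 26366787) (.leaf 12734319)) (.node (.leaf 4068902) (.leaf 2184116)))) (.node (.node (.node (.leaf 23478414) (.leaf 31020017)) (.node (.leaf 17243887) (.leaf 15705233))) (.node (.node (.leaf 18471024) (.leaf 17981155)) (.leaf 8561394)))))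

/-- Part of the table `witT4`. -/
def witT4_aaaab : Tr := .node (.node (.node (.node (.node (.node (.leaf 15013514) (.leaf 30155489)) (.node (.leaf 18949100) (.leaf 11900007))) (.node (.node (.leaf 11785233) (.leaf 6675634)) (.node (.leaf 17679233) (.leaf 1992081)))) (.node (.node (.node (.leaf 30333674) (.leaf 28120812)) (.node (.leaf 16796497) (.leaf 18670883))) (.node (.node (.leaf 11519363) (.leaf 11771779)) (.leaf 17226450)))) (.node (.node (.node (.node (.leaf 12127788) (.leaf 15830051)) (.node (.leaf 13911887) (.leaf 9685582))) (.node (.node (.leaf 6360620) (.leaf 11735790)) (.node (.leaf 6641699) (.leaf 20486577)))) (.node (.node (.node (.leaf 10380260) (.leaf 10871057)) (.node (.leaf 3591331) (.leaf 12720676))) (.node (.node (.leaf 18976562) (.leaf 10126209)) (.leaf 2066860))))) (.node (.node (.node (.node (.node (.leaf 11536259) (.leaf 13542510)) (.node (.leaf 2805168) (.leaf 14881985))) (.node (.node (.leaf 2300547) (.leaf 6677714)) (.node (.leaf 1156452) (.leaf 26657132)))) (.node (.node (.node (.leaf 20399218) (.leaf 4227918)) (.node (.leaf 4953970) (.leaf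 1649))) (.node (.node (.leaf 17096897) (.leaf 8086033)) (.leaf 10871732)))) (.node (.node (.node (.node (.leaf 15492387) (.leaf 13148035)) (.node (.leaf 28740929) (.leaf 11657959))) (.node (.node (.leaf 18482160) (.leaf 25466436)) (.node (.leaf 10605761) (.leaf 4826019)))) (.node (.node (.node (.leaf 317033) (.leaf 17499471)) (.node (.leaf 7611761) (.leaf 8168804))) (.node (.node (.leaf 10476835) (.leaf 22270260)) (.leaf 28286318)))))

/-- Part of the table `witT4`. -/
def witT4_aaaa : Tr := .node witT4_aaaaa witT4_aaaab

/-- Part of the table `witT4`. -/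
def witT4_aaaba : Tr := .node (.node (.node (.node (.node (.node (.leaf 28104291) (.leaf 28058548)) (.node (.leaf 14752946) (.leaf 16540974))) (.node (.node (.leaf 18603076) (.leaf 17654994)) (.node (.leaf 7702956) (.leaf 16205731)))) (.node (.node (.node (.leaf 15492398) (.leaf 20170164)) (.node (.leaf 19387875) (.leaf 7618819))) (.node (.node (.leaf 27960560) (.leaf 13738927)) (.leaf 24077219)))) (.node (.node (.node (.node (.leaf 11667855) (.leaf 23338723)) (.node (.leaf 30446409) (.leaf 6934772))) (.node (.node (.leaf 28888974) (.leaf 19812337)) (.node (.leaf 23782721) (.leaf 19567683)))) (.node (.node (.node (.leaf 24486545) (.leaf 28531284)) (.node (.leaf 19301123) (.leaf 5707471))) (.node (.node (.leaf 4284242) (.leaf 20991726)) (.leaf 30874608))))) (.node (.node (.node (.node (.node (.leaf 15697937) (.leaf 18027203)) (.node (.leaf 29383204) (.leaf 23274604))) (.node (.node (.leaf 1057059) (.leaf 17684913)) (.node (.leaf 16028401) (.leaf 29084076)))) (.node (.node (.node (.leaf 19716527) (.leaf 10522130)) (.node (.leaf 29876967) (.leaf 25497994))) (.node (.node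 (.leaf 23237353) (.leaf 13799886)) (.leaf 6620871)))) (.node (.node (.node (.node (.leaf 29107491) (.leaf 13667843)) (.node (.leaf 1164500) (.leaf 27878545))) (.node (.node (.leaf 860227) (.leaf 5657091)) (.node (.leaf 481998) (.leaf 25939459)))) (.node (.node (.node (.leaf 2348929) (.leaf 24221603)) (.node (.leaf 12248204) (.leaf 22860611))) (.node (.node (.leaf 26387777) (.leaf 17081420)) (.leaf 20549614)))))

/-- Part of the table `witT4`. -/
def witT4_aaabb : Tr := .node (.node (.node (.node (.node (.node (.leaf 31251055) (.leaf 22712355)) (.node (.leaf 26495825) (.leaf 29451406))) (.node (.node (.leaf 12821255) (.leaf 30446577)) (.node (.leaf 29000620) (.leaf 22864626)))) (.node (.node (.node (.leaf 5866115) (.leaf 30759274)) (.node (.leaf 6787779) (.leaf 20617297))) (.node (.node (.leaf 15602721) (.leaf 18474339)) (.leaf 6612496)))) (.node (.node (.node (.node (.leaf 6146447) (.leaf 5014273)) (.node (.leaf 9458755) (.leaf 58369))) (.node (.node (.leaf 30950883) (.leaf 3868047)) (.node (.leaf 25890441) (.leaf 21223369)))) (.node (.node (.node (.leaf 18490177) (.leaf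 12194180)) (.node (.leaf 332521) (.leaf 27610883))) (.node (.node (.leaf 17933873) (.leaf 9175809)) (.leaf 1182755))))) (.node (.node (.node (.node (.node (.leaf 1953360) (.leaf 8339715)) (.node (.leaf 11376579) (.leaf 25765219))) (.node (.node (.leaf 28203361) (.leaf 7005842)) (.node (.leaf 14846799) (.leaf 26072946)))) (.node (.node (.node (.leaf 11675108) (.leaf 4591596)) (.node (.leaf 30052516) (.leaf 24583907))) (.node (.node (.leaf 25249171) (.leaf 10474222)) (.leaf 11445572)))) (.node (.node (.node (.node (.leaf 16032819) (.leaf 19291108)) (.node (.leaf 29872963) (.leaf 16029711))) (.node (.node (.leaf 19752131) (.leaf 30759114)) (.node (.leaf 2073610) (.leaf 30461266)))) (.node (.node (.node (.leaf 14896786) (.leaf 21128274)) (.node (.leaf 3948815) (.leaf 16782849))) (.node (.node (.leaf 24648772) (.leaf 1152580)) (.leaf 18695235)))))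

/-- Part of the table `witT4`. -/
def witT4_aaab : Tr := .node witT4_aaaba witT4_aaabb

/-- Part of the table `witT4`. -/
def witT4_aaa : Tr := .node witT4_aaaa witT4_aaab

/-- Part of the table `witT4`. -/
def witT4_aabaa : Tr := .node (.node (.node (.node (.node (.node (.leaf 21059043) (.leaf 24813396)) (.node (.leaf 17321891) (.leaf 19702314))) (.node (.node (.leaf 3220081) (.leaf 29313027)) (.node (.leaf 7832739) (.leaf 5888081)))) (.node (.node (.node (.leaf 24641966) (.leaf 8015188)) (.node (.leaf 27025286) (.leaf 29871267))) (.node (.node (.leaf 14091651) (.leaf 23880387)) (.leaf 12051596)))) (.node (.node (.node (.node (.leaf 7772236) (.leaf 2069100)) (.node (.leaf 6447937) (.leaf 19636713))) (.node (.node (.leaf 10306433) (.leaf 14228131)) (.node (.leaf 3433281) (.leaf 24353316)))) (.node (.node (.node (.leaf 12048356) (.leaf 3873009)) (.node (.leaf 26436321) (.leaf 11273610))) (.node (.node (.leaf 1348801) (.leaf 3590217)) (.leaf 28910948))))) (.node (.node (.node (.node (.node (.leaf 6196654) (.leaf 26874417)) (.node (.leaf 9181201) (.leaf 16663988))) (.node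 (.node (.leaf 5236108) (.leaf 23601617)) (.node (.leaf 17109767) (.leaf 26301251)))) (.node (.node (.node (.leaf 24862753) (.leaf 27022369)) (.node (.leaf 25009764) (.leaf 6675150))) (.node (.node (.leaf 16155427) (.leaf 1823151)) (.leaf 8209153)))) (.node (.node (.node (.node (.leaf 382305) (.leaf 30823491)) (.node (.leaf 5736847) (.leaf 28152193))) (.node (.node (.leaf 942321) (.leaf 23594383)) (.node (.leaf 30742252) (.leaf 234092)))) (.node (.node (.node (.leaf 7953010) (.leaf 6935267)) (.node (.leaf 4576910) (.leaf 23993966))) (.node (.node (.leaf 8949745) (.leaf 871502)) (.leaf 11228003)))))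

/-- Part of the table `witT4`. -/
def witT4_aabab : Tr := .node (.node (.node (.node (.node (.node (.leaf 12520611) (.leaf 9936526)) (.node (.leaf 3260687) (.leaf 30523495))) (.node (.node (.leaf 21013612) (.leaf 20600161)) (.node (.leaf 18440932) (.leaf 27528225)))) (.node (.node (.node (.leaf 10064) (.leaf 21505220)) (.node (.leaf 3941860) (.leaf 29511924))) (.node (.node (.leaf 6988451) (.leaf 27612419)) (.leaf 13652079)))) (.node (.node (.node (.node (.leaf 25338289) (.leaf 1164204)) (.node (.leaf 5540207) (.leaf 1852530))) (.node (.node (.leaf 15934689) (.leaf 28369939)) (.node (.leaf 7425194) (.leaf 19482627)))) (.node (.node (.node (.leaf 24338282) (.leaf 30578546)) (.node (.leaf 30951852) (.leaf 28721667))) (.node (.node (.leaf 13091882) (.leaf 20236355)) (.leaf 1544209))))) (.node (.node (.node (.node (.node (.leaf 15328050) (.leaf 23134881)) (.node (.leaf 12542564) (.leaf 4150991))) (.node (.node (.leaf 3998497) (.leaf 5563788)) (.node (.leaf 4580084) (.leaf 17800370)))) (.node (.node (.node (.leaf 6964050) (.leaf 18945743)) (.node (.leaf 11128457) (.leaf 26616291)))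 (.node (.node (.leaf 7087214) (.leaf 1432274)) (.leaf 25190115)))) (.node (.node (.node (.node (.leaf 7758849) (.leaf 23941428)) (.node (.leaf 8348291) (.leaf 23266740))) (.node (.node (.leaf 9626356) (.leaf 5622828)) (.node (.leaf 27797329) (.leaf 23986945)))) (.node (.node (.node (.leaf 14092270) (.leaf 20948081)) (.node (.leaf 17163054) (.leaf 18013475))) (.node (.node (.leaf 12821390) (.leaf 13522211)) (.leaf 28301388)))))

/-- Part of the table `witT4`. -/
def witT4_aaba : Tr := .node witT4_aabaa witT4_aabab

/-- Part of the table `witT4`. -/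
def witT4_aabba : Tr := .node (.node (.node (.node (.node (.node (.leaf 1201443) (.leaf 27530257)) (.node (.leaf 8487555) (.leaf 856131))) (.node (.node (.leaf 19431683) (.leaf 2070467)) (.node (.leaf 29377155) (.leaf 20911617)))) (.node (.node (.node (.leaf 13206604) (.leaf 7605473)) (.node (.leaf 16548978) (.leaf 15369330))) (.node (.node (.leaf 6555345) (.leaf 13763971)) (.leaf 21139342)))) (.node (.node (.node (.node (.leaf 6327951) (.leaf 13881034)) (.node (.leaf 26363971) (.leaf 19908515))) (.node (.node (.leaf 22660995) (.leaf 12886499)) (.node (.leaf 15213793) (.leaf 2086988)))) (.node (.node (.node (.leaf 17141795) (.leaf 19337809)) (.node (.leaf 28901738) (.leaf 3936564))) (.node (.node (.leaf 5391182) (.leaf 3330830)) (.leaf 6792417))))) (.node (.node (.node (.node (.node (.leaf 23101955) (.leaf 13423969)) (.node (.leaf 26398755) (.leaf 20320238))) (.node (.node (.leaf 7787811) (.leaf 28188561)) (.node (.leaf 1643281) (.leaf 10735148)))) (.node (.node (.node (.leaf 727788) (.leaf 17645838)) (.node (.leaf 8341329) (.leaf 16909426))) (.node (.node (.leaf 7315809)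 (.leaf 1622819)) (.leaf 20418354)))) (.node (.node (.node (.node (.leaf 22813315) (.leaf 14098384)) (.node (.leaf 21800076) (.leaf 4317377))) (.node (.node (.leaf 10952737) (.leaf 22438892)) (.node (.leaf 28594026) (.leaf 24809004)))) (.node (.node (.node (.leaf 5564146) (.leaf 12765196)) (.node (.leaf 5440754) (.leaf 15094862))) (.node (.node (.leaf 11084753) (.leaf 25255299)) (.leaf 27878540)))))

/-- Part of the table `witT4`. -/
def witT4_aabbb : Tr := .node (.node (.node (.node (.node (.node (.leaf 13454129) (.leaf 15229603)) (.node (.leaf 14377552) (.leaf 15306787))) (.node (.node (.leaf 28115884) (.leaf 23913841)) (.node (.leaf 31053763) (.leaf 20646990)))) (.node (.node (.node (.leaf 23404225) (.leaf 11721906)) (.node (.leaf 29516876) (.leaf 3515722))) (.node (.node (.leaf 4072625) (.leaf 15712394)) (.leaf 4445351)))) (.node (.node (.node (.node (.leaf 18634378) (.leaf 26299555)) (.node (.leaf 23627271) (.leaf 25249162))) (.node (.node (.leaf 6627956) (.leaf 24958407)) (.node (.leaf 8847790) (.leaf 28845543)))) (.node (.node (.node (.leaf 17736177) (.leaf 28167489))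 (.node (.leaf 12720001) (.leaf 22306446))) (.node (.node (.leaf 27597617) (.leaf 24814883)) (.leaf 13455273))))) (.node (.node (.node (.node (.node (.leaf 1167433) (.leaf 27747683)) (.node (.leaf 26134307) (.leaf 7841392))) (.node (.node (.leaf 5051203) (.leaf 23630068)) (.node (.leaf 15508590) (.leaf 21619444)))) (.node (.node (.node (.leaf 30952554) (.leaf 5710369)) (.node (.leaf 3761092) (.leaf 10862956))) (.node (.node (.leaf 3031343) (.leaf 11178819)) (.leaf 22088810)))) (.node (.node (.node (.node (.leaf 30646761) (.leaf 626322)) (.node (.leaf 4858913) (.leaf 11527459))) (.node (.node (.leaf 18982113) (.leaf 577553)) (.node (.leaf 4773169) (.leaf 2376916)))) (.node (.node (.node (.leaf 3768835) (.leaf 627076)) (.node (.leaf 21242799) (.leaf 332783))) (.node (.node (.leaf 10552193) (.leaf 1417519)) (.leaf 23747623)))))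

/-- Part of the table `witT4`. -/
def witT4_aabb : Tr := .node witT4_aabba witT4_aabbb

/-- Part of the table `witT4`. -/
def witT4_aab : Tr := .node witT4_aaba witT4_aabb

/-- Part of the table `witT4`. -/
def witT4_aa : Tr := .node witT4_aaa witT4_aab

/-- Part of the table `witT4`. -/
def witT4_abaaa : Tr := .node (.node (.node (.node (.node (.node (.leaf 4773964) (.leaf 27792327)) (.node (.leaf 12312609) (.leaf 5447395))) (.node (.node (.leaf 3925103) (.leaf 3760803)) (.node (.leaf 20898188) (.leaf 31335500)))) (.node (.node (.node (.leaf 4085484) (.leaf 10392291)) (.node (.leaf 30163747) (.leaf 12920204))) (.node (.node (.leaf 31055214) (.leaf 16729251)) (.leaf 8116558)))) (.node (.node (.node (.node (.leaf 13291433) (.leaf 19079459)) (.node (.leaf 20909827) (.leaf 19634096))) (.node (.node (.leaf 8947409) (.leaf 18686532)) (.node (.leaf 4379459) (.leaf 15355105)))) (.node (.node (.node (.leaf 7605588) (.leaf 20480803)) (.node (.leaf 26989959) (.leaf 3590211))) (.node (.node (.leaf 29236099) (.leaf 9458179)) (.leaf 19812623))))) (.node (.node (.node (.node (.node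 (.leaf 26985479) (.leaf 20896097)) (.node (.leaf 12198401) (.leaf 5082145))) (.node (.node (.leaf 2326831) (.leaf 11575075)) (.node (.leaf 27563041) (.leaf 29662001)))) (.node (.node (.node (.leaf 9380652) (.leaf 4297539)) (.node (.leaf 27988483) (.leaf 10094371))) (.node (.node (.leaf 16426095) (.leaf 10639395)) (.leaf 22466721)))) (.node (.node (.node (.node (.leaf 20437601) (.leaf 20907783)) (.node (.leaf 13223334) (.leaf 21153233))) (.node (.node (.leaf 4744516) (.leaf 13669443)) (.node (.leaf 19636899) (.leaf 31351948)))) (.node (.node (.node (.leaf 28283500) (.leaf 10389571)) (.node (.leaf 25972039) (.leaf 19227020))) (.node (.node (.leaf 23501511) (.leaf 3921865)) (.leaf 548113)))))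

/-- Part of the table `witT4`. -/
def witT4_abaab : Tr := .node (.node (.node (.node (.node (.node (.leaf 26353204) (.leaf 19005807)) (.node (.leaf 1527340) (.leaf 22159849))) (.node (.node (.leaf 13919308) (.leaf 6936521)) (.node (.leaf 5542282) (.leaf 8955276)))) (.node (.node (.node (.leaf 24519268) (.leaf 12321070)) (.node (.leaf 19826606) (.leaf 19752257))) (.node (.node (.leaf 24634479) (.leaf 2973987)) (.leaf 2556945)))) (.node (.node (.node (.node (.leaf 30264963) (.leaf 10065)) (.node (.leaf 2326819) (.leaf 23271024))) (.node (.node (.leaf 6607587) (.leaf 30789164)) (.node (.leaf 7576867) (.leaf 26302409)))) (.node (.node (.node (.leaf 23208993) (.leaf 21308228)) (.node (.leaf 20178028) (.leaf 24629987))) (.node (.node (.leaf 23912515) (.leaf 24958993)) (.leaf 11097347))))) (.node (.node (.node (.node (.node (.leaf 25534657) (.leaf 6251441)) (.node (.leaf 10132810) (.leaf 18404689))) (.node (.node (.leaf 25125965) (.leaf 15094535)) (.node (.leaf 22298988) (.leaf 23137795)))) (.node (.node (.node (.leaf 11830386) (.leaf 29353170)) (.node (.leaf 2315617) (.leaf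 17555282))) (.node (.node (.leaf 5033475) (.leaf 17325761)) (.leaf 16376641)))) (.node (.node (.node (.node (.leaf 3623) (.leaf 4380617)) (.node (.leaf 2377107) (.leaf 3114467))) (.node (.node (.leaf 8117297) (.leaf 28746241)) (.node (.leaf 14358691) (.leaf 30049895)))) (.node (.node (.node (.leaf 20399590) (.leaf 12936268)) (.node (.leaf 30036398) (.leaf 25136291))) (.node (.node (.leaf 27642986) (.leaf 3759153)) (.leaf 9249105)))))

/-- Part of the table `witT4`. -/
def witT4_abaa : Tr := .node witT4_abaaa witT4_abaab

/-- Part of the table `witT4`. -/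
def witT4_ababa : Tr := .node (.node (.node (.node (.node (.node (.leaf 5661668) (.leaf 4878)) (.node (.leaf 3589967) (.leaf 515521))) (.node (.node (.leaf 19816369) (.leaf 13211278)) (.node (.leaf 8084658) (.leaf 17355434)))) (.node (.node (.node (.leaf 1743474) (.leaf 3040196)) (.node (.leaf 4572236) (.leaf 26317185))) (.node (.node (.leaf 19750150) (.leaf 26157539)) (.leaf 28116047)))) (.node (.node (.node (.node (.leaf 19305009) (.leaf 20636868)) (.node (.leaf 16934196) (.leaf 23635055))) (.node (.node (.leaf 16271139) (.leaf 22864103)) (.node (.leaf 21028143) (.leaf 24630083)))) (.node (.node (.node (.leaf 13029537) (.leaf 27582953)) (.node (.leaf 3884881) (.leaf 14797169))) (.node (.node (.leaf 13755602) (.leaf 14091090)) (.leaf 11272622))))) (.node (.node (.node (.node (.node (.leaf 22942737) (.leaf 18407313)) (.node (.leaf 16763982) (.leaf 3260780))) (.node (.node (.leaf 30869010) (.leaf 7573036)) (.node (.leaf 12378849) (.leaf 11767433)))) (.node (.node (.node (.leaf 12503052) (.leaf 5653411)) (.node (.leaf 20170258) (.leaf 29087683))) (.node (.node (.leaf 10839760)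 (.leaf 27493452)) (.leaf 25497681)))) (.node (.node (.node (.node (.leaf 19960945) (.leaf 22864615)) (.node (.leaf 27871715) (.leaf 30035747))) (.node (.node (.leaf 15980625) (.leaf 13342665)) (.node (.leaf 711882) (.leaf 16418889)))) (.node (.node (.node (.leaf 4984146) (.leaf 418927)) (.node (.leaf 21680289) (.leaf 5955274))) (.node (.node (.leaf 15212577) (.leaf 19371041)) (.leaf 5445667)))))

/-- Part of the table `witT4`. -/
def witT4_ababb : Tr := .node (.node (.node (.node (.node (.node (.leaf 7785550) (.leaf 12536236)) (.node (.leaf 11928643) (.leaf 17957665))) (.node (.node (.leaf 23531951) (.leaf 3891843)) (.node (.leaf 89475) (.leaf 13526577)))) (.node (.node (.node (.leaf 3740398) (.leaf 20911363)) (.node (.leaf 27993489) (.leaf 5382787))) (.node (.node (.leaf 26363727) (.leaf 1647025)) (.leaf 15848931)))) (.node (.node (.node (.node (.leaf 8065409) (.leaf 1218671)) (.node (.leaf 6588844) (.leaf 30872259))) (.node (.node (.leaf 22041859) (.leaf 23434385)) (.node (.leaf 29235172) (.leaf 82986)))) (.node (.node (.node (.leaf 27528227) (.leaf 3037537)) (.node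 (.leaf 11525972) (.leaf 20483760))) (.node (.node (.leaf 3950499) (.leaf 27991047)) (.leaf 5710378))))) (.node (.node (.node (.node (.node (.leaf 30574090) (.leaf 6726977)) (.node (.leaf 30150019) (.leaf 2565041))) (.node (.node (.leaf 24618385) (.leaf 23285921)) (.node (.leaf 30270115) (.leaf 19972686)))) (.node (.node (.node (.leaf 20424193) (.leaf 24550787)) (.node (.leaf 4252780) (.leaf 26886927))) (.node (.node (.leaf 38064) (.leaf 9249732)) (.leaf 13746446)))) (.node (.node (.node (.node (.leaf 1005217) (.leaf 31334631)) (.node (.leaf 15680911) (.leaf 31056897))) (.node (.node (.leaf 13210467) (.leaf 13589682)) (.node (.leaf 492931) (.leaf 23600577)))) (.node (.node (.node (.leaf 14928931) (.leaf 5037761)) (.node (.leaf 2428835) (.leaf 7276462))) (.node (.node (.leaf 6153700) (.leaf 25054033)) (.leaf 8086738)))))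

/-- Part of the table `witT4`. -/
def witT4_abab : Tr := .node witT4_ababa witT4_ababb

/-- Part of the table `witT4`. -/
def witT4_aba : Tr := .node witT4_abaa witT4_abab

/-- Part of the table `witT4`. -/
def witT4_abbaa : Tr := .node (.node (.node (.node (.node (.node (.leaf 6297539) (.leaf 19306032)) (.node (.leaf 27853226) (.leaf 30958435))) (.node (.node (.leaf 20942145) (.leaf 25496903)) (.node (.leaf 25190753) (.leaf 15604460)))) (.node (.node (.node (.leaf 6456193) (.leaf 28345123)) (.node (.leaf 3676612) (.leaf 11256899))) (.node (.node (.leaf 15553294) (.leaf 12652625)) (.leaf 24533068)))) (.node (.node (.node (.node (.leaf 25501571) (.leaf 8349068)) (.node (.leaf 18583559) (.leaf 15129124))) (.node (.node (.leaf 4751395) (.leaf 15700457)) (.node (.leaf 16912401) (.leaf 27518161)))) (.node (.node (.node (.leaf 30958593) (.leaf 544562)) (.node (.leaf 27613295) (.leaf 3477539))) (.node (.node (.leaf 3266209) (.leaf 8249697)) (.leaf 26354209))))) (.node (.node (.node (.node (.node (.leaf 21795569) (.leaf 23432784)) (.node (.leaf 26223410) (.leaf 27911524))) (.node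 (.node (.leaf 31014947) (.leaf 6988740)) (.node (.leaf 23389938) (.leaf 14145409)))) (.node (.node (.node (.leaf 20910692) (.leaf 27641315)) (.node (.leaf 3892620) (.leaf 7835984))) (.node (.node (.leaf 31332496) (.leaf 27991745)) (.leaf 28140033)))) (.node (.node (.node (.node (.leaf 7611791) (.leaf 626601)) (.node (.leaf 21795305) (.leaf 11771329))) (.node (.node (.leaf 29022115) (.leaf 8558537)) (.node (.leaf 6759057) (.leaf 23874887)))) (.node (.node (.node (.leaf 15892910) (.leaf 3676756)) (.node (.leaf 21119916) (.leaf 18438961))) (.node (.node (.leaf 15698409) (.leaf 14603844)) (.leaf 9587756)))))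

/-- Part of the table `witT4`. -/
def witT4_abbab : Tr := .node (.node (.node (.node (.node (.node (.leaf 17663111) (.leaf 2397217)) (.node (.leaf 7836655) (.leaf 27184291))) (.node (.node (.leaf 18141164) (.leaf 14111730)) (.node (.leaf 20399729) (.leaf 9443761)))) (.node (.node (.node (.leaf 18565132) (.leaf 24797443)) (.node (.leaf 29795281) (.leaf 6996611))) (.node (.node (.leaf 21546380) (.leaf 29386386)) (.leaf 18981996)))) (.node (.node (.node (.node (.leaf 7791332) (.leaf 28285290)) (.node (.leaf 20090793) (.leaf 15990926))) (.node (.node (.leaf 13526371) (.leaf 28805710)) (.node (.leaf 24859331) (.leaf 4208)))) (.node (.node (.node (.leaf 18470179) (.leaf 15453228)) (.node (.leaf 31433937) (.leaf 21699308))) (.node (.node (.leaf 29793583) (.leaf 20913680)) (.leaf 5966414))))) (.node (.node (.node (.node (.node (.leaf 19570369) (.leaf 28481185)) (.node (.leaf 22435489) (.leaf 22693386))) (.node (.node (.leaf 6970659) (.leaf 25191346)) (.node (.leaf 27498126) (.leaf 9457155)))) (.node (.node (.node (.leaf 3396067) (.leaf 23118625)) (.node (.leaf 21701682) (.leaf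 27907652))) (.node (.node (.leaf 2811188) (.leaf 23108625)) (.leaf 12493874)))) (.node (.node (.node (.node (.leaf 17241071) (.leaf 27989059)) (.node (.leaf 29499107) (.leaf 6296393))) (.node (.node (.leaf 20236361) (.leaf 29901959)) (.node (.leaf 10259500) (.leaf 10412273)))) (.node (.node (.node (.leaf 13606985) (.leaf 12490659)) (.node (.leaf 24026403) (.leaf 23594449))) (.node (.node (.leaf 631297) (.leaf 13476577)) (.leaf 18146179)))))

/-- Part of the table `witT4`. -/
def witT4_abba : Tr := .node witT4_abbaa witT4_abbab

/-- Part of the table `witT4`. -/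
def witT4_abbba : Tr := .node (.node (.node (.node (.node (.node (.leaf 29697423) (.leaf 18405554)) (.node (.leaf 23175171) (.leaf 27820963))) (.node (.node (.leaf 1647698) (.leaf 29101612)) (.node (.leaf 11707372) (.leaf 10577187)))) (.node (.node (.node (.leaf 8381347) (.leaf 12322543)) (.node (.leaf 5644209) (.leaf 938672))) (.node (.node (.leaf 29239026) (.leaf 11928818)) (.leaf 19047331)))) (.node (.node (.node (.node (.leaf 10100739) (.leaf 14109921)) (.node (.leaf 14221423) (.leaf 3589063))) (.node (.node (.leaf 23077409) (.leaf 6210209)) (.node (.leaf 31052617) (.leaf 9691329)))) (.node (.node (.node (.leaf 9274801) (.leaf 230883)) (.node (.leaf 20914801) (.leaf 26465220))) (.node (.node (.leaf 23139395) (.leaf 13290890)) (.leaf 4383474))))) (.node (.node (.node (.node (.node (.leaf 1138) (.leaf 22940707)) (.node (.leaf 6330092) (.leaf 19436657))) (.node (.node (.leaf 30761985) (.leaf 24560387)) (.node (.leaf 367) (.leaf 23239175)))) (.node (.node (.node (.leaf 18490478) (.leaf 10101511)) (.node (.leaf 12489652) (.leaf 23664498))) (.node (.node (.leaf 1426) (.leaf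 10666254)) (.leaf 51628)))) (.node (.node (.node (.node (.leaf 7638819) (.leaf 6737426)) (.node (.leaf 23484868) (.leaf 26183043))) (.node (.node (.leaf 10673330) (.leaf 28575523)) (.node (.leaf 16400654) (.leaf 26140675)))) (.node (.node (.node (.leaf 29774834) (.leaf 7784422)) (.node (.leaf 12817921) (.leaf 16374019))) (.node (.node (.leaf 26239279) (.leaf 4283116)) (.leaf 15370115)))))

/-- Part of the table `witT4`. -/
def witT4_abbbb : Tr := .node (.node (.node (.node (.node (.node (.leaf 8561740) (.leaf 25123425)) (.node (.leaf 3675441) (.leaf 19014212))) (.node (.node (.leaf 2739315) (.leaf 22110962)) (.node (.leaf 1639078) (.leaf 3611335)))) (.node (.node (.node (.leaf 6211596) (.leaf 22321900)) (.node (.leaf 6948817) (.leaf 29876978))) (.node (.node (.leaf 28384547) (.leaf 29610890)) (.leaf 30958180)))) (.node (.node (.node (.node (.leaf 27878796) (.leaf 31334375)) (.node (.leaf 17089932) (.leaf 14717316))) (.node (.node (.leaf 12951825) (.leaf 24912417)) (.node (.leaf 19636561) (.leaf 21895716)))) (.node (.node (.node (.leaf 1762929) (.leaf 20391108)) (.node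 (.leaf 673519) (.leaf 22258764))) (.node (.node (.leaf 6792705) (.leaf 11704551)) (.leaf 28148559))))) (.node (.node (.node (.node (.node (.leaf 9457153) (.leaf 411143)) (.node (.leaf 10997123) (.leaf 21452129))) (.node (.node (.leaf 12687791) (.leaf 742503)) (.node (.leaf 14768850) (.leaf 25301073)))) (.node (.node (.node (.leaf 13667841) (.leaf 27874033)) (.node (.leaf 15698403) (.leaf 1182753))) (.node (.node (.leaf 15033412) (.leaf 7475907)) (.leaf 25682663)))) (.node (.node (.node (.node (.leaf 29426511) (.leaf 18766467)) (.node (.leaf 2139076) (.leaf 7063980))) (.node (.node (.leaf 27954791) (.leaf 23520209)) (.node (.leaf 12308650) (.leaf 22485540)))) (.node (.node (.node (.leaf 23600842) (.leaf 4334916)) (.node (.leaf 11391986) (.leaf 26351311))) (.node (.node (.leaf 26004867) (.leaf 5213409)) (.leaf 26890275)))))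

/-- Part of the table `witT4`. -/
def witT4_abbb : Tr := .node witT4_abbba witT4_abbbb

/-- Part of the table `witT4`. -/
def witT4_abb : Tr := .node witT4_abba witT4_abbb

/-- Part of the table `witT4`. -/
def witT4_ab : Tr := .node witT4_aba witT4_abb

/-- Part of the table `witT4`. -/
def witT4_a : Tr := .node witT4_aa witT4_ab

/-- Part of the table `witT4`. -/
def witT4_baaaa : Tr := .node (.node (.node (.node (.node (.node (.leaf 13276353) (.leaf 8479116)) (.node (.leaf 30904067) (.leaf 10624803))) (.node (.node (.leaf 25501121) (.leaf 2333006)) (.node (.leaf 7144524) (.leaf 20094755)))) (.node (.node (.node (.leaf 22353865) (.leaf 12150273)) (.node (.leaf 10577198) (.leaf 3346915))) (.node (.node (.leaf 18555537) (.leaf 3597388)) (.leaf 16043523)))) (.node (.node (.node (.node (.leaf 27871249) (.leaf 2939281)) (.node (.leaf 19878945) (.leaf 4739457))) (.node (.node (.leaf 2179873) (.leaf 9413553)) (.node (.leaf 3331015) (.leaf 24733068)))) (.node (.node (.node (.leaf 29099395) (.leaf 7607282)) (.node (.leaf 29360419) (.leaf 215887))) (.node (.node (.leaf 26600467)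 (.leaf 9836878)) (.leaf 9461441))))) (.node (.node (.node (.node (.node (.leaf 23593287) (.leaf 29860652)) (.node (.leaf 23743713) (.leaf 18801473))) (.node (.node (.leaf 10802116) (.leaf 19237932)) (.node (.leaf 19088914) (.leaf 5561763)))) (.node (.node (.node (.leaf 19047911) (.leaf 18801774)) (.node (.leaf 30786947) (.leaf 23634151))) (.node (.node (.leaf 28020643) (.leaf 17240452)) (.leaf 3678156)))) (.node (.node (.node (.node (.leaf 27861505) (.leaf 15319980)) (.node (.leaf 15549554) (.leaf 30704882))) (.node (.node (.leaf 11491681) (.leaf 17960466)) (.node (.leaf 27201609) (.leaf 4070418)))) (.node (.node (.node (.leaf 25248810) (.leaf 19056419)) (.node (.leaf 23438049) (.leaf 17883169))) (.node (.node (.leaf 12674188) (.leaf 3327090)) (.leaf 17801745)))))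

/-- Part of the table `witT4`. -/
def witT4_baaab : Tr := .node (.node (.node (.node (.node (.node (.leaf 25695875) (.leaf 13313420)) (.node (.leaf 25678659) (.leaf 21636236))) (.node (.node (.leaf 4659748) (.leaf 12737121)) (.node (.leaf 8345572) (.leaf 4592430)))) (.node (.node (.node (.leaf 30527555) (.leaf 8065006)) (.node (.leaf 20604099) (.leaf 29679108))) (.node (.node (.leaf 18615329) (.leaf 10886660)) (.leaf 7426889)))) (.node (.node (.node (.node (.leaf 25677831) (.leaf 19748193)) (.node (.leaf 6643427) (.leaf 12886369))) (.node (.node (.leaf 13503713) (.leaf 11797900)) (.node (.leaf 1057027) (.leaf 13820771)))) (.node (.node (.node (.leaf 27789187) (.leaf 87788)) (.node (.leaf 15099022) (.leaf 29086537))) (.node (.node (.leaf 5381539) (.leaf 30644577)) (.leaf 6737863))))) (.node (.node (.node (.node (.node (.leaf 25354481) (.leaf 27892708)) (.node (.leaf 19812841) (.leaf 6294698))) (.node (.node (.leaf 6658691) (.leaf 16274020)) (.node (.leaf 8976) (.leaf 25499562)))) (.node (.node (.node (.leaf 14377153) (.leaf 9900515)) (.node (.leaf 23797012) (.leaf 2756014)))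 (.node (.node (.leaf 27025264) (.leaf 12656065)) (.leaf 19695523)))) (.node (.node (.node (.node (.leaf 30328657) (.leaf 15208879)) (.node (.leaf 16209569) (.leaf 26171651))) (.node (.node (.leaf 16368399) (.leaf 26599715)) (.node (.leaf 2301582) (.leaf 29397153)))) (.node (.node (.node (.leaf 2483508) (.leaf 11772611)) (.node (.leaf 4183023) (.leaf 25120835))) (.node (.node (.leaf 25126084) (.leaf 6488431)) (.leaf 23766371)))))

/-- Part of the table `witT4`. -/
def witT4_baaa : Tr := .node witT4_baaaa witT4_baaab

/-- Part of the table `witT4`. -/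
def witT4_baaba : Tr := .node (.node (.node (.node (.node (.node (.leaf 772003) (.leaf 1644268)) (.node (.leaf 16668291) (.leaf 31302738))) (.node (.node (.leaf 22406339) (.leaf 26690513)) (.node (.leaf 8998706) (.leaf 13524271)))) (.node (.node (.node (.leaf 10494627) (.leaf 12797450)) (.node (.leaf 3760524) (.leaf 18813742))) (.node (.node (.leaf 3514671) (.leaf 30048394)) (.leaf 24167975)))) (.node (.node (.node (.node (.leaf 28316689) (.leaf 13518063)) (.node (.leaf 27987747) (.leaf 25120623))) (.node (.node (.leaf 29773025) (.leaf 22830596)) (.node (.leaf 19710595) (.leaf 17962017)))) (.node (.node (.node (.leaf 26255121) (.leaf 12346243)) (.node (.leaf 16009102) (.leaf 1098095))) (.node (.node (.leaf 18045262) (.leaf 7609383)) (.leaf 17074243))))) (.node (.node (.node (.node (.node (.leaf 14066668) (.leaf 15667588)) (.node (.leaf 11518802) (.leaf 28484588))) (.node (.node (.leaf 25579111) (.leaf 13034308)) (.node (.leaf 13179428) (.leaf 20485002)))) (.node (.node (.node (.leaf 21483370) (.leaf 28452161)) (.node (.leaf 31314961) (.leaf 20402958))) (.node (.node (.leaf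 30443948) (.leaf 23042159)) (.leaf 8345615)))) (.node (.node (.node (.node (.leaf 8609618) (.leaf 7621097)) (.node (.leaf 22157646) (.leaf 26165703))) (.node (.node (.leaf 12898385) (.leaf 22447218)) (.node (.leaf 10068899) (.leaf 1638830)))) (.node (.node (.node (.leaf 12403585) (.leaf 2450162)) (.node (.leaf 23991494) (.leaf 5969546))) (.node (.node (.leaf 19833123) (.leaf 5135663)) (.leaf 25434188)))))

/-- Part of the table `witT4`. -/
def witT4_baabb : Tr := .node (.node (.node (.node (.node (.node (.leaf 30065487) (.leaf 10749330)) (.node (.leaf 29576995) (.leaf 17245297))) (.node (.node (.leaf 30761994) (.leaf 24544172)) (.node (.leaf 19040657) (.leaf 31425938)))) (.node (.node (.node (.leaf 1450721) (.leaf 27664014)) (.node (.leaf 1401932) (.leaf 15934572))) (.node (.node (.leaf 9359345) (.leaf 4051785)) (.leaf 15619150)))) (.node (.node (.node (.node (.leaf 1020366) (.leaf 17416495)) (.node (.leaf 24202895) (.leaf 17064481))) (.node (.node (.leaf 21350828) (.leaf 1099377)) (.node (.leaf 1164330) (.leaf 21696455)))) (.node (.node (.node (.leaf 21005842) (.leaf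 28288001)) (.node (.leaf 2432705) (.leaf 10191986))) (.node (.node (.leaf 24008739) (.leaf 4050090)) (.leaf 5833644))))) (.node (.node (.node (.node (.node (.leaf 23762211) (.leaf 22741839)) (.node (.leaf 23616103) (.leaf 12996993))) (.node (.node (.leaf 15507044) (.leaf 3604847)) (.node (.leaf 19161425) (.leaf 3317475)))) (.node (.node (.node (.leaf 4768106) (.leaf 16028137)) (.node (.leaf 18941859) (.leaf 6939724))) (.node (.node (.leaf 3105987) (.leaf 10404611)) (.leaf 4465776)))) (.node (.node (.node (.node (.leaf 23682851) (.leaf 8215524)) (.node (.leaf 25575786) (.leaf 14983713))) (.node (.node (.leaf 27984803) (.leaf 26956786)) (.node (.leaf 18157603) (.leaf 26174273)))) (.node (.node (.node (.leaf 1804110) (.leaf 18255939)) (.node (.leaf 3957290) (.leaf 7897889))) (.node (.node (.leaf 9821475) (.leaf 26316782)) (.leaf 22351011)))))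

/-- Part of the table `witT4`. -/
def witT4_baab : Tr := .node witT4_baaba witT4_baabb

/-- Part of the table `witT4`. -/
def witT4_baa : Tr := .node witT4_baaa witT4_baab

/-- Part of the table `witT4`. -/
def witT4_babaa : Tr := .node (.node (.node (.node (.node (.node (.leaf 31362958) (.leaf 14246994)) (.node (.leaf 22305411) (.leaf 11485475))) (.node (.node (.leaf 2614930) (.leaf 23272078)) (.node (.leaf 29877324) (.leaf 25470129)))) (.node (.node (.node (.leaf 23601859) (.leaf 6979887)) (.node (.leaf 4916291) (.leaf 29233201))) (.node (.node (.leaf 26592078) (.leaf 7392481)) (.leaf 29893554)))) (.node (.node (.node (.node (.leaf 6902145) (.leaf 9803761)) (.node (.leaf 7424428) (.leaf 20914179))) (.node (.node (.leaf 29720778) (.leaf 5656065)) (.node (.leaf 26633156) (.leaf 23662478)))) (.node (.node (.node (.leaf 5956049) (.leaf 2335116)) (.node (.leaf 25939457) (.leaf 23602279))) (.node (.node (.leaf 2080879) (.leaf 18600009)) (.leaf 14377263))))) (.node (.node (.node (.node (.node (.leaf 29105443) (.leaf 27334834)) (.node (.leaf 23911009) (.leaf 22429967))) (.node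 (.node (.leaf 12255502) (.leaf 14459811)) (.node (.leaf 23597137) (.leaf 27873769)))) (.node (.node (.node (.leaf 7609091) (.leaf 30754275)) (.node (.leaf 23356396) (.leaf 23823402))) (.node (.node (.leaf 26354668) (.leaf 22747858)) (.leaf 2744195)))) (.node (.node (.node (.node (.leaf 19255182) (.leaf 4969457)) (.node (.leaf 11653955) (.leaf 14034404))) (.node (.node (.leaf 3836332) (.leaf 18142825)) (.node (.leaf 17700940) (.leaf 26170211)))) (.node (.node (.node (.leaf 10182723) (.leaf 21144483)) (.node (.leaf 26055139) (.leaf 16519332))) (.node (.node (.leaf 12419922) (.leaf 29874121)) (.leaf 5530820)))))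

/-- Part of the table `witT4`. -/
def witT4_babab : Tr := .node (.node (.node (.node (.node (.node (.leaf 27413070) (.leaf 3105825)) (.node (.leaf 23384553) (.leaf 727203))) (.node (.node (.leaf 23927683) (.leaf 12538476)) (.node (.leaf 9982819) (.leaf 13949281)))) (.node (.node (.node (.leaf 3695410) (.leaf 942979)) (.node (.leaf 18604465) (.leaf 2809108))) (.node (.node (.leaf 29742433) (.leaf 11576433)) (.leaf 16130993)))) (.node (.node (.node (.node (.leaf 20419267) (.leaf 14983722)) (.node (.leaf 3514561) (.leaf 15998924))) (.node (.node (.leaf 13116396) (.leaf 21177740)) (.node (.leaf 23386127) (.leaf 30035457)))) (.node (.node (.node (.leaf 10389577) (.leaf 5637969)) (.node (.leaf 11027203) (.leaf 8195105))) (.node (.node (.leaf 16778991) (.leaf 8807457)) (.leaf 18748242))))) (.node (.node (.node (.node (.node (.leaf 23714609) (.leaf 25151175)) (.node (.leaf 23602598) (.leaf 4792945))) (.node (.node (.leaf 31050156) (.leaf 13222785)) (.node (.leaf 15704707) (.leaf 3162627)))) (.node (.node (.node (.leaf 9653761) (.leaf 11485487)) (.node (.leaf 5033763) (.leaf 30937473)))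 (.node (.node (.leaf 5709364) (.leaf 7608929)) (.leaf 11310020)))) (.node (.node (.node (.node (.leaf 13091246) (.leaf 30327043)) (.node (.leaf 16620266) (.leaf 11575809))) (.node (.node (.leaf 30054307) (.leaf 10396748)) (.node (.leaf 41891) (.leaf 21602817)))) (.node (.node (.node (.leaf 4378631) (.leaf 4297443)) (.node (.leaf 11671178) (.leaf 27071747))) (.node (.node (.leaf 14848462) (.leaf 6215988)) (.leaf 21124844)))))

/-- Part of the table `witT4`. -/
def witT4_baba : Tr := .node witT4_babaa witT4_babab

/-- Part of the table `witT4`. -/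
def witT4_babba : Tr := .node (.node (.node (.node (.node (.node (.leaf 30049057) (.leaf 27495316)) (.node (.leaf 24944466) (.leaf 25976257))) (.node (.node (.leaf 14377588) (.leaf 25495919)) (.node (.leaf 29332291) (.leaf 16715662)))) (.node (.node (.node (.leaf 17580879) (.leaf 24515180)) (.node (.leaf 27250543) (.leaf 23236521))) (.node (.node (.leaf 27083692) (.leaf 23125842)) (.leaf 24814894)))) (.node (.node (.node (.node (.leaf 1106500) (.leaf 30299747)) (.node (.leaf 4098051) (.leaf 24813678))) (.node (.node (.leaf 25707537) (.leaf 26232204)) (.node (.leaf 7773347) (.leaf 8212591)))) (.node (.node (.node (.leaf 23978497) (.leaf 10542692)) (.node (.leaf 10344433) (.leaf 6742416))) (.node (.node (.leaf 22529546) (.leaf 20907759)) (.leaf 4576099))))) (.node (.node (.node (.node (.node (.leaf 19043504) (.leaf 25387361)) (.node (.leaf 30644558) (.leaf 3957740))) (.node (.node (.leaf 16060302) (.leaf 23281866)) (.node (.leaf 20058129) (.leaf 30835619)))) (.node (.node (.node (.leaf 29203058) (.leaf 29852238)) (.node (.leaf 11457353) (.leaf 14345444))) (.node (.node (.leaf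 30039745) (.leaf 13804577)) (.leaf 26345743)))) (.node (.node (.node (.node (.leaf 8348812) (.leaf 25583564)) (.node (.leaf 12519247) (.leaf 27510162))) (.node (.node (.leaf 22241825) (.leaf 15697617)) (.node (.leaf 9473187) (.leaf 25679817)))) (.node (.node (.node (.leaf 7849902) (.leaf 11093795)) (.node (.leaf 1826849) (.leaf 19683363))) (.node (.node (.leaf 28908707) (.leaf 19912353)) (.leaf 26940996)))))

/-- Part of the table `witT4`. -/
def witT4_babbb : Tr := .node (.node (.node (.node (.node (.node (.leaf 22928657) (.leaf 27891171)) (.node (.leaf 8723331) (.leaf 11772369))) (.node (.node (.leaf 25056401) (.leaf 23595375)) (.node (.leaf 28295310) (.leaf 14115334)))) (.node (.node (.node (.leaf 13143155) (.leaf 6202387)) (.node (.leaf 21153167) (.leaf 16360401))) (.node (.node (.leaf 1639466) (.leaf 4753836)) (.leaf 6001425)))) (.node (.node (.node (.node (.leaf 16475856) (.leaf 15107921)) (.node (.leaf 18244803) (.leaf 23596147))) (.node (.node (.leaf 28791886) (.leaf 27871721)) (.node (.leaf 3460321) (.leaf 8018691)))) (.node (.node (.node (.leaf 23068943) (.leaf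 23907372)) (.node (.leaf 2185123) (.leaf 9425))) (.node (.node (.leaf 24484836) (.leaf 21554506)) (.leaf 6661044))))) (.node (.node (.node (.node (.node (.leaf 25527692) (.leaf 5511620)) (.node (.leaf 1755953) (.leaf 55498))) (.node (.node (.leaf 24271182) (.leaf 20552212)) (.node (.leaf 26416818) (.leaf 27788966)))) (.node (.node (.node (.leaf 23909362) (.leaf 29852291)) (.node (.leaf 527790) (.leaf 4594543))) (.node (.node (.leaf 26548465) (.leaf 27270766)) (.leaf 27878019)))) (.node (.node (.node (.node (.leaf 4440206) (.leaf 8945923)) (.node (.leaf 8999619) (.leaf 21456193))) (.node (.node (.leaf 29299779) (.leaf 18306767)) (.node (.leaf 17044547) (.leaf 25858531)))) (.node (.node (.node (.leaf 16368716) (.leaf 23535649)) (.node (.leaf 28531363) (.leaf 27935235))) (.node (.node (.leaf 20988208) (.leaf 14896449)) (.leaf 1639340)))))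

/-- Part of the table `witT4`. -/
def witT4_babb : Tr := .node witT4_babba witT4_babbb

/-- Part of the table `witT4`. -/
def witT4_bab : Tr := .node witT4_baba witT4_babb

/-- Part of the table `witT4`. -/
def witT4_ba : Tr := .node witT4_baa witT4_bab

/-- Part of the table `witT4`. -/
def witT4_bbaaa : Tr := .node (.node (.node (.node (.node (.node (.leaf 15602735) (.leaf 6292963)) (.node (.leaf 17927246) (.leaf 2412655))) (.node (.node (.leaf 9004257) (.leaf 28792849)) (.node (.leaf 10732931) (.leaf 29729604)))) (.node (.node (.node (.leaf 7181571) (.leaf 19636620)) (.node (.leaf 1855505) (.leaf 516593))) (.node (.node (.leaf 5554435) (.leaf 9195500)) (.leaf 15243617)))) (.node (.node (.node (.node (.leaf 19441036) (.leaf 26532163)) (.node (.leaf 11592387) (.leaf 20177201))) (.node (.node (.leaf 17173842) (.leaf 6149615)) (.node (.leaf 8021391) (.leaf 12621490)))) (.node (.node (.node (.leaf 15303756) (.leaf 8557379)) (.node (.leaf 10130314) (.leaf 11657970))) (.node (.node (.leaf 15830049) (.leaf 2179623)) (.leaf 30526689))))) (.node (.node (.node (.node (.node (.leaf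 6661100) (.leaf 3213091)) (.node (.leaf 31253732) (.leaf 31085251))) (.node (.node (.leaf 20578442) (.leaf 2429443)) (.node (.leaf 29910307) (.leaf 19080211)))) (.node (.node (.node (.leaf 7887396) (.leaf 21422817)) (.node (.leaf 1702) (.leaf 18977475))) (.node (.node (.leaf 15703459) (.leaf 12714627)) (.leaf 17425348)))) (.node (.node (.node (.node (.leaf 14148842) (.leaf 26460586)) (.node (.leaf 12280772) (.leaf 18845321))) (.node (.node (.leaf 4181313) (.leaf 10396783)) (.node (.leaf 30278735) (.leaf 31023971)))) (.node (.node (.node (.leaf 26665233) (.leaf 31023716)) (.node (.leaf 21702417) (.leaf 18047465))) (.node (.node (.leaf 7078343) (.leaf 12896623)) (.leaf 19715860)))))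

/-- Part of the table `witT4`. -/
def witT4_bbaab : Tr := .node (.node (.node (.node (.node (.node (.leaf 30770129) (.leaf 24221859)) (.node (.leaf 2458447) (.leaf 14768660))) (.node (.node (.leaf 7755978) (.leaf 20997411)) (.node (.leaf 15705228) (.leaf 25006947)))) (.node (.node (.node (.leaf 2729809) (.leaf 6114663)) (.node (.leaf 3805127) (.leaf 5251809))) (.node (.node (.leaf 11766127) (.leaf 16649865)) (.leaf 7029537)))) (.node (.node (.node (.node (.leaf 12329870) (.leaf 25218442)) (.node (.leaf 17256073) (.leaf 5545409))) (.node (.node (.leaf 4777316) (.leaf 28907596)) (.node (.leaf 7032775) (.leaf 6756369)))) (.node (.node (.node (.leaf 28481231) (.leaf 8683631)) (.node (.leaf 7611335) (.leaf 12739983))) (.node (.node (.leaf 26352259) (.leaf 27857284)) (.leaf 6849358))))) (.node (.node (.node (.node (.node (.leaf 28432242) (.leaf 19637188)) (.node (.leaf 958119) (.leaf 4562723))) (.node (.node (.leaf 6152385) (.leaf 19793361)) (.node (.leaf 8880897) (.leaf 11732974)))) (.node (.node (.node (.leaf 27985932) (.leaf 4821264)) (.node (.leaf 23503655) (.leaf 7344969)))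 (.node (.node (.leaf 30659310) (.leaf 26987858)) (.leaf 16418883)))) (.node (.node (.node (.node (.leaf 7611588) (.leaf 17220529)) (.node (.leaf 7706705) (.leaf 19628323))) (.node (.node (.leaf 12816131) (.leaf 9457443)) (.node (.leaf 7609895) (.leaf 20422689)))) (.node (.node (.node (.leaf 3593027) (.leaf 3104260)) (.node (.leaf 22956460) (.leaf 3102049))) (.node (.node (.leaf 14228643) (.leaf 21931185)) (.leaf 24201102)))))

/-- Part of the table `witT4`. -/
def witT4_bbaa : Tr := .node witT4_bbaaa witT4_bbaab

/-- Part of the table `witT4`. -/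
def witT4_bbaba : Tr := .node (.node (.node (.node (.node (.node (.leaf 9179247) (.leaf 12910851)) (.node (.leaf 19768396) (.leaf 21387523))) (.node (.node (.leaf 4070051) (.leaf 5701903)) (.node (.leaf 910049) (.leaf 13427745)))) (.node (.node (.node (.leaf 20041898) (.leaf 15864369)) (.node (.leaf 4178346) (.leaf 14341137))) (.node (.node (.leaf 11229443) (.leaf 21472332)) (.leaf 22274991)))) (.node (.node (.node (.node (.leaf 25502193) (.leaf 16731794)) (.node (.leaf 30546638) (.leaf 26990668))) (.node (.node (.leaf 14369392) (.leaf 26371148)) (.node (.leaf 18894627) (.leaf 23009443)))) (.node (.node (.node (.leaf 11770097) (.leaf 18940175)) (.node (.leaf 21322476) (.leaf 26711299))) (.node (.node (.leaf 18812908) (.leaf 26166348)) (.leaf 5230863))))) (.node (.node (.node (.node (.node (.leaf 27823617) (.leaf 14716841)) (.node (.leaf 8348723) (.leaf 19763444))) (.node (.node (.leaf 12733484) (.leaf 14110787)) (.node (.leaf 17010755) (.leaf 23601649)))) (.node (.node (.node (.leaf 2514833) (.leaf 23237615)) (.node (.leaf 26955843) (.leaf 16032913))) (.node (.node (.leaf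 21422153) (.leaf 17466767)) (.leaf 26239169)))) (.node (.node (.node (.node (.leaf 9839081) (.leaf 8864545)) (.node (.leaf 17318819) (.leaf 15438255))) (.node (.node (.leaf 13427907) (.leaf 24627273)) (.node (.leaf 2146947) (.leaf 20384812)))) (.node (.node (.node (.leaf 630511) (.leaf 5398787)) (.node (.leaf 19762339) (.leaf 12322567))) (.node (.node (.leaf 2152321) (.leaf 27644913)) (.leaf 8772)))))

/-- Part of the table `witT4`. -/
def witT4_bbabb : Tr := .node (.node (.node (.node (.node (.node (.leaf 14115783) (.leaf 16025425)) (.node (.leaf 17685834) (.leaf 7229604))) (.node (.node (.leaf 4575267) (.leaf 20603937)) (.node (.leaf 11313665) (.leaf 8773)))) (.node (.node (.node (.leaf 28362670) (.leaf 17074249)) (.node (.leaf 24564929) (.leaf 20043395))) (.node (.node (.leaf 3411881) (.leaf 21717329)) (.leaf 1675331)))) (.node (.node (.node (.node (.leaf 3899427) (.leaf 30279566)) (.node (.leaf 7749667) (.leaf 10097252))) (.node (.node (.leaf 23863876) (.leaf 31332297)) (.node (.leaf 5412483) (.leaf 16830444)))) (.node (.node (.node (.leaf 13648641) (.leaf 2806243))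 (.node (.leaf 4936163) (.leaf 15471907))) (.node (.node (.leaf 18156436) (.leaf 18878953)) (.leaf 8001612))))) (.node (.node (.node (.node (.node (.leaf 1510) (.leaf 6545098)) (.node (.leaf 9556782) (.leaf 17802450))) (.node (.node (.leaf 31089772) (.leaf 6357842)) (.node (.leaf 20597382) (.leaf 31151852)))) (.node (.node (.node (.leaf 12241385) (.leaf 26856014)) (.node (.leaf 28577539) (.leaf 11936227))) (.node (.node (.leaf 22290030) (.leaf 12149868)) (.leaf 26363977)))) (.node (.node (.node (.node (.leaf 25494993) (.leaf 10429553)) (.node (.leaf 13147585) (.leaf 26026275))) (.node (.node (.leaf 12133667) (.leaf 18596270)) (.node (.leaf 4988067) (.leaf 13850947)))) (.node (.node (.node (.leaf 13034724) (.leaf 29861522)) (.node (.leaf 17244673) (.leaf 5644931))) (.node (.node (.leaf 15668207) (.leaf 939201)) (.leaf 28250926)))))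

/-- Part of the table `witT4`. -/
def witT4_bbab : Tr := .node witT4_bbaba witT4_bbabb

/-- Part of the table `witT4`. -/
def witT4_bba : Tr := .node witT4_bbaa witT4_bbab

/-- Part of the table `witT4`. -/
def witT4_bbbaa : Tr := .node (.node (.node (.node (.node (.node (.leaf 31024129) (.leaf 5916451)) (.node (.leaf 30876780) (.leaf 9704044))) (.node (.node (.leaf 23486412) (.leaf 3182574)) (.node (.leaf 16000356) (.leaf 2843267)))) (.node (.node (.node (.leaf 10389327) (.leaf 5657006)) (.node (.leaf 3679588) (.leaf 3188036))) (.node (.node (.leaf 15705139) (.leaf 27889775)) (.leaf 16127587)))) (.node (.node (.node (.node (.leaf 4301900) (.leaf 19471011)) (.node (.leaf 19751969) (.leaf 13311395))) (.node (.node (.leaf 2319393) (.leaf 7654224)) (.node (.leaf 9935491) (.leaf 22399823)))) (.node (.node (.node (.leaf 13098052) (.leaf 22861769)) (.node (.leaf 24208466) (.leaf 15671809))) (.node (.node (.leaf 15410195) (.leaf 11543761)) (.leaf 28447182))))) (.node (.node (.node (.node (.node (.leaf 15976876) (.leaf 29776481)) (.node (.leaf 5982161) (.leaf 3366801))) (.node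 (.node (.leaf 15096804) (.leaf 24352641)) (.node (.leaf 7621091) (.leaf 3605618)))) (.node (.node (.node (.leaf 20584355) (.leaf 31413891)) (.node (.leaf 10524835) (.leaf 13835555))) (.node (.node (.leaf 28891314) (.leaf 23599345)) (.leaf 11305386)))) (.node (.node (.node (.node (.leaf 11215940) (.leaf 12427092)) (.node (.leaf 8854915) (.leaf 15949002))) (.node (.node (.leaf 17504434) (.leaf 5577745)) (.node (.leaf 6365136) (.leaf 26215827)))) (.node (.node (.node (.leaf 27877991) (.leaf 18828746)) (.node (.leaf 4346663) (.leaf 5842002))) (.node (.node (.leaf 4555939) (.leaf 4987332)) (.leaf 16130537)))))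

/-- Part of the table `witT4`. -/
def witT4_bbbab : Tr := .node (.node (.node (.node (.node (.node (.leaf 26305266) (.leaf 20399782)) (.node (.leaf 17309091) (.leaf 31302450))) (.node (.node (.leaf 21341217) (.leaf 31348751)) (.node (.leaf 16358703) (.leaf 545475)))) (.node (.node (.node (.leaf 3712228) (.leaf 13173251)) (.node (.leaf 25003084) (.leaf 23908207))) (.node (.node (.leaf 336385) (.leaf 22090737)) (.leaf 15209155)))) (.node (.node (.node (.node (.leaf 10899620) (.leaf 1230449)) (.node (.leaf 23023022) (.leaf 4281391))) (.node (.node (.leaf 27497315) (.leaf 1172562)) (.node (.leaf 22119759) (.leaf 58211)))) (.node (.node (.node (.leaf 25387491) (.leaf 16145425)) (.node (.leaf 3704835) (.leaf 16032387))) (.node (.node (.leaf 18600721) (.leaf 13751986)) (.leaf 7152750))))) (.node (.node (.node (.node (.node (.leaf 3711812) (.leaf 15960131)) (.node (.leaf 24922959) (.leaf 28167826))) (.node (.node (.leaf 5744100) (.leaf 24627267)) (.node (.leaf 23865169) (.leaf 29904622)))) (.node (.node (.node (.leaf 1594158) (.leaf 13049682)) (.node (.leaf 25682674) (.leaf 21321891)))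 (.node (.node (.leaf 30253553) (.leaf 11068206)) (.leaf 30360355)))) (.node (.node (.node (.node (.leaf 12863267) (.leaf 13459969)) (.node (.leaf 8159374) (.leaf 15307619))) (.node (.node (.leaf 16082433) (.leaf 4019683)) (.node (.leaf 15621742) (.leaf 18585545)))) (.node (.node (.node (.leaf 24708495) (.leaf 17180004)) (.node (.leaf 30590988) (.leaf 7594659))) (.node (.node (.leaf 677377) (.leaf 889514)) (.leaf 2677584)))))

/-- Part of the table `witT4`. -/
def witT4_bbba : Tr := .node witT4_bbbaa witT4_bbbab

/-- Part of the table `witT4`. -/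
def witT4_bbbba : Tr := .node (.node (.node (.node (.node (.node (.leaf 16421699) (.leaf 5034499)) (.node (.leaf 16043521) (.leaf 4099105))) (.node (.node (.leaf 29722627) (.leaf 24945714)) (.node (.leaf 3330065) (.leaf 15960137)))) (.node (.node (.node (.leaf 7639555) (.leaf 3592931)) (.node (.leaf 20570508) (.leaf 20988754))) (.node (.node (.leaf 877284) (.leaf 14065937)) (.leaf 18588748)))) (.node (.node (.node (.node (.leaf 10412931) (.leaf 6440012)) (.node (.leaf 19702305) (.leaf 27673521))) (.node (.node (.leaf 27976323) (.leaf 1287111)) (.node (.leaf 2561635) (.leaf 20450382)))) (.node (.node (.node (.leaf 2789393) (.leaf 1481027)) (.node (.leaf 16736035) (.leaf 18301199))) (.node (.node (.leaf 19891442) (.leaf 3269162)) (.leaf 30578866))))) (.node (.node (.node (.node (.node (.leaf 11390292) (.leaf 3251649)) (.node (.leaf 23597450) (.leaf 13010862))) (.node (.node (.leaf 14410671) (.leaf 28792291)) (.node (.leaf 23421324) (.leaf 19039567)))) (.node (.node (.node (.leaf 24200108) (.leaf 496366)) (.node (.leaf 16539758) (.leaf 16474852))) (.node (.node (.leaf 16781059)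 (.leaf 19810001)) (.leaf 509327)))) (.node (.node (.node (.node (.leaf 10131889) (.leaf 8512836)) (.node (.leaf 9277513) (.leaf 14820161))) (.node (.node (.leaf 7836036) (.leaf 7834945)) (.node (.leaf 12422700) (.leaf 12131619)))) (.node (.node (.node (.leaf 4987555) (.leaf 19637169)) (.node (.leaf 22864972) (.leaf 5268499))) (.node (.node (.leaf 22007721) (.leaf 21550730)) (.leaf 23596359)))))

/-- Part of the table `witT4`. -/
def witT4_bbbbb : Tr := .node (.node (.node (.node (.node (.node (.leaf 12326401) (.leaf 14377903)) (.node (.leaf 2446147) (.leaf 3245455))) (.node (.node (.leaf 332164) (.leaf 8574595)) (.node (.leaf 12245891) (.leaf 1314305)))) (.node (.node (.node (.leaf 9347779) (.leaf 6759)) (.node (.leaf 30069121) (.leaf 17009708))) (.node (.node (.leaf 8110383) (.leaf 28838289)) (.leaf 7840257)))) (.node (.node (.node (.node (.leaf 18455569) (.leaf 5546449)) (.node (.leaf 23235905) (.leaf 4066642))) (.node (.node (.leaf 17793294) (.leaf 25795875)) (.node (.leaf 20946671) (.leaf 28626350)))) (.node (.node (.node (.leaf 3575297) (.leaf 9292623)) (.node (.leaf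 19356874) (.leaf 4113))) (.node (.node (.leaf 30317586) (.leaf 27397458)) (.leaf 6293932))))) (.node (.node (.node (.node (.node (.leaf 25678563) (.leaf 2202826)) (.node (.leaf 4129859) (.leaf 6325164))) (.node (.node (.leaf 27792142) (.leaf 18916462)) (.node (.leaf 25694002) (.leaf 17452110)))) (.node (.node (.node (.leaf 3801889) (.leaf 11723986)) (.node (.leaf 17523425) (.leaf 23678889))) (.node (.node (.leaf 27794640) (.leaf 12651847)) (.leaf 967459)))) (.node (.node (.node (.node (.leaf 28710241) (.leaf 8720433)) (.node (.leaf 30826177) (.leaf 4072688))) (.node (.node (.leaf 5088068) (.leaf 18730642)) (.node (.leaf 2360099) (.leaf 13046817)))) (.node (.node (.node (.leaf 3883267) (.leaf 19187075)) (.node (.leaf 11936097) (.leaf 31056484))) (.node (.node (.leaf 27910092) (.leaf 3957281)) (.leaf 11571588)))))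

/-- Part of the table `witT4`. -/
def witT4_bbbb : Tr := .node witT4_bbbba witT4_bbbbb

/-- Part of the table `witT4`. -/
def witT4_bbb : Tr := .node witT4_bbba witT4_bbbb

/-- Part of the table `witT4`. -/
def witT4_bb : Tr := .node witT4_bba witT4_bbb

/-- Part of the table `witT4`. -/
def witT4_b : Tr := .node witT4_ba witT4_bb

/-- Part of the table `witT4`. -/
def witT4_ : Tr := .node witT4_a witT4_b

/-- Conjugating elements for one suborbit. -/
def witT4 : Tr := witT4_

end Cfsg.Agent.JTwo
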