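import Cfsg.Agent.Lib.J2.Packed

/-!
# Conjugating elements, part 5
-/

set_option autoImplicit false
set_option maxRecDepth 10000

namespace Cfsg.Agent.JTwo

/-- Part of the table `witT5`. -/
def witT5_aaaaa : Tr := .node (.node (.node (.node (.node (.node (.leaf 8460801) (.leaf 17801732)) (.node (.leaf 21029156) (.leaf 24076849))) (.node (.node (.leaf 25657452) (.leaf 4948748)) (.node (.leaf 24076324) (.leaf 22751044)))) (.node (.node (.node (.leaf 29581393) (.leaf 13632268)) (.node (.leaf 25755682) (.leaf 27795313))) (.node (.node (.leaf 2219553) (.leaf 20552100)) (.leaf 1055858)))) (.node (.node (.node (.node (.leaf 9142739) (.leaf 27793121)) (.node (.leaf 23780972) (.leaf 19635617))) (.node (.node (.leaf 20401426) (.leaf 19159660)) (.node (.leaf 30332228) (.leaf 25138913)))) (.node (.node (.node (.leaf 19875604) (.leaf 8687844)) (.node (.leaf 3662212) (.leaf 18619026))) (.node (.node (.leaf 7511660) (.leaf 15472353)) (.leaf 19795858))))) (.node (.node (.node (.node (.node (.leaf 5538322) (.leaf 19308884)) (.node (.leaf 25862098) (.leaf 22266636))) (.node (.node (.leaf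 26011178) (.leaf 19383052)) (.node (.leaf 28056436) (.leaf 28513644)))) (.node (.node (.node (.leaf 22741522) (.leaf 20401907)) (.node (.leaf 2859089) (.leaf 22404740))) (.node (.node (.leaf 14687346) (.leaf 9542322)) (.leaf 23909139)))) (.node (.node (.node (.node (.leaf 24944236) (.leaf 12917426)) (.node (.leaf 3808556) (.leaf 5132353))) (.node (.node (.leaf 15145907) (.leaf 15769196)) (.node (.leaf 27205676) (.leaf 30262058)))) (.node (.node (.node (.leaf 8052129) (.leaf 2301009)) (.node (.leaf 11342547) (.leaf 4974385))) (.node (.node (.leaf 12357202) (.leaf 5447844)) (.leaf 20879020)))))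

/-- Part of the table `witT5`. -/
def witT5_aaaab : Tr := .node (.node (.node (.node (.node (.node (.leaf 10757674) (.leaf 16604780)) (.node (.leaf 9576305) (.leaf 12262034))) (.node (.node (.leaf 19300849) (.leaf 3202129)) (.node (.leaf 10396164) (.leaf 27025969)))) (.node (.node (.node (.leaf 27517002) (.leaf 25690642)) (.node (.leaf 18301940) (.leaf 1644851))) (.node (.node (.leaf 3365284) (.leaf 9460596)) (.leaf 18456097)))) (.node (.node (.node (.node (.leaf 10132780) (.leaf 6219364)) (.node (.leaf 13328644) (.leaf 8624497))) (.node (.node (.leaf 13701601) (.leaf 29299908)) (.node (.leaf 8920882) (.leaf 10393060)))) (.node (.node (.node (.leaf 2282820) (.leaf 969235)) (.node (.leaf 17934148) (.leaf 24219852))) (.node (.node (.leaf 11100452) (.leaf 23617036)) (.leaf 11606636))))) (.node (.node (.node (.node (.node (.leaf 3658770) (.leaf 15110867)) (.node (.leaf 24697473) (.leaf 11243724))) (.node (.node (.leaf 12212948) (.leaf 30828097)) (.node (.leaf 3592673) (.leaf 20602500)))) (.node (.node (.node (.leaf 11034577) (.leaf 9362546)) (.node (.leaf 1564626) (.leaf 22892434)))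 (.node (.node (.leaf 4284906) (.leaf 19832180)) (.leaf 19013681)))) (.node (.node (.node (.node (.leaf 22741523) (.leaf 27859635)) (.node (.leaf 774348) (.leaf 9213292))) (.node (.node (.leaf 2300417) (.leaf 24903788)) (.node (.leaf 27874003) (.leaf 18472460)))) (.node (.node (.node (.leaf 30383185) (.leaf 29938756)) (.node (.leaf 417676) (.leaf 8562276))) (.node (.node (.leaf 25500628) (.leaf 27025924)) (.leaf 5218468)))))

/-- Part of the table `witT5`. -/
def witT5_aaaa : Tr := .node witT5_aaaaa witT5_aaaab

/-- Part of the table `witT5`. -/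
def witT5_aaaba : Tr := .node (.node (.node (.node (.node (.node (.leaf 26154802) (.leaf 19815041)) (.node (.leaf 7282724) (.leaf 23438913))) (.node (.node (.leaf 15556868) (.leaf 8623922)) (.node (.leaf 22877252) (.leaf 10277906)))) (.node (.node (.node (.leaf 4776017) (.leaf 27790610)) (.node (.leaf 2434321) (.leaf 6786546))) (.node (.node (.leaf 27530964) (.leaf 13653636)) (.leaf 29442764)))) (.node (.node (.node (.node (.leaf 23600748) (.leaf 27907890)) (.node (.leaf 13913011) (.leaf 4096340))) (.node (.node (.leaf 20488236) (.leaf 8608385)) (.node (.leaf 12508420) (.leaf 5131444)))) (.node (.node (.node (.leaf 19748196) (.leaf 12229932)) (.node (.leaf 26385892) (.leaf 3792780))) (.node (.node (.leaf 573548) (.leaf 8677153)) (.leaf 19415571))))) (.node (.node (.node (.node (.node (.leaf 9586644) (.leaf 17636626)) (.node (.leaf 4575601) (.leaf 29547820))) (.node (.node (.leaf 20514580) (.leaf 23438929)) (.node (.leaf 2629252) (.leaf 10393683)))) (.node (.node (.node (.leaf 30877508) (.leaf 5182436)) (.node (.leaf 15864289) (.leaf 17177900))) (.node (.node (.leaf 30038707)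 (.leaf 15237649)) (.leaf 25483172)))) (.node (.node (.node (.node (.leaf 27888147) (.leaf 25616900)) (.node (.leaf 20943660) (.leaf 26252972))) (.node (.node (.leaf 26007212) (.leaf 5964492)) (.node (.leaf 25503297) (.leaf 17026546)))) (.node (.node (.node (.leaf 8461836) (.leaf 25497490)) (.node (.leaf 21128993) (.leaf 3266180))) (.node (.node (.leaf 28905700) (.leaf 1102305)) (.leaf 29533761)))))

/-- Part of the table `witT5`. -/
def witT5_aaabb : Tr := .node (.node (.node (.node (.node (.node (.leaf 4772068) (.leaf 12918828)) (.node (.leaf 21337444) (.leaf 3680049))) (.node (.node (.leaf 19405491) (.leaf 1871923)) (.node (.leaf 5774820) (.leaf 17262162)))) (.node (.node (.node (.leaf 21473092) (.leaf 8283730)) (.node (.leaf 31332115) (.leaf 6295026))) (.node (.node (.leaf 26355236) (.leaf 16408620)) (.leaf 23107314)))) (.node (.node (.node (.node (.leaf 25759092) (.leaf 21453459)) (.node (.leaf 23914291) (.leaf 16211489))) (.node (.node (.leaf 21450676) (.leaf 19832868)) (.node (.leaf 28010084) (.leaf 27564452)))) (.node (.node (.node (.leaf 10871044) (.leaf 23111250))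 (.node (.leaf 23224580) (.leaf 25681516))) (.node (.node (.leaf 27222609) (.leaf 28035507)) (.leaf 11380484))))) (.node (.node (.node (.node (.node (.leaf 14145330) (.leaf 5115378)) (.node (.leaf 4561586) (.leaf 28449281))) (.node (.node (.leaf 19304499) (.leaf 7897618)) (.node (.leaf 16208594) (.leaf 10396209)))) (.node (.node (.node (.leaf 22077489) (.leaf 29727378)) (.node (.leaf 7838276) (.leaf 24272289))) (.node (.node (.leaf 14998084) (.leaf 2806084)) (.leaf 5187332)))) (.node (.node (.node (.node (.leaf 11331361) (.leaf 12374244)) (.node (.leaf 581132) (.leaf 16195876))) (.node (.node (.leaf 2301572) (.leaf 25550241)) (.node (.leaf 8209162) (.leaf 15900132)))) (.node (.node (.node (.leaf 25121555) (.leaf 11180979)) (.node (.leaf 24728644) (.leaf 21503794))) (.node (.node (.leaf 24615425) (.leaf 23863345)) (.leaf 31200330)))))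

/-- Part of the table `witT5`. -/
def witT5_aaab : Tr := .node witT5_aaaba witT5_aaabb

/-- Part of the table `witT5`. -/
def witT5_aaa : Tr := .node witT5_aaaa witT5_aaab

/-- Part of the table `witT5`. -/
def witT5_aabaa : Tr := .node (.node (.node (.node (.node (.node (.leaf 12419788) (.leaf 11883538)) (.node (.leaf 14458273) (.leaf 16193249))) (.node (.node (.leaf 26172033) (.leaf 5374444)) (.node (.leaf 30877514) (.leaf 628466)))) (.node (.node (.node (.leaf 11764242) (.leaf 1351073)) (.node (.leaf 7278796) (.leaf 1580292))) (.node (.node (.leaf 17981489) (.leaf 30294483)) (.leaf 3246611)))) (.node (.node (.node (.node (.leaf 8076) (.leaf 10505905)) (.node (.leaf 29196780) (.leaf 13718316))) (.node (.node (.leaf 15995636) (.leaf 4463105)) (.node (.leaf 10130404) (.leaf 4412612)))) (.node (.node (.node (.leaf 7806252) (.leaf 27233778)) (.node (.leaf 24613444) (.leaf 17682322))) (.node (.node (.leaf 30302002) (.leaf 27869651)) (.leaf 25188012))))) (.node (.node (.node (.node (.node (.leaf 12390899) (.leaf 27787795)) (.node (.leaf 25166836) (.leaf 8265522))) (.node (.node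 (.leaf 21453313) (.leaf 26007460)) (.node (.leaf 18750988) (.leaf 2186020)))) (.node (.node (.node (.leaf 24550660) (.leaf 29417266)) (.node (.leaf 29970833) (.leaf 613793))) (.node (.node (.leaf 20357194) (.leaf 31054628)) (.leaf 31070116)))) (.node (.node (.node (.node (.leaf 4817706) (.leaf 9346004)) (.node (.leaf 12599763) (.leaf 30330354))) (.node (.node (.leaf 17588108) (.leaf 4300874)) (.node (.leaf 3942194) (.leaf 31283780)))) (.node (.node (.node (.leaf 13849668) (.leaf 16158948)) (.node (.leaf 778756) (.leaf 13702977))) (.node (.node (.leaf 30660228) (.leaf 15308513)) (.leaf 27820140)))))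

/-- Part of the table `witT5`. -/
def witT5_aabab : Tr := .node (.node (.node (.node (.node (.node (.leaf 10409028) (.leaf 15897674)) (.node (.leaf 26136180) (.leaf 4112876))) (.node (.node (.leaf 892321) (.leaf 17884714)) (.node (.leaf 12539812) (.leaf 7837396)))) (.node (.node (.node (.leaf 17800306) (.leaf 30201569)) (.node (.leaf 5432868) (.leaf 26205556))) (.node (.node (.leaf 16077124) (.leaf 8675364)) (.leaf 2811457)))) (.node (.node (.node (.node (.leaf 30871283) (.leaf 2724932)) (.node (.leaf 3726753) (.leaf 27764531))) (.node (.node (.leaf 2811473) (.leaf 16831972)) (.node (.leaf 28911186) (.leaf 18474596)))) (.node (.node (.node (.leaf 25596108) (.leaf 16587556)) (.node (.leaf 4292716) (.leaf 924972))) (.node (.node (.leaf 9440179) (.leaf 14798738)) (.leaf 30789522))))) (.node (.node (.node (.node (.node (.leaf 20501732) (.leaf 16146476)) (.node (.leaf 7082796) (.leaf 30759532))) (.node (.node (.leaf 31134452) (.leaf 19997060)) (.node (.leaf 12969572) (.leaf 22978444)))) (.node (.node (.node (.leaf 56620) (.leaf 14817921)) (.node (.leaf 25761700) (.leaf 19752177)))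 (.node (.node (.leaf 25386401) (.leaf 30156049)) (.leaf 23285425)))) (.node (.node (.node (.node (.leaf 17996396) (.leaf 27886348)) (.node (.leaf 9444018) (.leaf 7294324))) (.node (.node (.leaf 2003524) (.leaf 20944236)) (.node (.leaf 24167116) (.leaf 13751028)))) (.node (.node (.node (.leaf 11937041) (.leaf 26531180)) (.node (.leaf 19308588) (.leaf 17653108))) (.node (.node (.leaf 317953) (.leaf 16161748)) (.leaf 5411140)))))

/-- Part of the table `witT5`. -/
def witT5_aaba : Tr := .node witT5_aabaa witT5_aabab

/-- Part of the table `witT5`. -/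
def witT5_aabba : Tr := .node (.node (.node (.node (.node (.node (.leaf 3707108) (.leaf 12373906)) (.node (.leaf 5119276) (.leaf 5543649))) (.node (.node (.leaf 6739140) (.leaf 1826033)) (.node (.leaf 27021516) (.leaf 24565100)))) (.node (.node (.node (.leaf 15208338) (.leaf 14721068)) (.node (.leaf 11014625) (.leaf 22698625))) (.node (.node (.leaf 4986540) (.leaf 14901524)) (.leaf 17604772)))) (.node (.node (.node (.node (.leaf 28878401) (.leaf 13115780)) (.node (.leaf 26351524) (.leaf 24568084))) (.node (.node (.leaf 6987570) (.leaf 5988868)) (.node (.leaf 29873636) (.leaf 5528993)))) (.node (.node (.node (.leaf 15720332) (.leaf 18481932)) (.node (.leaf 27221612) (.leaf 17901156))) (.node (.node (.leaf 9576740) (.leaf 29073362)) (.leaf 19304929))))) (.node (.node (.node (.node (.node (.leaf 19633796) (.leaf 16915940)) (.node (.leaf 5987700) (.leaf 10404332))) (.node (.node (.leaf 29577444) (.leaf 24270468)) (.node (.leaf 29153860) (.leaf 21896115)))) (.node (.node (.node (.leaf 7741700) (.leaf 31055468)) (.node (.leaf 17257828) (.leaf 20482963))) (.node (.node (.leaf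 31285292) (.leaf 12865010)) (.leaf 11329572)))) (.node (.node (.node (.node (.leaf 20484577) (.leaf 16194340)) (.node (.leaf 13227332) (.leaf 29613316))) (.node (.node (.leaf 20382163) (.leaf 17143012)) (.node (.leaf 28481196) (.leaf 23433106)))) (.node (.node (.node (.leaf 1414508) (.leaf 23433444)) (.node (.leaf 4873700) (.leaf 20899588))) (.node (.node (.leaf 8068740) (.leaf 24482515)) (.leaf 28321345)))))

/-- Part of the table `witT5`. -/
def witT5_aabbb : Tr := .node (.node (.node (.node (.node (.node (.leaf 4593108) (.leaf 18750545)) (.node (.leaf 21438418) (.leaf 27810516))) (.node (.node (.leaf 11386988) (.leaf 13951537)) (.node (.leaf 23914289) (.leaf 8510099)))) (.node (.node (.node (.leaf 11633420) (.leaf 23434994)) (.node (.leaf 6217988) (.leaf 18064938))) (.node (.node (.leaf 27254948) (.leaf 10473971)) (.leaf 1643748)))) (.node (.node (.node (.node (.leaf 19795665) (.leaf 14245281)) (.node (.leaf 28351748) (.leaf 23986956))) (.node (.node (.leaf 27121377) (.leaf 27217651)) (.node (.leaf 7395122) (.leaf 4182828)))) (.node (.node (.node (.leaf 5825105) (.leaf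 4888289)) (.node (.leaf 18943604) (.leaf 20484147))) (.node (.node (.leaf 17963588) (.leaf 12113220)) (.leaf 14196012))))) (.node (.node (.node (.node (.node (.leaf 23616147) (.leaf 7951724)) (.node (.leaf 30215666) (.leaf 646418))) (.node (.node (.leaf 28873203) (.leaf 9900788)) (.node (.leaf 417649) (.leaf 18861650)))) (.node (.node (.node (.leaf 23633964) (.leaf 18163489)) (.node (.leaf 3693682) (.leaf 11649442))) (.node (.node (.leaf 29792403) (.leaf 13031937)) (.leaf 8277906)))) (.node (.node (.node (.node (.leaf 10479186) (.leaf 28951308)) (.node (.leaf 26074529) (.leaf 17777132))) (.node (.node (.leaf 11836012) (.leaf 26206724)) (.node (.leaf 15193284) (.leaf 18567569)))) (.node (.node (.node (.leaf 5639540) (.leaf 11702994)) (.node (.leaf 16076690) (.leaf 28173889))) (.node (.node (.leaf 13032993) (.leaf 18940916)) (.leaf 4461124)))))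

/-- Part of the table `witT5`. -/
def witT5_aabb : Tr := .node witT5_aabba witT5_aabbb

/-- Part of the table `witT5`. -/
def witT5_aab : Tr := .node witT5_aaba witT5_aabb

/-- Part of the table `witT5`. -/
def witT5_aa : Tr := .node witT5_aaa witT5_aab

/-- Part of the table `witT5`. -/
def witT5_abaaa : Tr := .node (.node (.node (.node (.node (.node (.leaf 3596332) (.leaf 27300420)) (.node (.leaf 2802380) (.leaf 25395692))) (.node (.node (.leaf 28417932) (.leaf 17979052)) (.node (.leaf 28609459) (.leaf 17639201)))) (.node (.node (.node (.leaf 28481444) (.leaf 23658963)) (.node (.leaf 19125604) (.leaf 24379884))) (.node (.node (.leaf 18685988) (.leaf 5429617)) (.leaf 25503313)))) (.node (.node (.node (.node (.leaf 4236900) (.leaf 6428332)) (.node (.leaf 3887827) (.leaf 13158164))) (.node (.node (.leaf 3168065) (.leaf 21795297)) (.node (.leaf 28878419) (.leaf 11944276)))) (.node (.node (.node (.leaf 12527204) (.leaf 20909684)) (.node (.leaf 20366092) (.leaf 1032908))) (.node (.node (.leaf 9945426) (.leaf 16320947)) (.leaf 10126092))))) (.node (.node (.node (.node (.node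 (.leaf 29795569) (.leaf 16026996)) (.node (.leaf 6428580) (.leaf 19792588))) (.node (.node (.leaf 6639313) (.leaf 23267284)) (.node (.leaf 27797322) (.leaf 12375794)))) (.node (.node (.node (.leaf 25499795) (.leaf 14113873)) (.node (.leaf 8509953) (.leaf 23370369))) (.node (.node (.leaf 4103409) (.leaf 6298924)) (.leaf 11654218)))) (.node (.node (.node (.node (.leaf 19702276) (.leaf 27764530)) (.node (.leaf 30074657) (.leaf 13828812))) (.node (.node (.leaf 23273636) (.leaf 12443684)) (.node (.leaf 5575378) (.leaf 7607780)))) (.node (.node (.node (.leaf 28040716) (.leaf 18126180)) (.node (.leaf 23516897) (.leaf 23434596))) (.node (.node (.leaf 8084036) (.leaf 6984403)) (.leaf 25494220)))))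

/-- Part of the table `witT5`. -/
def witT5_abaab : Tr := .node (.node (.node (.node (.node (.node (.leaf 25120338) (.leaf 18060306)) (.node (.leaf 1171409) (.leaf 872338))) (.node (.node (.leaf 30789329) (.leaf 11376106)) (.node (.leaf 21791217) (.leaf 12688625)))) (.node (.node (.node (.leaf 10282532) (.leaf 1104452)) (.node (.leaf 4712001) (.leaf 10053))) (.node (.node (.leaf 1646545) (.leaf 6458259)) (.leaf 30974212)))) (.node (.node (.node (.node (.leaf 11181601) (.leaf 23614020)) (.node (.leaf 28285297) (.leaf 20482995))) (.node (.node (.leaf 17236076) (.leaf 4597537)) (.node (.leaf 3183812) (.leaf 19752531)))) (.node (.node (.node (.leaf 8700396) (.leaf 10819891)) (.node (.leaf 29382465) (.leaf 496428))) (.node (.node (.leaf 632401) (.leaf 26353828)) (.leaf 16833908))))) (.node (.node (.node (.node (.node (.leaf 24206610) (.leaf 11095314)) (.node (.leaf 11462404) (.leaf 4281316))) (.node (.node (.leaf 13837889) (.leaf 20340620)) (.node (.leaf 30065132) (.leaf 12525028)))) (.node (.node (.node (.leaf 2219532) (.leaf 15487788)) (.node (.leaf 19833348) (.leaf 10130756)))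 (.node (.node (.leaf 5497092) (.leaf 31380628)) (.leaf 25723660)))) (.node (.node (.node (.node (.leaf 5018412) (.leaf 26952018)) (.node (.leaf 7134468) (.leaf 23026284))) (.node (.node (.leaf 10870244) (.leaf 16000772)) (.node (.leaf 20485953) (.leaf 14835308)))) (.node (.node (.node (.leaf 22435748) (.leaf 27541996)) (.node (.leaf 29022017) (.leaf 892722))) (.node (.node (.leaf 20618860) (.leaf 29318225)) (.leaf 2727284)))))

/-- Part of the table `witT5`. -/
def witT5_abaa : Tr := .node witT5_abaaa witT5_abaab

/-- Part of the table `witT5`. -/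
def witT5_ababa : Tr := .node (.node (.node (.node (.node (.node (.leaf 25926770) (.leaf 5871276)) (.node (.leaf 13915969) (.leaf 28533124))) (.node (.node (.leaf 27186244) (.leaf 25510226)) (.node (.leaf 23436529) (.leaf 6013420)))) (.node (.node (.node (.leaf 21193297) (.leaf 30041700)) (.node (.leaf 16668466) (.leaf 25331476))) (.node (.node (.leaf 16307937) (.leaf 8606788)) (.leaf 1644964)))) (.node (.node (.node (.node (.leaf 23008724) (.leaf 19814483)) (.node (.leaf 24008324) (.leaf 858195))) (.node (.node (.leaf 23105426) (.leaf 19715890)) (.node (.leaf 18601324) (.leaf 16094572)))) (.node (.node (.node (.leaf 8965714) (.leaf 28583748)) (.node (.leaf 12638721) (.leaf 3313012))) (.node (.node (.leaf 6541681) (.leaf 14917516)) (.leaf 18551108))))) (.node (.node (.node (.node (.node (.leaf 9589778) (.leaf 4756964)) (.node (.leaf 31332865) (.leaf 15751681))) (.node (.node (.leaf 28400940) (.leaf 16130001)) (.node (.leaf 19062948) (.leaf 337738)))) (.node (.node (.node (.leaf 16257089) (.leaf 24907841)) (.node (.leaf 729604) (.leaf 5708914))) (.node (.node (.leaf 25509996)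 (.leaf 6455793)) (.leaf 20026852)))) (.node (.node (.node (.node (.leaf 6537745) (.leaf 17979186)) (.node (.leaf 25301804) (.leaf 23596787))) (.node (.node (.leaf 5688914) (.leaf 6297066)) (.node (.leaf 25584881) (.leaf 7836129)))) (.node (.node (.node (.leaf 18252114) (.leaf 17732836)) (.node (.leaf 28574227) (.leaf 25497828))) (.node (.node (.leaf 6947596) (.leaf 19079460)) (.leaf 4951538)))))

/-- Part of the table `witT5`. -/
def witT5_ababb : Tr := .node (.node (.node (.node (.node (.node (.leaf 25220460) (.leaf 18487761)) (.node (.leaf 2235692) (.leaf 16964689))) (.node (.node (.leaf 18697714) (.leaf 15214162)) (.node (.leaf 22107204) (.leaf 1071012)))) (.node (.node (.node (.leaf 19398764) (.leaf 5857)) (.node (.leaf 19683058) (.leaf 20405868))) (.node (.node (.leaf 28173907) (.leaf 20602401)) (.leaf 23617156)))) (.node (.node (.node (.node (.leaf 30807114) (.leaf 10100332)) (.node (.leaf 6463532) (.leaf 24567761))) (.node (.node (.leaf 2808788) (.leaf 31051026)) (.node (.leaf 3712273) (.leaf 20644178)))) (.node (.node (.node (.leaf 27895556) (.leaf 17392881)) (.node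 (.leaf 5089092) (.leaf 5248932))) (.node (.node (.leaf 26598945) (.leaf 11309380)) (.leaf 4772339))))) (.node (.node (.node (.node (.node (.leaf 25126707) (.leaf 19129921)) (.node (.leaf 21222468) (.leaf 26779442))) (.node (.node (.leaf 6639506) (.leaf 30036033)) (.node (.leaf 11523436) (.leaf 12294513)))) (.node (.node (.node (.leaf 16668332) (.leaf 4657476)) (.node (.leaf 11588964) (.leaf 17144228))) (.node (.node (.leaf 28878097) (.leaf 7628324)) (.leaf 5134099)))) (.node (.node (.node (.node (.leaf 29533778) (.leaf 19307076)) (.node (.leaf 18438052) (.leaf 19752513))) (.node (.node (.leaf 21450817) (.leaf 30039564)) (.node (.leaf 8085548) (.leaf 27797316)))) (.node (.node (.node (.leaf 7839788) (.leaf 14144530)) (.node (.leaf 24862769) (.leaf 17426209))) (.node (.node (.leaf 26368804) (.leaf 30858540)) (.leaf 24723948)))))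

/-- Part of the table `witT5`. -/
def witT5_abab : Tr := .node witT5_ababa witT5_ababb

/-- Part of the table `witT5`. -/
def witT5_aba : Tr := .node witT5_abaa witT5_abab

/-- Part of the table `witT5`. -/
def witT5_abbaa : Tr := .node (.node (.node (.node (.node (.node (.leaf 30031980) (.leaf 8474098)) (.node (.leaf 531) (.leaf 1462753))) (.node (.node (.leaf 10411122) (.leaf 15457804)) (.node (.leaf 7610404) (.leaf 26416812)))) (.node (.node (.node (.leaf 6212019) (.leaf 22257548)) (.node (.leaf 30284914) (.leaf 27498961))) (.node (.node (.leaf 4794145) (.leaf 7754724)) (.leaf 14473729)))) (.node (.node (.node (.node (.leaf 17684210) (.leaf 16175308)) (.node (.leaf 27156001) (.leaf 4817425))) (.node (.node (.leaf 17682756) (.leaf 26256932)) (.node (.leaf 29528292) (.leaf 10473362)))) (.node (.node (.node (.leaf 6462020) (.leaf 11771500)) (.node (.leaf 30039585) (.leaf 29873220))) (.node (.node (.leaf 18437804) (.leaf 31283890)) (.leaf 23438931))))) (.node (.node (.node (.node (.node (.leaf 2430706) (.leaf 25386244)) (.node (.leaf 8671436) (.leaf 8061266))) (.node (.node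 (.leaf 19039018) (.leaf 21702404)) (.node (.leaf 12845164) (.leaf 11640108)))) (.node (.node (.node (.leaf 25419372) (.leaf 21136140)) (.node (.leaf 21091524) (.leaf 13025618))) (.node (.node (.leaf 25482258) (.leaf 2105388)) (.leaf 15696339)))) (.node (.node (.node (.node (.leaf 23907922) (.leaf 3594049)) (.node (.leaf 13067876) (.leaf 14149162))) (.node (.node (.leaf 14441172) (.leaf 17884708)) (.node (.leaf 546529) (.leaf 7095052)))) (.node (.node (.node (.leaf 8084114) (.leaf 2189124)) (.node (.leaf 11609889) (.leaf 14752434))) (.node (.node (.leaf 26501169) (.leaf 24369459)) (.leaf 19895940)))))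

/-- Part of the table `witT5`. -/
def witT5_abbab : Tr := .node (.node (.node (.node (.node (.node (.leaf 22339044) (.leaf 13648650)) (.node (.leaf 22534868) (.leaf 27123596))) (.node (.node (.leaf 16941836) (.leaf 6938220)) (.node (.leaf 30087315) (.leaf 13621907)))) (.node (.node (.node (.leaf 3757028) (.leaf 13522604)) (.node (.leaf 4918770) (.leaf 5839507))) (.node (.node (.leaf 11377964) (.leaf 696708)) (.leaf 9869970)))) (.node (.node (.node (.node (.leaf 28042852) (.leaf 21453905)) (.node (.leaf 7788) (.leaf 28878418))) (.node (.node (.leaf 15210643) (.leaf 3841932)) (.node (.leaf 331026) (.leaf 20031265)))) (.node (.node (.node (.leaf 9261868) (.leaf 729649)) (.node (.leaf 20064033) (.leaf 20123972))) (.node (.node (.leaf 1858156) (.leaf 17801252)) (.leaf 7284513))))) (.node (.node (.node (.node (.node (.leaf 7610884) (.leaf 5528836)) (.node (.leaf 23438930) (.leaf 9611058))) (.node (.node (.leaf 19718193) (.leaf 10935556)) (.node (.leaf 22321572) (.leaf 21389169)))) (.node (.node (.node (.leaf 12293804) (.leaf 29478068)) (.node (.leaf 15258412) (.leaf 2875345)))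 (.node (.node (.leaf 18895660) (.leaf 27468369)) (.leaf 16203884)))) (.node (.node (.node (.node (.leaf 5922164) (.leaf 14473907)) (.node (.leaf 14212580) (.leaf 21796673))) (.node (.node (.leaf 13045491) (.leaf 18798305)) (.node (.leaf 9818924) (.leaf 26333508)))) (.node (.node (.node (.leaf 15999466) (.leaf 19025585)) (.node (.leaf 12427345) (.leaf 24517073))) (.node (.node (.leaf 16652708) (.leaf 5397100)) (.leaf 10408140)))))

/-- Part of the table `witT5`. -/
def witT5_abba : Tr := .node witT5_abbaa witT5_abbab

/-- Part of the table `witT5`. -/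
def witT5_abbba : Tr := .node (.node (.node (.node (.node (.node (.leaf 16187923) (.leaf 31349377)) (.node (.leaf 13110644) (.leaf 11735763))) (.node (.node (.leaf 26370340) (.leaf 5873713)) (.node (.leaf 29252275) (.leaf 26958337)))) (.node (.node (.node (.leaf 18255937) (.leaf 26320932)) (.node (.leaf 22813313) (.leaf 28531057))) (.node (.node (.leaf 24957924) (.leaf 23994322)) (.leaf 16961601)))) (.node (.node (.node (.node (.leaf 19701796) (.leaf 10409428)) (.node (.leaf 31069868) (.leaf 6968019))) (.node (.node (.leaf 28394252) (.leaf 13032972)) (.node (.leaf 23650794) (.leaf 30147276)))) (.node (.node (.node (.leaf 28862034) (.leaf 15558244)) (.node (.leaf 6504940) (.leaf 11358930))) (.node (.node (.leaf 24534276) (.leaf 6144716)) (.leaf 11391698))))) (.node (.node (.node (.node (.node (.leaf 11181580) (.leaf 26165740)) (.node (.leaf 5018988) (.leaf 7281778))) (.node (.node (.leaf 18453202) (.leaf 12209650)) (.node (.leaf 3183980) (.leaf 28530482)))) (.node (.node (.node (.leaf 12702508) (.leaf 4281668)) (.node (.leaf 21124580) (.leaf 16422572))) (.node (.node (.leaf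 632403) (.leaf 12456260)) (.leaf 2758963)))) (.node (.node (.node (.node (.leaf 22567571) (.leaf 23026802)) (.node (.leaf 8808019) (.leaf 19752529))) (.node (.node (.leaf 21828932) (.leaf 12539564)) (.node (.leaf 13345060) (.leaf 3346)))) (.node (.node (.node (.leaf 9229668) (.leaf 1364691)) (.node (.leaf 13521938) (.leaf 12474177))) (.node (.node (.leaf 24094497) (.leaf 21848324)) (.leaf 24895282)))))

/-- Part of the table `witT5`. -/
def witT5_abbbb : Tr := .node (.node (.node (.node (.node (.node (.leaf 28862017) (.leaf 25503314)) (.node (.leaf 22320356) (.leaf 17979761))) (.node (.node (.leaf 3708260) (.leaf 6488556)) (.node (.leaf 12370636) (.leaf 24101580)))) (.node (.node (.node (.leaf 8785) (.leaf 8049)) (.node (.leaf 4283092) (.leaf 10983218))) (.node (.node (.leaf 19306305) (.leaf 21355634)) (.leaf 30073393)))) (.node (.node (.node (.node (.leaf 4594305) (.leaf 5251460)) (.node (.leaf 26596050) (.leaf 23628723))) (.node (.node (.leaf 2741604) (.leaf 30152036)) (.node (.leaf 22551332) (.leaf 29906564)))) (.node (.node (.node (.leaf 27402289) (.leaf 14983428))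 (.node (.leaf 16672298) (.leaf 15663442))) (.node (.node (.leaf 4825041) (.leaf 10552012)) (.leaf 18471859))))) (.node (.node (.node (.node (.node (.leaf 1643884) (.leaf 10557587)) (.node (.leaf 23023820) (.leaf 10102602))) (.node (.node (.leaf 30121778) (.leaf 17687825)) (.node (.leaf 9688292) (.leaf 2805457)))) (.node (.node (.node (.leaf 8484) (.leaf 22075052)) (.node (.leaf 25942963) (.leaf 23436244))) (.node (.node (.leaf 13032083) (.leaf 22289042)) (.leaf 8347697)))) (.node (.node (.node (.node (.leaf 18143852) (.leaf 27778956)) (.node (.leaf 5973265) (.leaf 15848236))) (.node (.node (.leaf 12387020) (.leaf 11767058)) (.node (.leaf 4300260) (.leaf 3680050)))) (.node (.node (.node (.leaf 19157196) (.leaf 13526570)) (.node (.leaf 28792036) (.leaf 14853937))) (.node (.node (.leaf 974124) (.leaf 28862035)) (.leaf 15982476)))))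

/-- Part of the table `witT5`. -/
def witT5_abbb : Tr := .node witT5_abbba witT5_abbbb

/-- Part of the table `witT5`. -/
def witT5_abb : Tr := .node witT5_abba witT5_abbb

/-- Part of the table `witT5`. -/
def witT5_ab : Tr := .node witT5_aba witT5_abb

/-- Part of the table `witT5`. -/
def witT5_a : Tr := .node witT5_aa witT5_ab

/-- Part of the table `witT5`. -/
def witT5_baaaa : Tr := .node (.node (.node (.node (.node (.node (.leaf 14458674) (.leaf 7837505)) (.node (.leaf 1789522) (.leaf 23387508))) (.node (.node (.leaf 19305620) (.leaf 10067921)) (.node (.leaf 6639844) (.leaf 19043524)))) (.node (.node (.node (.leaf 1545290) (.leaf 11452546)) (.node (.leaf 28872932) (.leaf 17389298))) (.node (.node (.leaf 2789427) (.leaf 3168836)) (.leaf 7427140)))) (.node (.node (.node (.node (.leaf 27823284) (.leaf 2811474)) (.node (.leaf 26137363) (.leaf 16835076))) (.node (.node (.leaf 1743468) (.leaf 20406156)) (.node (.leaf 11083236) (.leaf 17801777)))) (.node (.node (.node (.leaf 12329476) (.leaf 18602404)) (.node (.leaf 31331402) (.leaf 26280716))) (.node (.node (.leaf 27645665)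 (.leaf 19927105)) (.leaf 6611460))))) (.node (.node (.node (.node (.node (.leaf 11507442) (.leaf 22331500)) (.node (.leaf 7428716) (.leaf 19897761))) (.node (.node (.leaf 14587236) (.leaf 13245924)) (.node (.leaf 21432851) (.leaf 5886156)))) (.node (.node (.node (.leaf 860721) (.leaf 24448689)) (.node (.leaf 22865444) (.leaf 28251364))) (.node (.node (.leaf 27647884) (.leaf 27169580)) (.leaf 4460609)))) (.node (.node (.node (.node (.leaf 626578) (.leaf 29957537)) (.node (.leaf 6726929) (.leaf 19649324))) (.node (.node (.leaf 15258852) (.leaf 13229356)) (.node (.leaf 3434308) (.leaf 19234924)))) (.node (.node (.node (.leaf 9936132) (.leaf 6217802)) (.node (.leaf 9929171) (.leaf 29315137))) (.node (.node (.leaf 16404961) (.leaf 14734124)) (.leaf 5071108)))))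

/-- Part of the table `witT5`. -/
def witT5_baaab : Tr := .node (.node (.node (.node (.node (.node (.leaf 18210980) (.leaf 4593124)) (.node (.leaf 15358465) (.leaf 13424300))) (.node (.node (.leaf 29237636) (.leaf 5607652)) (.node (.leaf 16204114) (.leaf 23429836)))) (.node (.node (.node (.leaf 7965619) (.leaf 14409681)) (.node (.leaf 12296356) (.leaf 14750177))) (.node (.node (.leaf 29858676) (.leaf 21454369)) (.leaf 19076833)))) (.node (.node (.node (.node (.leaf 11901235) (.leaf 29874796)) (.node (.leaf 7866324) (.leaf 20028690))) (.node (.node (.leaf 11361804) (.leaf 31349356)) (.node (.leaf 20398611) (.leaf 19632851)))) (.node (.node (.node (.leaf 10213796) (.leaf 11789905)) (.node (.leaf 6294035) (.leaf 5089098))) (.node (.node (.leaf 26073972) (.leaf 15703858)) (.leaf 18638097))))) (.node (.node (.node (.node (.node (.leaf 3444801) (.leaf 20550033)) (.node (.leaf 3827) (.leaf 27852908))) (.node (.node (.leaf 23385572) (.leaf 13589764)) (.node (.leaf 22535468) (.leaf 4335428)))) (.node (.node (.node (.leaf 31204964) (.leaf 30822724)) (.node (.leaf 22385738) (.leaf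 27972580))) (.node (.node (.leaf 22156612) (.leaf 1547809)) (.leaf 3663396)))) (.node (.node (.node (.node (.leaf 9195585) (.leaf 25188146)) (.node (.leaf 27041042) (.leaf 10412068))) (.node (.node (.leaf 1384522) (.leaf 11179795)) (.node (.leaf 5578273) (.leaf 30335466)))) (.node (.node (.node (.leaf 28869324) (.leaf 21496275)) (.node (.leaf 3712577) (.leaf 23433540))) (.node (.node (.leaf 30524170) (.leaf 27984339)) (.leaf 30413124)))))

/-- Part of the table `witT5`. -/
def witT5_baaa : Tr := .node witT5_baaaa witT5_baaab

/-- Part of the table `witT5`. -/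
def witT5_baaba : Tr := .node (.node (.node (.node (.node (.node (.leaf 26690346) (.leaf 28893220)) (.node (.leaf 14355379) (.leaf 17688146))) (.node (.node (.leaf 20208306) (.leaf 18683364)) (.node (.leaf 14096897) (.leaf 18402898)))) (.node (.node (.node (.leaf 30068940) (.leaf 11698284)) (.node (.leaf 6217249) (.leaf 18684545))) (.node (.node (.leaf 28911169) (.leaf 1874500)) (.leaf 25133587)))) (.node (.node (.node (.node (.leaf 14719556) (.leaf 17880082)) (.node (.leaf 26807668) (.leaf 10870305))) (.node (.node (.leaf 20910867) (.leaf 28580644)) (.node (.leaf 13526564) (.leaf 17538668)))) (.node (.node (.node (.leaf 30250738) (.leaf 10572145)) (.node (.leaf 10394220) (.leaf 11895594))) (.node (.node (.leaf 8232481) (.leaf 13943276)) (.leaf 15095148))))) (.node (.node (.node (.node (.node (.leaf 12112868) (.leaf 26886924)) (.node (.leaf 11099756) (.leaf 4870866))) (.node (.node (.leaf 23386753) (.leaf 27300938)) (.node (.leaf 29842066) (.leaf 17932172)))) (.node (.node (.node (.leaf 10362273) (.leaf 27197937)) (.node (.leaf 28499762) (.leaf 28972865))) (.node (.node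 (.leaf 24616017) (.leaf 16407218)) (.leaf 7034220)))) (.node (.node (.node (.node (.leaf 27333956) (.leaf 26253106)) (.node (.leaf 22305906) (.leaf 8421868))) (.node (.node (.leaf 3447297) (.leaf 28497540)) (.node (.leaf 1544914) (.leaf 4775153)))) (.node (.node (.node (.leaf 25272204) (.leaf 30249284)) (.node (.leaf 23601444) (.leaf 11178049))) (.node (.node (.leaf 25464402) (.leaf 10872420)) (.leaf 3495556)))))

/-- Part of the table `witT5`. -/
def witT5_baabb : Tr := .node (.node (.node (.node (.node (.node (.leaf 12131873) (.leaf 3824129)) (.node (.leaf 1169828) (.leaf 102465))) (.node (.node (.leaf 24594963) (.leaf 23599908)) (.node (.leaf 26090796) (.leaf 16475955)))) (.node (.node (.node (.leaf 25913121) (.leaf 337732)) (.node (.leaf 15573036) (.leaf 12244612))) (.node (.node (.leaf 24335588) (.leaf 4771537)) (.leaf 10052)))) (.node (.node (.node (.node (.leaf 17924626) (.leaf 5575236)) (.node (.leaf 24484724) (.leaf 11030897))) (.node (.node (.leaf 30873313) (.leaf 2333970)) (.node (.leaf 23699972) (.leaf 23601036)))) (.node (.node (.node (.leaf 73121) (.leaf 14853938))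 (.node (.leaf 25665036) (.leaf 20041618))) (.node (.node (.leaf 18766465) (.leaf 23647556)) (.leaf 16553778))))) (.node (.node (.node (.node (.node (.leaf 2563372) (.leaf 1053764)) (.node (.leaf 1229297) (.leaf 4116684))) (.node (.node (.leaf 23111249) (.leaf 13456740)) (.node (.leaf 26222932) (.leaf 29006337)))) (.node (.node (.node (.leaf 23593491) (.leaf 16031793)) (.node (.leaf 8798924) (.leaf 2169523))) (.node (.node (.leaf 17798212) (.leaf 22615404)) (.leaf 2740114)))) (.node (.node (.node (.node (.leaf 23843044) (.leaf 31283009)) (.node (.leaf 12796396) (.leaf 28169572))) (.node (.node (.leaf 30544914) (.leaf 29071825)) (.node (.leaf 19071506) (.leaf 3801868)))) (.node (.node (.node (.leaf 30156370) (.leaf 12406449)) (.node (.leaf 27893036) (.leaf 9179859))) (.node (.node (.leaf 2805988) (.leaf 1103681)) (.leaf 25677074)))))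

/-- Part of the table `witT5`. -/
def witT5_baab : Tr := .node witT5_baaba witT5_baabb

/-- Part of the table `witT5`. -/
def witT5_baa : Tr := .node witT5_baaa witT5_baab

/-- Part of the table `witT5`. -/
def witT5_babaa : Tr := .node (.node (.node (.node (.node (.node (.leaf 23433715) (.leaf 29379507)) (.node (.leaf 30036690) (.leaf 6380961))) (.node (.node (.leaf 30073348) (.leaf 31057732)) (.node (.leaf 18596369) (.leaf 14520524)))) (.node (.node (.node (.leaf 6364420) (.leaf 7019154)) (.node (.leaf 25863940) (.leaf 20650497))) (.node (.node (.leaf 10919329) (.leaf 29942276)) (.leaf 16066337)))) (.node (.node (.node (.node (.leaf 23240996) (.leaf 21864740)) (.node (.leaf 12899524) (.leaf 6398228))) (.node (.node (.leaf 1819340) (.leaf 15371187)) (.node (.leaf 19392260) (.leaf 15667922)))) (.node (.node (.node (.leaf 23240561) (.leaf 10535404)) (.node (.leaf 6948) (.leaf 11031780))) (.node (.node (.leaf 25417441) (.leaf 23632530)) (.leaf 2532929))))) (.node (.node (.node (.node (.node (.leaf 4658930) (.leaf 18453060)) (.node (.leaf 4349228) (.leaf 18505522))) (.node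 (.node (.leaf 23598817) (.leaf 28876017)) (.node (.leaf 18964364) (.leaf 2189130)))) (.node (.node (.node (.leaf 11505554) (.leaf 21698026)) (.node (.leaf 858753) (.leaf 19078764))) (.node (.node (.leaf 27827724) (.leaf 6217228)) (.leaf 17374322)))) (.node (.node (.node (.node (.leaf 2216516) (.leaf 17958676)) (.node (.leaf 30090833) (.leaf 9886003))) (.node (.node (.leaf 22692332) (.leaf 24371153)) (.node (.leaf 9280146) (.leaf 28335218)))) (.node (.node (.node (.leaf 5546276) (.leaf 24297810)) (.node (.leaf 30090834) (.leaf 18743404))) (.node (.node (.leaf 19632901) (.leaf 16457681)) (.leaf 17932145)))))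

/-- Part of the table `witT5`. -/
def witT5_babab : Tr := .node (.node (.node (.node (.node (.node (.leaf 639468) (.leaf 983148)) (.node (.leaf 29725153) (.leaf 24534433))) (.node (.node (.leaf 30035124) (.leaf 11587474)) (.node (.leaf 27188498) (.leaf 31232787)))) (.node (.node (.node (.leaf 28122193) (.leaf 13834387)) (.node (.leaf 19833393) (.leaf 27222308))) (.node (.node (.leaf 14537028) (.leaf 29528563)) (.leaf 8099012)))) (.node (.node (.node (.node (.leaf 12259809) (.leaf 12900772)) (.node (.leaf 8559697) (.leaf 14804209))) (.node (.node (.leaf 20323972) (.leaf 8494497)) (.node (.leaf 29590284) (.leaf 25239506)))) (.node (.node (.node (.leaf 23822828) (.leaf 18832868)) (.node (.leaf 22400948) (.leaf 1540204))) (.node (.node (.leaf 20335890) (.leaf 12428865)) (.leaf 25499378))))) (.node (.node (.node (.node (.node (.leaf 19042705) (.leaf 11373075)) (.node (.leaf 2352705) (.leaf 10457810))) (.node (.node (.leaf 19193092) (.leaf 16423281)) (.node (.leaf 28173906) (.leaf 20406564)))) (.node (.node (.node (.leaf 2297921) (.leaf 29267308)) (.node (.leaf 8673921) (.leaf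 7655748))) (.node (.node (.leaf 19304113) (.leaf 15555073)) (.leaf 530)))) (.node (.node (.node (.node (.leaf 4953412) (.leaf 8520210)) (.node (.leaf 3397098) (.leaf 22030084))) (.node (.node (.leaf 14114316) (.leaf 15761939)) (.node (.leaf 8887596) (.leaf 6153457)))) (.node (.node (.node (.leaf 4788428) (.leaf 2167506)) (.node (.leaf 6068033) (.leaf 23256972))) (.node (.node (.leaf 22676172) (.leaf 17688129)) (.leaf 956129)))))

/-- Part of the table `witT5`. -/
def witT5_baba : Tr := .node witT5_babaa witT5_babab

/-- Part of the table `witT5`. -/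
def witT5_babba : Tr := .node (.node (.node (.node (.node (.node (.leaf 14407987) (.leaf 11706628)) (.node (.leaf 8232580) (.leaf 4771730))) (.node (.node (.leaf 23603012) (.leaf 28154476)) (.node (.leaf 22435500) (.leaf 3710193)))) (.node (.node (.node (.leaf 25333811) (.leaf 27795748)) (.node (.leaf 2431123) (.leaf 2382404))) (.node (.node (.leaf 11391041) (.leaf 29693860)) (.leaf 30762785)))) (.node (.node (.node (.node (.leaf 10412593) (.leaf 18456076)) (.node (.leaf 5751564) (.leaf 13424434))) (.node (.node (.leaf 24003027) (.leaf 12542340)) (.node (.leaf 2333292) (.leaf 1861409)))) (.node (.node (.node (.leaf 20649034) (.leaf 8623788)) (.node (.leaf 3611244) (.leaf 8983570))) (.node (.node (.leaf 5984460) (.leaf 13116970)) (.leaf 24485682))))) (.node (.node (.node (.node (.node (.leaf 15258001) (.leaf 2448658)) (.node (.leaf 121473) (.leaf 26695020))) (.node (.node (.leaf 31020004) (.leaf 4777555)) (.node (.leaf 22401089) (.leaf 5282412)))) (.node (.node (.node (.leaf 23105764) (.leaf 22436209)) (.node (.leaf 30037779) (.leaf 9523265))) (.node (.node (.leaf 20408132)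 (.leaf 28119762)) (.leaf 18437138)))) (.node (.node (.node (.node (.leaf 19929601) (.leaf 5711649)) (.node (.leaf 11928268) (.leaf 13932691))) (.node (.node (.leaf 6357459) (.leaf 15027794)) (.node (.leaf 6203186) (.leaf 18491140)))) (.node (.node (.node (.leaf 9445420) (.leaf 9199137)) (.node (.leaf 20025548) (.leaf 26074930))) (.node (.node (.leaf 25503315) (.leaf 27889138)) (.leaf 30281932)))))

/-- Part of the table `witT5`. -/
def witT5_babbb : Tr := .node (.node (.node (.node (.node (.node (.leaf 30654931) (.leaf 28889292)) (.node (.leaf 18125124) (.leaf 23914290))) (.node (.node (.leaf 16007276) (.leaf 25528851)) (.node (.leaf 11166084) (.leaf 11998892)))) (.node (.node (.node (.leaf 4493377) (.leaf 11604172)) (.node (.leaf 12539698) (.leaf 14372468))) (.node (.node (.leaf 6543667) (.leaf 23218611)) (.leaf 12722220)))) (.node (.node (.node (.node (.leaf 6203185) (.leaf 229868)) (.node (.leaf 3712594) (.leaf 20480514))) (.node (.node (.leaf 7153412) (.leaf 3285036)) (.node (.leaf 20398610) (.leaf 6676868)))) (.node (.node (.node (.leaf 4279794) (.leaf 7577860)) (.node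 (.leaf 17946284) (.leaf 29874789))) (.node (.node (.leaf 2811475) (.leaf 4561554)) (.leaf 18259428))))) (.node (.node (.node (.node (.node (.leaf 6645329) (.leaf 27991300)) (.node (.leaf 21503236) (.leaf 19389740))) (.node (.node (.leaf 24990508) (.leaf 21695986)) (.node (.leaf 22501523) (.leaf 17010753)))) (.node (.node (.node (.leaf 1168748) (.leaf 7350065)) (.node (.leaf 13032115) (.leaf 6635860))) (.node (.node (.leaf 20368882) (.leaf 6361811)) (.leaf 11226867)))) (.node (.node (.node (.node (.leaf 14352881) (.leaf 11098916)) (.node (.leaf 27989636) (.leaf 15359460))) (.node (.node (.leaf 3647281) (.leaf 8607827)) (.node (.leaf 8984484) (.leaf 28465572)))) (.node (.node (.node (.leaf 14106732) (.leaf 14372434)) (.node (.leaf 27991858) (.leaf 26302124))) (.node (.node (.leaf 5529394) (.leaf 27648292)) (.leaf 4329203)))))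

/-- Part of the table `witT5`. -/
def witT5_babb : Tr := .node witT5_babba witT5_babbb

/-- Part of the table `witT5`. -/
def witT5_bab : Tr := .node witT5_baba witT5_babb

/-- Part of the table `witT5`. -/
def witT5_ba : Tr := .node witT5_baa witT5_bab

/-- Part of the table `witT5`. -/
def witT5_bbaaa : Tr := .node (.node (.node (.node (.node (.node (.leaf 22355852) (.leaf 21979300)) (.node (.leaf 1823219) (.leaf 17800773))) (.node (.node (.leaf 11230828) (.leaf 3712241)) (.node (.leaf 15205068) (.leaf 19906668)))) (.node (.node (.node (.leaf 12210932) (.leaf 5521875)) (.node (.leaf 11587281) (.leaf 23630305))) (.node (.node (.leaf 24860580) (.leaf 10475250)) (.leaf 7792452)))) (.node (.node (.node (.node (.leaf 11328108) (.leaf 13228756)) (.node (.leaf 23863684) (.leaf 28906852))) (.node (.node (.leaf 4299699) (.leaf 13911828)) (.node (.leaf 29573836) (.leaf 20567524)))) (.node (.node (.node (.leaf 14835596) (.leaf 14111442)) (.node (.leaf 29940332) (.leaf 23519116))) (.node (.node (.leaf 859508) (.leaf 17929953)) (.leaf 10278820))))) (.node (.node (.node (.node (.node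 (.leaf 18800524) (.leaf 20945316)) (.node (.leaf 21103084) (.leaf 335729))) (.node (.node (.leaf 4314849) (.leaf 29315794)) (.node (.leaf 23438609) (.leaf 513348)))) (.node (.node (.node (.leaf 14471233) (.leaf 15425924)) (.node (.leaf 7003660) (.leaf 23287617))) (.node (.node (.leaf 1759539) (.leaf 3105060)) (.leaf 28787498)))) (.node (.node (.node (.node (.leaf 27643635) (.leaf 9887697)) (.node (.leaf 11771788) (.leaf 3102433))) (.node (.node (.leaf 7067442) (.leaf 20418291)) (.node (.leaf 11902929) (.leaf 24061169)))) (.node (.node (.node (.leaf 27843364) (.leaf 13116964)) (.node (.leaf 4380580) (.leaf 6493668))) (.node (.node (.leaf 2773473) (.leaf 25056900)) (.leaf 16014820)))))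

/-- Part of the table `witT5`. -/
def witT5_bbaab : Tr := .node (.node (.node (.node (.node (.node (.leaf 23642892) (.leaf 16751396)) (.node (.leaf 18685042) (.leaf 4460468))) (.node (.node (.leaf 16209683) (.leaf 30038529)) (.node (.leaf 13222018) (.leaf 25120372)))) (.node (.node (.node (.leaf 22568580) (.leaf 3969348)) (.node (.leaf 4890508) (.leaf 12396097))) (.node (.node (.leaf 21422340) (.leaf 2973292)) (.leaf 17161633)))) (.node (.node (.node (.node (.leaf 15144723) (.leaf 2579980)) (.node (.leaf 6461249) (.leaf 23603018))) (.node (.node (.leaf 8949425) (.leaf 23593490)) (.node (.leaf 14933612) (.leaf 5511633)))) (.node (.node (.node (.leaf 16927251) (.leaf 26204780)) (.node (.leaf 10947507) (.leaf 10133994))) (.node (.node (.leaf 8231425) (.leaf 5135027)) (.leaf 23978028))))) (.node (.node (.node (.node (.node (.leaf 17619364) (.leaf 30037066)) (.node (.leaf 21763300) (.leaf 12520628))) (.node (.node (.leaf 6203187) (.leaf 20480497)) (.node (.leaf 20454356) (.leaf 4087844)))) (.node (.node (.node (.leaf 30875532) (.leaf 7037204)) (.node (.leaf 29311084) (.leaf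 19890954))) (.node (.node (.leaf 27500498) (.leaf 9952900)) (.leaf 30891425)))) (.node (.node (.node (.node (.leaf 2564586) (.leaf 8937732)) (.node (.leaf 20504852) (.leaf 17092178))) (.node (.node (.leaf 29875474) (.leaf 8623122)) (.node (.leaf 15647500) (.leaf 8560714)))) (.node (.node (.node (.leaf 28857700) (.leaf 6542564)) (.node (.leaf 14014273) (.leaf 9126668))) (.node (.node (.leaf 1400876) (.leaf 14762513)) (.leaf 30038963)))))

/-- Part of the table `witT5`. -/
def witT5_bbaa : Tr := .node witT5_bbaaa witT5_bbaab

/-- Part of the table `witT5`. -/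
def witT5_bbaba : Tr := .node (.node (.node (.node (.node (.node (.leaf 21791234) (.leaf 31249772)) (.node (.leaf 31331026) (.leaf 20158771))) (.node (.node (.leaf 24386834) (.leaf 31333043)) (.node (.leaf 23102156) (.leaf 19897604)))) (.node (.node (.node (.leaf 16732882) (.leaf 2560756)) (.node (.leaf 580531) (.leaf 23238369))) (.node (.node (.leaf 24616460) (.leaf 22188755)) (.leaf 19046676)))) (.node (.node (.node (.node (.leaf 28856210) (.leaf 21534628)) (.node (.leaf 5538323) (.leaf 8231859))) (.node (.node (.leaf 13226740) (.leaf 27791091)) (.node (.leaf 29465874) (.leaf 20677324)))) (.node (.node (.node (.leaf 19467636) (.leaf 1367457)) (.node (.leaf 3707379) (.leaf 28135314))) (.node (.node (.leaf 19716465) (.leaf 21842355)) (.leaf 20598849))))) (.node (.node (.node (.node (.node (.leaf 4823347) (.leaf 12543530)) (.node (.leaf 632385) (.leaf 7248756))) (.node (.node (.leaf 13031187) (.leaf 5705932)) (.node (.leaf 7394988) (.leaf 7395697)))) (.node (.node (.node (.leaf 14654764) (.leaf 7610021)) (.node (.leaf 20667506) (.leaf 26958929))) (.node (.node (.leaf 18366994)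 (.leaf 7985572)) (.leaf 18835044)))) (.node (.node (.node (.node (.leaf 5136458) (.leaf 30409420)) (.node (.leaf 13226980) (.leaf 30278124))) (.node (.node (.leaf 7655314) (.leaf 15355969)) (.node (.leaf 3663402) (.leaf 24527315)))) (.node (.node (.node (.leaf 26955841) (.leaf 29350529)) (.node (.leaf 23199852) (.leaf 3610084))) (.node (.node (.leaf 6030028) (.leaf 4445202)) (.leaf 26371914)))))

/-- Part of the table `witT5`. -/
def witT5_bbabb : Tr := .node (.node (.node (.node (.node (.node (.leaf 6511212) (.leaf 28574226)) (.node (.leaf 7606476) (.leaf 18600748))) (.node (.node (.leaf 22470609) (.leaf 14356531)) (.node (.leaf 352140) (.leaf 27027233)))) (.node (.node (.node (.leaf 9244876) (.leaf 26959372)) (.node (.leaf 28350084) (.leaf 29859233))) (.node (.node (.leaf 26550762) (.leaf 18784300)) (.leaf 30774636)))) (.node (.node (.node (.node (.leaf 31330369) (.leaf 12899692)) (.node (.leaf 13018948) (.leaf 8693329))) (.node (.node (.leaf 25221540) (.leaf 25191972)) (.node (.leaf 16712460) (.leaf 19303315)))) (.node (.node (.node (.leaf 4855468) (.leaf 20650675))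 (.node (.leaf 16372964) (.leaf 8520211))) (.node (.node (.leaf 27493132) (.leaf 2582116)) (.leaf 6609537))))) (.node (.node (.node (.node (.node (.leaf 18257683) (.leaf 13460721)) (.node (.leaf 6214212) (.leaf 31351300))) (.node (.node (.leaf 18583603) (.leaf 22122865)) (.node (.leaf 26804258) (.leaf 26174001)))) (.node (.node (.node (.leaf 14113281) (.leaf 28513068)) (.node (.leaf 25813036) (.leaf 8290796))) (.node (.node (.leaf 8454482) (.leaf 16897668)) (.leaf 49932)))) (.node (.node (.node (.node (.leaf 20174642) (.leaf 12374340)) (.node (.leaf 22319505) (.leaf 29201476))) (.node (.node (.leaf 18153964) (.leaf 2807538)) (.node (.leaf 25117684) (.leaf 25337900)))) (.node (.node (.node (.leaf 20403937) (.leaf 12452556)) (.node (.leaf 18061220) (.leaf 20486724))) (.node (.node (.leaf 11475828) (.leaf 23596306)) (.leaf 319748)))))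

/-- Part of the table `witT5`. -/
def witT5_bbab : Tr := .node witT5_bbaba witT5_bbabb

/-- Part of the table `witT5`. -/
def witT5_bba : Tr := .node witT5_bbaa witT5_bbab

/-- Part of the table `witT5`. -/
def witT5_bbbaa : Tr := .node (.node (.node (.node (.node (.node (.leaf 1481124) (.leaf 2495852)) (.node (.leaf 5087524) (.leaf 72964))) (.node (.node (.leaf 30484273) (.leaf 23127841)) (.node (.leaf 22159850) (.leaf 5052785)))) (.node (.node (.node (.leaf 2335236) (.leaf 2792082)) (.node (.leaf 4335434) (.leaf 218866))) (.node (.node (.leaf 25978675) (.leaf 24612020)) (.leaf 25764004)))) (.node (.node (.node (.node (.leaf 4677) (.leaf 25993010)) (.node (.leaf 19801665) (.leaf 9458387))) (.node (.node (.leaf 24134348) (.leaf 1413521)) (.node (.leaf 17880996) (.leaf 21454348)))) (.node (.node (.node (.leaf 28155940) (.leaf 8065089)) (.node (.leaf 7609458) (.leaf 2118852))) (.node (.node (.leaf 8541828) (.leaf 19702321)) (.leaf 18753124))))) (.node (.node (.node (.node (.node (.leaf 2774849) (.leaf 6292236)) (.node (.leaf 17602468) (.leaf 28905362))) (.node (.node (.leaf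 8147756) (.leaf 5578252)) (.node (.leaf 4987249) (.leaf 20451556)))) (.node (.node (.node (.leaf 18880321) (.leaf 24977572)) (.node (.leaf 10521523) (.leaf 21417140))) (.node (.node (.leaf 30753260) (.leaf 18420754)) (.leaf 30643524)))) (.node (.node (.node (.node (.leaf 18802500) (.leaf 19043692)) (.node (.leaf 20483761) (.leaf 23798148))) (.node (.node (.leaf 19337540) (.leaf 18030673)) (.node (.leaf 12968196) (.leaf 14853939)))) (.node (.node (.node (.leaf 11965668) (.leaf 12606881)) (.node (.leaf 14110785) (.leaf 14145196))) (.node (.node (.leaf 18064932) (.leaf 17880748)) (.leaf 3851018)))))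

/-- Part of the table `witT5`. -/
def witT5_bbbab : Tr := .node (.node (.node (.node (.node (.node (.leaf 29852115) (.leaf 27533356)) (.node (.leaf 14340465) (.leaf 28530348))) (.node (.node (.leaf 18481282) (.leaf 30786252)) (.node (.leaf 20601491) (.leaf 6329043)))) (.node (.node (.node (.leaf 28154994) (.leaf 11884452)) (.node (.leaf 29533777) (.leaf 31333900))) (.node (.node (.leaf 16795412) (.leaf 16833810)) (.leaf 23907956)))) (.node (.node (.node (.node (.leaf 11460562) (.leaf 21126418)) (.node (.leaf 22112033) (.leaf 19831425))) (.node (.node (.leaf 1234753) (.leaf 10018700)) (.node (.leaf 2101729) (.leaf 16851108)))) (.node (.node (.node (.leaf 6658131) (.leaf 22860818)) (.node (.leaf 11656737) (.leaf 24789521))) (.node (.node (.leaf 15749185) (.leaf 5545580)) (.leaf 21697508))))) (.node (.node (.node (.node (.node (.leaf 12517484) (.leaf 26861164)) (.node (.leaf 24483460) (.leaf 18765284))) (.node (.node (.leaf 26679954) (.leaf 21119468)) (.node (.leaf 11839265) (.leaf 28157729)))) (.node (.node (.node (.leaf 7507699) (.leaf 13030098)) (.node (.leaf 22404641)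 (.leaf 26007346))) (.node (.node (.leaf 28041476) (.leaf 25502993)) (.leaf 18268691)))) (.node (.node (.node (.node (.leaf 7766483) (.leaf 2446820)) (.node (.leaf 17684627) (.leaf 22945313))) (.node (.node (.leaf 10985636) (.leaf 15832788)) (.node (.leaf 23815986) (.leaf 17679052)))) (.node (.node (.node (.leaf 15044178) (.leaf 6301444)) (.node (.leaf 14718785) (.leaf 20060780))) (.node (.node (.leaf 15556108) (.leaf 28284588)) (.leaf 24928849)))))

/-- Part of the table `witT5`. -/
def witT5_bbba : Tr := .node witT5_bbbaa witT5_bbbab

/-- Part of the table `witT5`. -/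
def witT5_bbbba : Tr := .node (.node (.node (.node (.node (.node (.leaf 8083265) (.leaf 6508748)) (.node (.leaf 3512033) (.leaf 15130017))) (.node (.node (.leaf 18160914) (.leaf 2805650)) (.node (.leaf 1826897) (.leaf 18809299)))) (.node (.node (.node (.leaf 9556780) (.leaf 15619905)) (.node (.leaf 17688147) (.leaf 6739308))) (.node (.node (.leaf 10757668) (.leaf 23744716)) (.leaf 19415570)))) (.node (.node (.node (.node (.leaf 30153969) (.leaf 30056401)) (.node (.leaf 22832705) (.leaf 12379377))) (.node (.node (.leaf 1435441) (.leaf 8560100)) (.node (.leaf 29334194) (.leaf 21237988)))) (.node (.node (.node (.leaf 24367473) (.leaf 15376724)) (.node (.leaf 6459057) (.leaf 3611265))) (.node (.node (.leaf 13238380) (.leaf 16930282)) (.leaf 16833650))))) (.node (.node (.node (.node (.node (.leaf 27508844) (.leaf 21185042)) (.node (.leaf 19923282) (.leaf 5840417))) (.node (.node (.leaf 5526227) (.leaf 16554353)) (.node (.leaf 20059204) (.leaf 17863443)))) (.node (.node (.node (.leaf 14526241) (.leaf 14893866)) (.node (.leaf 22437937) (.leaf 13522738))) (.node (.node (.leaf 17800466)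 (.leaf 5128300)) (.leaf 4134572)))) (.node (.node (.node (.node (.leaf 10212580) (.leaf 5559786)) (.node (.leaf 10058) (.leaf 8757412))) (.node (.node (.leaf 778276) (.leaf 1415588)) (.node (.leaf 4101) (.leaf 7003780)))) (.node (.node (.node (.leaf 23666482) (.leaf 1414372)) (.node (.leaf 28905169) (.leaf 29662732))) (.node (.node (.leaf 23944812) (.leaf 27025444)) (.leaf 21127204)))))

/-- Part of the table `witT5`. -/
def witT5_bbbbb : Tr := .node (.node (.node (.node (.node (.node (.leaf 9443908) (.leaf 6645330)) (.node (.leaf 26468236) (.leaf 8952466))) (.node (.node (.leaf 1479057) (.leaf 7610929)) (.node (.leaf 3179025) (.leaf 26617650)))) (.node (.node (.node (.leaf 18472481) (.leaf 28156420)) (.node (.leaf 30707186) (.leaf 6823329))) (.node (.node (.leaf 22075186) (.leaf 23105233)) (.leaf 27891178)))) (.node (.node (.node (.node (.leaf 15374145) (.leaf 16073420)) (.node (.leaf 5541619) (.leaf 29532241))) (.node (.node (.leaf 22304851) (.leaf 15096115)) (.node (.leaf 3476978) (.leaf 23514867)))) (.node (.node (.node (.leaf 7968468) (.leaf 661412)) (.node (.leaf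 13177060) (.leaf 13881668))) (.node (.node (.leaf 5545868) (.leaf 531537)) (.leaf 3103524))))) (.node (.node (.node (.node (.node (.leaf 15094129) (.leaf 17340076)) (.node (.leaf 11374066) (.leaf 16981970))) (.node (.node (.leaf 1642897) (.leaf 11541138)) (.node (.leaf 25188721) (.leaf 26172012)))) (.node (.node (.node (.leaf 16422706) (.leaf 25599090)) (.node (.leaf 20485573) (.leaf 13866212))) (.node (.node (.leaf 29442388) (.leaf 27844900)) (.leaf 14705905)))) (.node (.node (.node (.node (.leaf 26416146) (.leaf 15897298)) (.node (.leaf 5967762) (.leaf 9803476))) (.node (.node (.leaf 26011172) (.leaf 532001)) (.node (.leaf 2187556) (.leaf 13844972)))) (.node (.node (.node (.leaf 31336036) (.leaf 2313490)) (.node (.leaf 21423716) (.leaf 19798163))) (.node (.node (.leaf 26591570) (.leaf 30757068)) (.leaf 23601009)))))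

/-- Part of the table `witT5`. -/
def witT5_bbbb : Tr := .node witT5_bbbba witT5_bbbbb

/-- Part of the table `witT5`. -/
def witT5_bbb : Tr := .node witT5_bbba witT5_bbbb

/-- Part of the table `witT5`. -/
def witT5_bb : Tr := .node witT5_bba witT5_bbb

/-- Part of the table `witT5`. -/
def witT5_b : Tr := .node witT5_ba witT5_bb

/-- Part of the table `witT5`. -/
def witT5_ : Tr := .node witT5_a witT5_b

/-- Conjugating elements for one suborbit. -/
def witT5 : Tr := witT5_

end Cfsg.Agent.JTwo
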