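import Cfsg.Agent.Lib.J2.Data
import Cfsg.Agent.Lib.J2.DataH
import Cfsg.Agent.Lib.J2.DataW0
import Cfsg.Agent.Lib.J2.DataW1
import Cfsg.Agent.Lib.J2.DataW2
import Cfsg.Agent.Lib.J2.DataW3
import Cfsg.Agent.Lib.J2.DataW4
import Cfsg.Agent.Lib.J2.DataW5

/-!
# The tests for the 6-dimensional group over four elements
-/

set_option autoImplicit false

namespace Cfsg.Agent.JTwo

/-- A reflection matrix. -/
def sP (j : ℕ) : ℕ := sT.get j

/-- A generator. -/
def gP (k : ℕ) : ℕ := gT.get k

/-- A coset representative. -/
def vP (j : ℕ) : ℕ := vT.get j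

/-- An element of the centraliser. -/
def hP (i : ℕ) : ℕ := hT.get i

/-- The product of a word in the generators. -/
def wordP : List ℕ → ℕ
  | [] => oneP
  | k :: w => mulP (gP k) (wordP w)

/-- A generator of the centraliser. -/
def hgP (k : ℕ) : ℕ := wordP (hWords.getD k [])

/-- A class representative. -/
def clP (c : ℕ) : ℕ := clT.get c

/-- A power. -/
def powP (a : ℕ) : ℕ → ℕ
  | 0 => oneP
  | n + 1 => mulP (powP a n) a

/-- Tests on one reflection. -/
def sOk (j : ℕ) : Bool :=
  let s := sP j
  sBs.find s == j && mulP s s == oneP && mulP (sP 0) (vP j) == mulP (vP j) s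

/-- Tests on one edge of the spanning tree of the cosets. -/
def vOk (j : ℕ) : Bool :=
  bif (j == 0) then vP 0 == oneP
  else
    let v := vparT.get j
    let k := v % 4
    let p := v / 4 % 512
    decide (p < 315) && decide (vparT.get p / 2048 < v / 2048) && mulP (vP p) (gP k) == vP j

/-- Tests on the products of one coset representative with the generators. -/
def stepOk (j : ℕ) : Bool :=
  (List.range 4).all fun k =>
    let v := stepT.get (4 * j + k)
    decide (v % 512 < 315) && decide (v / 512 < 1920) && mulP (vP j) (gP k) == mulP (hP (v / 512)) (vP (v % 512))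

/-- Tests on one element of the centraliser. -/
def hOk (i : ℕ) : Bool :=
  let h := hP i
  hBs.find h == i &&
    ((List.range 2).all fun k =>
      let m := hstepT.get (2 * i + k)
      decide (m < 1920) && mulP h (hgP k) == hP m) &&
    bif (i == 0) then h == oneP
    else
      let v := hparT.get i
      decide (v / 2 % 2048 < 1920) && decide (hparT.get (v / 2 % 2048) / 4096 < v / 4096) &&
        hstepT.get (v / 2 % 2048 * 2 + v % 2) == i

/-- Tests on one orbit witness of the centraliser. -/
def orbOk (j : ℕ) : Bool :=
  let v := orbT.get j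
  let K := hP (v / 8)
  decide (v % 8 < 6) && decide (v / 8 < 1920) && mulP K (sP (repT.get (v % 8))) == mulP (sP j) K

/-- Test on one conjugating element. -/
def witOk (t : Tr) (a i : ℕ) : Bool :=
  let v := t.get i
  let c := v % 32
  let j := v / 32 % 512
  let l := v / 32 / 512
  let k := mulP (hP l) (vP j)
  decide (c < 21) && decide (j < 315) && decide (l < 1920) &&
    mulP (mulP (hP i) (vP (repT.get a))) k == mulP k (clP c)

/-- Test on the order of one class representative. -/
def ordOk (c : ℕ) : Bool :=
  let n := ordT.get c
  decide (0 < n) && powP (clP c) n == oneP && ((List.range n).all fun m => m == 0 || !(powP (clP c) m == oneP))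

end Cfsg.Agent.JTwo
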