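import Cfsg.Agent.Lib.J2.Packed

/-!
# Relabelling between lines and reflection matrices
-/

set_option autoImplicit false
set_option maxRecDepth 10000

namespace Cfsg.Agent.JTwo

/-- Part of the table `sigT`. -/
def sigT_aaa : Tr := .node (.node (.node (.node (.node (.node (.leaf 0) (.leaf 84)) (.leaf 240)) (.node (.leaf 43) (.leaf 191))) (.node (.node (.node (.leaf 28) (.leaf 278)) (.leaf 165)) (.node (.leaf 129) (.leaf 244)))) (.node (.node (.node (.node (.leaf 58) (.leaf 65)) (.leaf 229)) (.node (.leaf 107) (.leaf 254))) (.node (.node (.node (.leaf 3) (.leaf 276)) (.leaf 145)) (.node (.leaf 123) (.leaf 170))))) (.node (.node (.node (.node (.node (.leaf 50) (.leaf 96)) (.leaf 216)) (.node (.leaf 104) (.leaf 187))) (.node (.node (.node (.leaf 8) (.leaf 301)) (.leaf 153)) (.node (.leaf 271) (.leaf 204)))) (.node (.node (.node (.node (.leaf 30) (.leaf 299)) (.leaf 221)) (.node (.leaf 135) (.leaf 198))) (.node (.node (.node (.leaf 34) (.leaf 309)) (.leaf 260)) (.node (.leaf 115) (.leaf 75)))))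

/-- Part of the table `sigT`. -/
def sigT_aab : Tr := .node (.node (.node (.node (.node (.node (.leaf 49) (.leaf 88)) (.leaf 238)) (.node (.leaf 100) (.leaf 185))) (.node (.node (.node (.leaf 5) (.leaf 304)) (.leaf 157)) (.node (.leaf 266) (.leaf 241)))) (.node (.node (.node (.node (.leaf 23) (.leaf 296)) (.leaf 225)) (.node (.leaf 141) (.leaf 250))) (.node (.node (.node (.leaf 40) (.leaf 311)) (.leaf 261)) (.node (.leaf 113) (.leaf 74))))) (.node (.node (.node (.node (.node (.leaf 57) (.leaf 77)) (.leaf 214)) (.node (.leaf 111) (.leaf 162))) (.node (.node (.node (.leaf 15) (.leaf 287)) (.leaf 155)) (.node (.leaf 121) (.leaf 201)))) (.node (.node (.node (.node (.leaf 17) (.leaf 282)) (.leaf 217)) (.node (.leaf 133) (.leaf 194))) (.node (.node (.leaf 45) (.leaf 189)) (.node (.leaf 173) (.leaf 85)))))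

/-- Part of the table `sigT`. -/
def sigT_aa : Tr := .node sigT_aaa sigT_aab

/-- Part of the table `sigT`. -/
def sigT_aba : Tr := .node (.node (.node (.node (.node (.node (.leaf 53) (.leaf 90)) (.leaf 237)) (.node (.leaf 110) (.leaf 177))) (.node (.node (.node (.leaf 11) (.leaf 290)) (.leaf 159)) (.node (.leaf 264) (.leaf 243)))) (.node (.node (.node (.node (.leaf 25) (.leaf 298)) (.leaf 230)) (.node (.leaf 143) (.leaf 249))) (.node (.node (.node (.leaf 42) (.leaf 312)) (.leaf 267)) (.node (.leaf 117) (.leaf 72))))) (.node (.node (.node (.node (.node (.leaf 61) (.leaf 67)) (.leaf 213)) (.node (.leaf 97) (.leaf 176))) (.node (.node (.node (.leaf 1) (.leaf 273)) (.leaf 151)) (.node (.leaf 125) (.leaf 203)))) (.node (.node (.node (.node (.leaf 31) (.leaf 280)) (.leaf 222)) (.node (.leaf 137) (.leaf 193))) (.node (.node (.node (.leaf 35) (.leaf 314)) (.leaf 181)) (.node (.leaf 163) (.leaf 91)))))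

/-- Part of the table `sigT`. -/
def sigT_abb : Tr := .node (.node (.node (.node (.node (.node (.leaf 51) (.leaf 82)) (.leaf 215)) (.node (.leaf 106) (.leaf 179))) (.node (.node (.node (.leaf 10) (.leaf 291)) (.leaf 149)) (.node (.leaf 257) (.leaf 207)))) (.node (.node (.node (.node (.leaf 20) (.leaf 293)) (.leaf 223)) (.node (.leaf 139) (.leaf 197))) (.node (.node (.node (.leaf 48) (.leaf 313)) (.leaf 270)) (.node (.leaf 119) (.leaf 69))))) (.node (.node (.node (.node (.node (.leaf 59) (.leaf 79)) (.leaf 231)) (.node (.leaf 101) (.leaf 253))) (.node (.node (.node (.leaf 13) (.leaf 286)) (.leaf 147)) (.node (.leaf 127) (.leaf 168)))) (.node (.node (.node (.node (.leaf 22) (.leaf 284)) (.leaf 171)) (.node (.leaf 131) (.leaf 247))) (.node (.node (.leaf 37) (.leaf 183)) (.node (.leaf 239) (.leaf 94)))))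

/-- Part of the table `sigT`. -/
def sigT_ab : Tr := .node sigT_aba sigT_abb

/-- Part of the table `sigT`. -/
def sigT_a : Tr := .node sigT_aa sigT_ab

/-- Part of the table `sigT`. -/
def sigT_baa : Tr := .node (.node (.node (.node (.node (.node (.leaf 55) (.leaf 89)) (.leaf 233)) (.node (.leaf 109) (.leaf 178))) (.node (.node (.node (.leaf 12) (.leaf 289)) (.leaf 160)) (.node (.leaf 263) (.leaf 245)))) (.node (.node (.node (.node (.leaf 26) (.leaf 297)) (.leaf 228)) (.node (.leaf 144) (.leaf 251))) (.node (.node (.node (.leaf 41) (.leaf 305)) (.leaf 268)) (.node (.leaf 118) (.leaf 71))))) (.node (.node (.node (.node (.node (.leaf 63) (.leaf 68)) (.leaf 209)) (.node (.leaf 98) (.leaf 175))) (.node (.node (.node (.leaf 2) (.leaf 274)) (.leaf 152)) (.node (.leaf 126) (.leaf 205)))) (.node (.node (.node (.node (.leaf 32) (.leaf 279)) (.leaf 220)) (.node (.leaf 138) (.leaf 195))) (.node (.node (.node (.leaf 36) (.leaf 307)) (.leaf 182)) (.node (.leaf 164) (.leaf 92)))))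

/-- Part of the table `sigT`. -/
def sigT_bab : Tr := .node (.node (.node (.node (.node (.node (.leaf 56) (.leaf 81)) (.leaf 211)) (.node (.leaf 105) (.leaf 180))) (.node (.node (.node (.leaf 9) (.leaf 292)) (.leaf 150)) (.node (.leaf 258) (.leaf 208)))) (.node (.node (.node (.node (.leaf 19) (.leaf 294)) (.leaf 224)) (.node (.leaf 140) (.leaf 199))) (.node (.node (.node (.leaf 47) (.leaf 306)) (.leaf 269)) (.node (.leaf 120) (.leaf 70))))) (.node (.node (.node (.node (.node (.leaf 64) (.leaf 80)) (.leaf 232)) (.node (.leaf 102) (.leaf 255))) (.node (.node (.node (.leaf 14) (.leaf 285)) (.leaf 148)) (.node (.leaf 128) (.leaf 167)))) (.node (.node (.node (.node (.leaf 21) (.leaf 283)) (.leaf 172)) (.node (.leaf 132) (.leaf 248))) (.node (.node (.leaf 38) (.leaf 184)) (.node (.leaf 235) (.leaf 93)))))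

/-- Part of the table `sigT`. -/
def sigT_ba : Tr := .node sigT_baa sigT_bab

/-- Part of the table `sigT`. -/
def sigT_bba : Tr := .node (.node (.node (.node (.node (.node (.leaf 54) (.leaf 87)) (.leaf 234)) (.node (.leaf 99) (.leaf 186))) (.node (.node (.node (.leaf 6) (.leaf 303)) (.leaf 158)) (.node (.leaf 265) (.leaf 242)))) (.node (.node (.node (.node (.leaf 24) (.leaf 295)) (.leaf 226)) (.node (.leaf 142) (.leaf 252))) (.node (.node (.node (.leaf 39) (.leaf 310)) (.leaf 262)) (.node (.leaf 114) (.leaf 73))))) (.node (.node (.node (.node (.node (.leaf 62) (.leaf 78)) (.leaf 210)) (.node (.leaf 112) (.leaf 161))) (.node (.node (.node (.leaf 16) (.leaf 288)) (.leaf 156)) (.node (.leaf 122) (.leaf 202)))) (.node (.node (.node (.node (.leaf 18) (.leaf 281)) (.leaf 218)) (.node (.leaf 134) (.leaf 196))) (.node (.node (.leaf 46) (.leaf 190)) (.node (.leaf 174) (.leaf 86)))))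

/-- Part of the table `sigT`. -/
def sigT_bbb : Tr := .node (.node (.node (.node (.node (.node (.leaf 52) (.leaf 95)) (.leaf 212)) (.node (.leaf 103) (.leaf 188))) (.node (.node (.node (.leaf 7) (.leaf 302)) (.leaf 154)) (.node (.leaf 272) (.leaf 206)))) (.node (.node (.node (.node (.leaf 29) (.leaf 300)) (.leaf 219)) (.node (.leaf 136) (.leaf 200))) (.node (.node (.node (.leaf 33) (.leaf 308)) (.leaf 259)) (.node (.leaf 116) (.leaf 76))))) (.node (.node (.node (.node (.node (.leaf 60) (.leaf 66)) (.leaf 227)) (.node (.leaf 108) (.leaf 256))) (.node (.node (.node (.leaf 4) (.leaf 275)) (.leaf 146)) (.node (.leaf 124) (.leaf 169)))) (.node (.node (.node (.node (.leaf 27) (.leaf 277)) (.leaf 166)) (.node (.leaf 130) (.leaf 246))) (.node (.node (.leaf 44) (.leaf 192)) (.node (.leaf 236) (.leaf 83)))))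

/-- Part of the table `sigT`. -/
def sigT_bb : Tr := .node sigT_bba sigT_bbb

/-- Part of the table `sigT`. -/
def sigT_b : Tr := .node sigT_ba sigT_bb

/-- Part of the table `sigT`. -/
def sigT_ : Tr := .node sigT_a sigT_b

/-- The reflection matrix of a line. -/
def sigT : Tr := sigT_

/-- Part of the table `sigInvT`. -/
def sigInvT_aaa : Tr := .node (.node (.node (.node (.node (.node (.leaf 0) (.leaf 207)) (.leaf 109)) (.node (.leaf 13) (.leaf 191))) (.node (.node (.node (.leaf 25) (.leaf 299)) (.leaf 161)) (.node (.leaf 264) (.leaf 149)))) (.node (.node (.node (.node (.leaf 43) (.leaf 103)) (.leaf 81)) (.node (.leaf 269) (.leaf 229))) (.node (.node (.node (.leaf 54) (.leaf 292)) (.leaf 202)) (.node (.leaf 75) (.leaf 128))))) (.node (.node (.node (.node (.node (.leaf 40) (.leaf 98)) (.leaf 87)) (.node (.leaf 242) (.leaf 215))) (.node (.node (.node (.leaf 52) (.leaf 276)) (.leaf 238)) (.node (.leaf 72) (.leaf 141)))) (.node (.node (.node (.node (.leaf 19) (.leaf 282)) (.leaf 169)) (.node (.leaf 260)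 (.leaf 136))) (.node (.node (.node (.leaf 5) (.leaf 306)) (.leaf 189)) (.node (.leaf 117) (.leaf 221)))))

/-- Part of the table `sigInvT`. -/
def sigInvT_aab : Tr := .node (.node (.node (.node (.node (.node (.leaf 47) (.leaf 184)) (.leaf 93)) (.node (.leaf 265) (.leaf 219))) (.node (.node (.node (.leaf 57) (.leaf 293)) (.leaf 121)) (.node (.leaf 68) (.leaf 145)))) (.node (.node (.node (.node (.leaf 22) (.leaf 304)) (.leaf 173)) (.node (.leaf 256) (.leaf 135))) (.node (.node (.node (.leaf 7) (.leaf 311)) (.leaf 197)) (.node (.leaf 119) (.leaf 224))))) (.node (.node (.node (.node (.node (.leaf 33) (.leaf 177)) (.leaf 85)) (.node (.leaf 247) (.leaf 232))) (.node (.node (.node (.leaf 63) (.leaf 279)) (.leaf 157)) (.node (.leaf 79) (.leaf 127)))) (.node (.node (.node (.node (.leaf 32) (.leaf 286)) (.leaf 171)) (.node (.leaf 249) (.leaf 153))) (.node (.node (.leaf 15) (.leaf 199)) (.node (.leaf 111) (.leaf 211)))))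

/-- Part of the table `sigInvT`. -/
def sigInvT_aa : Tr := .node sigInvT_aaa sigInvT_aab

/-- Part of the table `sigInvT`. -/
def sigInvT_aba : Tr := .node (.node (.node (.node (.node (.node (.leaf 41) (.leaf 101)) (.leaf 95)) (.node (.leaf 271) (.leaf 220))) (.node (.node (.node (.leaf 56) (.leaf 290)) (.leaf 204)) (.node (.leaf 73) (.leaf 147)))) (.node (.node (.node (.node (.leaf 27) (.leaf 297)) (.leaf 175)) (.node (.leaf 262) (.leaf 139))) (.node (.node (.node (.leaf 8) (.leaf 309)) (.leaf 193)) (.node (.leaf 115) (.leaf 227))))) (.node (.node (.node (.node (.node (.leaf 38) (.leaf 100)) (.leaf 89)) (.node (.leaf 244) (.leaf 235))) (.node (.node (.node (.leaf 50) (.leaf 274)) (.leaf 240)) (.node (.leaf 70) (.leaf 131)))) (.node (.node (.node (.node (.leaf 17) (.leaf 284)) (.leaf 167)) (.node (.leaf 258) (.leaf 155))) (.node (.node (.node (.leaf 16) (.leaf 314)) (.leaf 195)) (.node (.leaf 107) (.leaf 212)))))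

/-- Part of the table `sigInvT`. -/
def sigInvT_abb : Tr := .node (.node (.node (.node (.node (.node (.leaf 35) (.leaf 179)) (.leaf 91)) (.node (.leaf 245) (.leaf 216))) (.node (.node (.node (.leaf 61) (.leaf 277)) (.leaf 159)) (.node (.leaf 77) (.leaf 146)))) (.node (.node (.node (.node (.leaf 30) (.leaf 288)) (.leaf 165)) (.node (.leaf 251) (.leaf 140))) (.node (.node (.node (.leaf 3) (.leaf 307)) (.leaf 185)) (.node (.leaf 113) (.leaf 223))))) (.node (.node (.node (.node (.node (.leaf 45) (.leaf 182)) (.leaf 83)) (.node (.leaf 267) (.leaf 231))) (.node (.node (.node (.leaf 59) (.leaf 295)) (.leaf 123)) (.node (.leaf 66) (.leaf 132)))) (.node (.node (.node (.node (.leaf 24) (.leaf 302)) (.leaf 163)) (.node (.leaf 254) (.leaf 154))) (.node (.node (.leaf 11) (.leaf 187)) (.node (.leaf 105) (.leaf 208)))))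

/-- Part of the table `sigInvT`. -/
def sigInvT_ab : Tr := .node sigInvT_aba sigInvT_abb

/-- Part of the table `sigInvT`. -/
def sigInvT_a : Tr := .node sigInvT_aa sigInvT_ab

/-- Part of the table `sigInvT`. -/
def sigInvT_baa : Tr := .node (.node (.node (.node (.node (.node (.leaf 42) (.leaf 102)) (.leaf 96)) (.node (.leaf 272) (.leaf 218))) (.node (.node (.node (.leaf 55) (.leaf 289)) (.leaf 203)) (.node (.leaf 74) (.leaf 148)))) (.node (.node (.node (.node (.leaf 28) (.leaf 298)) (.leaf 176)) (.node (.leaf 261) (.leaf 137))) (.node (.node (.node (.leaf 4) (.leaf 305)) (.leaf 194)) (.node (.leaf 116) (.leaf 228))))) (.node (.node (.node (.node (.node (.leaf 37) (.leaf 99)) (.leaf 90)) (.node (.leaf 243) (.leaf 236))) (.node (.node (.node (.leaf 49) (.leaf 273)) (.leaf 239)) (.node (.leaf 69) (.leaf 129)))) (.node (.node (.node (.node (.leaf 18) (.leaf 283)) (.leaf 168)) (.node (.leaf 257) (.leaf 156))) (.node (.node (.node (.leaf 12) (.leaf 310)) (.leaf 196)) (.node (.leaf 108) (.leaf 210)))))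

/-- Part of the table `sigInvT`. -/
def sigInvT_bab : Tr := .node (.node (.node (.node (.node (.node (.leaf 36) (.leaf 180)) (.leaf 92)) (.node (.leaf 246) (.leaf 214))) (.node (.node (.node (.leaf 62) (.leaf 278)) (.leaf 160)) (.node (.leaf 78) (.leaf 144)))) (.node (.node (.node (.node (.leaf 29) (.leaf 287)) (.leaf 166)) (.node (.leaf 252) (.leaf 138))) (.node (.node (.node (.leaf 2) (.leaf 312)) (.leaf 186)) (.node (.leaf 114) (.leaf 225))))) (.node (.node (.node (.node (.node (.leaf 46) (.leaf 181)) (.leaf 84)) (.node (.leaf 268) (.leaf 233))) (.node (.node (.node (.leaf 60) (.leaf 296)) (.leaf 124)) (.node (.leaf 65) (.leaf 130)))) (.node (.node (.node (.node (.leaf 23) (.leaf 301)) (.leaf 164)) (.node (.leaf 253) (.leaf 152))) (.node (.node (.leaf 10) (.leaf 188)) (.node (.leaf 106) (.leaf 206)))))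

/-- Part of the table `sigInvT`. -/
def sigInvT_ba : Tr := .node sigInvT_baa sigInvT_bab

/-- Part of the table `sigInvT`. -/
def sigInvT_bba : Tr := .node (.node (.node (.node (.node (.node (.leaf 48) (.leaf 183)) (.leaf 94)) (.node (.leaf 266) (.leaf 217))) (.node (.node (.node (.leaf 58) (.leaf 294)) (.leaf 122)) (.node (.leaf 67) (.leaf 143)))) (.node (.node (.node (.node (.leaf 21) (.leaf 303)) (.leaf 174)) (.node (.leaf 255) (.leaf 133))) (.node (.node (.node (.leaf 6) (.leaf 313)) (.leaf 198)) (.node (.leaf 120) (.leaf 226))))) (.node (.node (.node (.node (.node (.leaf 34) (.leaf 178)) (.leaf 86)) (.node (.leaf 248) (.leaf 234))) (.node (.node (.node (.leaf 64) (.leaf 280)) (.leaf 158)) (.node (.leaf 80) (.leaf 125)))) (.node (.node (.node (.node (.leaf 31) (.leaf 285)) (.leaf 172)) (.node (.leaf 250) (.leaf 151))) (.node (.node (.leaf 14) (.leaf 200)) (.node (.leaf 112) (.leaf 209)))))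

/-- Part of the table `sigInvT`. -/
def sigInvT_bbb : Tr := .node (.node (.node (.node (.node (.node (.leaf 39) (.leaf 97)) (.leaf 88)) (.node (.leaf 241) (.leaf 213))) (.node (.node (.node (.leaf 51) (.leaf 275)) (.leaf 237)) (.node (.leaf 71) (.leaf 142)))) (.node (.node (.node (.node (.leaf 20) (.leaf 281)) (.leaf 170)) (.node (.leaf 259) (.leaf 134))) (.node (.node (.node (.leaf 1) (.leaf 308)) (.leaf 190)) (.node (.leaf 118) (.leaf 222))))) (.node (.node (.node (.node (.node (.leaf 44) (.leaf 104)) (.leaf 82)) (.node (.leaf 270) (.leaf 230))) (.node (.node (.node (.leaf 53) (.leaf 291)) (.leaf 201)) (.node (.leaf 76) (.leaf 126)))) (.node (.node (.node (.node (.leaf 26) (.leaf 300)) (.leaf 162)) (.node (.leaf 263) (.leaf 150))) (.node (.node (.leaf 9) (.leaf 192)) (.node (.leaf 110) (.leaf 205)))))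

/-- Part of the table `sigInvT`. -/
def sigInvT_bb : Tr := .node sigInvT_bba sigInvT_bbb

/-- Part of the table `sigInvT`. -/
def sigInvT_b : Tr := .node sigInvT_ba sigInvT_bb

/-- Part of the table `sigInvT`. -/
def sigInvT_ : Tr := .node sigInvT_a sigInvT_b

/-- The line of a reflection matrix. -/
def sigInvT : Tr := sigInvT_

end Cfsg.Agent.JTwo
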