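import Cfsg.Agent.Lib.J2.Group
import Cfsg.Agent.Lib.J2.DataL
import Cfsg.Agent.Lib.Icosian.Group

/-!
# The matrix group is the Hall–Janko group
-/

set_option autoImplicit false

namespace Cfsg.Agent.JTwo

open Cfsg.Agent.Icosian (rho refl2 genLine reflData)

attribute [local irreducible] ev mulP

theorem check_sigT : ((List.range 315).all fun i => decide (sigT.get i < 315) && (sigInvT.get (sigT.get i) == i)) = true := by
  decide +kernel

theorem check_perm : (reflData.all fun e => (List.range 315).all fun i =>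
    let g := sP (sigT.get e.1)
    mulP g (sP (sigT.get i)) == mulP (sP (sigT.get (Cfsg.Agent.Icosian.app e.2.1 i))) g) = true := by
  decide +kernel

/-- The reflection matrix belonging to a line. -/
def T (i : Fin 315) : Mat := S (sigT.get i.1)

theorem sig_lt (i : Fin 315) : sigT.get i.1 < 315 := by
  have h := range_all check_sigT i.2
  simp only [Bool.and_eq_true, decide_eq_true_eq] at h
  exact h.1

theorem T_injective : Function.Injective T := fun i j h => by
  have h' := S_injective (sig_lt i) (sig_lt j) h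
  have hi := range_all check_sigT i.2
  have hj := range_all check_sigT j.2
  simp only [Bool.and_eq_true, decide_eq_true_eq, beq_iff_eq] at hi hj
  exact Fin.ext (hi.2.symm.trans ((congrArg sigInvT.get h').trans hj.2))

theorem exists_T {j : ℕ} (hj : j < 315) : ∃ i, T i = S j := by
  have hb : Function.Bijective fun i : Fin 315 => (⟨sigT.get i.1, sig_lt i⟩ : Fin 315) :=
    Finite.injective_iff_bijective.1 fun a b h => T_injective (congrArg S (congrArg Fin.val h))
  obtain ⟨i, hi⟩ := hb.2 ⟨j, hj⟩
  exact ⟨i, congrArg S (congrArg Fin.val hi)⟩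

theorem exists_conj_T (u : M) (i : Fin 315) : ∃ j : Fin 315, (u : Matˣ).val * T i = T j * (u : Matˣ).val := by
  obtain ⟨v, hv⟩ := exists_unit (V_mem (sig_lt i))
  obtain ⟨a, ha, k, hk, hw⟩ := mem_MM_iff.1 (mem_M_iff.1 (v * u⁻¹).2)
  obtain ⟨j, hj⟩ := exists_T hk
  refine ⟨j, ?_⟩
  have hvu : (v : Matˣ).val = Hm a * V k * (u : Matˣ).val := by
    rw [← hw, ← Units.val_mul, ← Subgroup.coe_mul, inv_mul_cancel_right]
  have h1 : (v : Matˣ).val * T i = S 0 * (v : Matˣ).val := by
    rw [hv, T, (s_spec (sig_lt i)).2.2]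
  obtain ⟨b, hb⟩ := exists_unit (MM.mul_mem (HH_le_MM (Hm_mem ha)) (V_mem hk))
  have h2 : Hm a * V k * ((u : Matˣ).val * T i) = Hm a * V k * (T j * (u : Matˣ).val) := by
    rw [← mul_assoc, ← hvu, h1, hvu, hj, ← mul_assoc (S 0), ← mul_assoc (S 0), HH_comm (Hm_mem ha),
      mul_assoc (Hm a) (S 0), (s_spec hk).2.2]
    simp only [mul_assoc]
  rw [← hb] at h2
  exact (Units.mul_right_inj _).1 h2

/-- The line to which a line is moved. -/
noncomputable def moveT (u : M) (i : Fin 315) : Fin 315 := (exists_conj_T u i).choose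

theorem moveT_spec (u : M) (i : Fin 315) : (u : Matˣ).val * T i = T (moveT u i) * (u : Matˣ).val :=
  (exists_conj_T u i).choose_spec

theorem moveT_eq {u : M} {i j : Fin 315} (h : (u : Matˣ).val * T i = T j * (u : Matˣ).val) : moveT u i = j :=
  T_injective ((Units.mul_left_inj _).1 ((moveT_spec u i).symm.trans h))

theorem moveT_one (i : Fin 315) : moveT 1 i = i :=
  moveT_eq (by rw [Subgroup.coe_one, Units.val_one, one_mul, mul_one])

theorem moveT_mul (u v : M) (i : Fin 315) : moveT (u * v) i = moveT u (moveT v i) :=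
  moveT_eq (by rw [Subgroup.coe_mul, Units.val_mul, mul_assoc, moveT_spec v, ← mul_assoc, moveT_spec u, mul_assoc])

/-- The action on the lines. -/
noncomputable def lineHom : M →* Equiv.Perm (Fin 315) where
  toFun u :=
    { toFun := moveT u
      invFun := moveT u⁻¹
      left_inv := fun i => by rw [← moveT_mul, inv_mul_cancel, moveT_one]
      right_inv := fun i => by rw [← moveT_mul, mul_inv_cancel, moveT_one] }
  map_one' := Equiv.ext moveT_one
  map_mul' u v := Equiv.ext (moveT_mul u v)

theorem lineHom_apply (u : M) (i : Fin 315) : lineHom u i = moveT u i := rfl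

theorem lineHom_injective : Function.Injective lineHom := by
  refine (injective_iff_map_eq_one _).2 fun u hu => eq_one_of_central u fun k hk => ?_
  obtain ⟨j, hj, he⟩ := g_eq hk
  obtain ⟨i, hi⟩ := exists_T hj
  have h := moveT_spec u i
  rw [← lineHom_apply, hu, Equiv.Perm.one_apply, hi, ← he] at h
  exact h

theorem range_le : rho.range ≤ lineHom.range := by
  rw [MonoidHom.range_eq_map, ← Cfsg.Agent.Icosian.four_eq_top, Cfsg.Agent.Icosian.four, MonoidHom.map_closure,
    Subgroup.closure_le]
  rintro _ ⟨_, ⟨g, hg, rfl⟩, rfl⟩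
  obtain ⟨h1, -, -⟩ := Cfsg.Agent.Icosian.gens_check
  have hm : (g : ℕ) ∈ reflData.map (fun e => e.1) := by
    rw [h1]; exact List.mem_map.2 ⟨g, hg, rfl⟩
  obtain ⟨e, he, hei⟩ := List.mem_map.1 hm
  obtain ⟨g', hg', hrep⟩ := Cfsg.Agent.Icosian.rep_refl he
  obtain rfl : g' = g := Fin.ext (hg'.trans hei)
  obtain ⟨u, hu⟩ := exists_unit (S_mem (sig_lt g'))
  refine ⟨u, Equiv.ext fun i => ?_⟩
  have h := range_all (List.all_eq_true.1 check_perm e he) i.2
  simp only [hei, hrep i] at h
  rw [lineHom_apply]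
  refine moveT_eq ?_
  rw [hu, T, T, S, S, S, ← ev_mulP, ← ev_mulP, ev_eq h]

theorem range_eq : lineHom.range = rho.range := by
  have hc : Nat.card lineHom.range = 604800 := by
    rw [← Nat.card_congr (MonoidHom.ofInjective lineHom_injective).toEquiv, card_M]
  exact (Subgroup.eq_of_le_of_card_ge range_le (by rw [hc, Cfsg.Agent.Icosian.card_range_rho])).symm

/-- The matrix group is isomorphic to the Hall–Janko group. -/
noncomputable def equivJ2 : M ≃* Cfsg.Spor.J2 :=
  (MonoidHom.ofInjective lineHom_injective).trans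
    ((MulEquiv.subgroupCongr range_eq).trans Cfsg.Agent.Icosian.j2Equiv.symm)

theorem range_orderOf_J2 :
    Set.range (orderOf : Cfsg.Spor.J2 → ℕ) = {1, 2, 3, 4, 5, 6, 7, 8, 10, 12, 15} := by
  rw [← range_orderOf]
  ext n
  constructor
  · rintro ⟨g, rfl⟩
    exact ⟨equivJ2.symm g, equivJ2.symm.orderOf_eq g⟩
  · rintro ⟨g, rfl⟩
    exact ⟨equivJ2 g, equivJ2.orderOf_eq g⟩

end Cfsg.Agent.JTwo
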