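import Cfsg.Agent.Lib.J2.Ops

/-!
# The tables of the reflections, cosets and centraliser are correct
-/

set_option autoImplicit false
set_option maxRecDepth 20000

namespace Cfsg.Agent.JTwo

theorem check_s : ((List.range 315).all sOk) = true := by decide +kernel
theorem check_v : ((List.range 315).all vOk) = true := by decide +kernel
theorem check_step : ((List.range 315).all stepOk) = true := by decide +kernel
theorem check_h : ((List.range 1920).all hOk) = true := by decide +kernel
theorem check_orb : ((List.range 315).all orbOk) = true := by decide +kernel
theorem check_hg : ((List.range 2).all fun k => mulP (sP 0) (hgP k) == mulP (hgP k) (sP 0)) = true := by decide +kernel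
theorem check_gen : ((List.range 4).all fun k => decide (genIdx.get k < 315) && gP k == sP (genIdx.get k)) = true := by
  decide +kernel
theorem check_ord : ((List.range 21).all ordOk) = true := by decide +kernel

end Cfsg.Agent.JTwo
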