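import Mathlib

/-!
# Binary 12 × 12 matrices packed in numerals
-/

set_option autoImplicit false

namespace Cfsg.Agent.JTwo

/-- Binary 12 × 12 matrices. -/
abbrev Mat := Matrix (Fin 12) (Fin 12) (ZMod 2)

/-- A bit as an element of `ZMod 2`. -/
def bit (b : Bool) : ZMod 2 := bif b then 1 else 0

/-- The matrix packed in a numeral, twelve bits per row. -/
def ev (a : ℕ) : Mat := Matrix.of fun r c => bit (a.testBit (12 * r.1 + c.1))

/-- The bits at the multiples of twelve below 144. -/
def colMask : ℕ :=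
  2 ^ 0 + 2 ^ 12 + 2 ^ 24 + 2 ^ 36 + 2 ^ 48 + 2 ^ 60 + 2 ^ 72 + 2 ^ 84 + 2 ^ 96 + 2 ^ 108 + 2 ^ 120 + 2 ^ 132

/-- One summand of a product. -/
def mulStep (a b i : ℕ) : ℕ := ((a >>> i) &&& colMask) * ((b >>> (12 * i)) &&& 4095)

/-- The product of packed matrices. -/
def mulP (a b : ℕ) : ℕ :=
  mulStep a b 0 ^^^ mulStep a b 1 ^^^ mulStep a b 2 ^^^ mulStep a b 3 ^^^ mulStep a b 4 ^^^ mulStep a b 5 ^^^
    mulStep a b 6 ^^^ mulStep a b 7 ^^^ mulStep a b 8 ^^^ mulStep a b 9 ^^^ mulStep a b 10 ^^^ mulStep a b 11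

/-- The packed identity. -/
def oneP : ℕ :=
  2 ^ 0 + 2 ^ 13 + 2 ^ 26 + 2 ^ 39 + 2 ^ 52 + 2 ^ 65 + 2 ^ 78 + 2 ^ 91 + 2 ^ 104 + 2 ^ 117 + 2 ^ 130 + 2 ^ 143

theorem colMask_testBit {k : ℕ} (h : colMask.testBit k = true) : k % 12 = 0 := by
  by_cases hk : k < 144
  · revert h
    interval_cases k <;> decide +kernel
  · rw [Nat.testBit_lt_two_pow (lt_of_lt_of_le (by decide +kernel : colMask < 2 ^ 144)
      (Nat.pow_le_pow_right (by norm_num) (by omega)))] at h
    exact absurd h (by simp)

theorem colMask_testBit_mul {r : ℕ} (h : r < 12) : colMask.testBit (12 * r) = true := by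
  interval_cases r <;> decide +kernel

theorem testBit_mul_spread (r : ℕ) : ∀ {n w c : ℕ}, (∀ k, n.testBit k = true → k % 12 = 0) → w < 4096 → c < 12 →
    (n * w).testBit (12 * r + c) = (n.testBit (12 * r) && w.testBit c) := by
  induction r with
  | zero =>
    intro n w c hn hw hc
    have hmod : n % 4096 = (n.testBit 0).toNat := by
      apply Nat.eq_of_testBit_eq
      intro k
      rw [show (4096 : ℕ) = 2 ^ 12 by norm_num, Nat.testBit_mod_two_pow]
      rcases Nat.eq_zero_or_pos k with rfl | hk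
      · cases n.testBit 0 <;> simp
      · have : ((n.testBit 0).toNat).testBit k = false :=
          Nat.testBit_lt_two_pow (lt_of_lt_of_le (by cases n.testBit 0 <;> simp : (n.testBit 0).toNat < 2)
            (le_self_pow₀ (by norm_num) (by omega)))
        rw [this]
        by_cases h12 : k < 12
        · have : n.testBit k = false := by
            by_contra hb
            simp at hb
            have := hn k hb
            omega
          simp [this]
        · simp [h12]
    have he : n * w = 2 ^ 12 * (n / 4096 * w) + (n.testBit 0).toNat * w := by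
      conv_lhs => rw [← Nat.div_add_mod n 4096, hmod]
      ring
    have hlt : (n.testBit 0).toNat * w < 2 ^ 12 := by cases n.testBit 0 <;> simp; omega
    rw [he, Nat.testBit_two_pow_mul_add _ hlt, Nat.mul_zero, Nat.zero_add, if_pos hc]
    cases n.testBit 0 <;> simp
  | succ r ih =>
    intro n w c hn hw hc
    have hn' : ∀ k, (n / 2 ^ 12).testBit k = true → k % 12 = 0 := fun k hk => by
      rw [Nat.testBit_div_two_pow] at hk
      have := hn _ hk
      omega
    have hmod : n % 2 ^ 12 < 2 := by
      by_contra h2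
      obtain ⟨k, hk, hk2⟩ := Nat.exists_ge_and_testBit_of_ge_two_pow (n := 1) (x := n % 2 ^ 12) (by omega)
      rw [Nat.testBit_mod_two_pow, Bool.and_eq_true, decide_eq_true_eq] at hk2
      have := hn k hk2.2
      omega
    have he : n * w = 2 ^ 12 * (n / 2 ^ 12 * w) + n % 2 ^ 12 * w := by
      conv_lhs => rw [← Nat.div_add_mod n (2 ^ 12)]
      ring
    have hlt : n % 2 ^ 12 * w < 2 ^ 12 := by
      rcases (show n % 2 ^ 12 = 0 ∨ n % 2 ^ 12 = 1 by omega) with h | h <;> rw [h] <;> simp; omega
    rw [he, Nat.testBit_two_pow_mul_add _ hlt, if_neg (by omega), show 12 * (r + 1) + c - 12 = 12 * r + c by omega,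
      ih hn' hw hc, Nat.testBit_div_two_pow, show 12 * r + 12 = 12 * (r + 1) by ring]

theorem testBit_mulStep (a b i : ℕ) {r c : ℕ} (hr : r < 12) (hc : c < 12) :
    (mulStep a b i).testBit (12 * r + c) = (a.testBit (12 * r + i) && b.testBit (12 * i + c)) := by
  rw [mulStep, testBit_mul_spread r (fun k hk => ?_) ?_ hc, Nat.testBit_and, Nat.testBit_and,
    Nat.testBit_shiftRight, Nat.testBit_shiftRight, colMask_testBit_mul hr, Bool.and_true,
    show (4095 : ℕ) = 2 ^ 12 - 1 by norm_num, Nat.testBit_two_pow_sub_one, decide_eq_true hc, Bool.and_true,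
    Nat.add_comm i]
  · exact Nat.lt_succ_of_le Nat.and_le_right
  · rw [Nat.testBit_and, Bool.and_eq_true] at hk
    exact colMask_testBit hk.2

theorem bit_xor (a b : Bool) : bit (a ^^ b) = bit a + bit b := by cases a <;> cases b <;> decide

theorem bit_and (a b : Bool) : bit (a && b) = bit a * bit b := by cases a <;> cases b <;> decide

theorem ev_mulP (a b : ℕ) : ev (mulP a b) = ev a * ev b := by
  ext r c
  simp only [ev, Matrix.mul_apply, Matrix.of_apply, mulP, Nat.testBit_xor, testBit_mulStep _ _ _ r.2 c.2, bit_xor,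
    bit_and]
  simp [Fin.sum_univ_succ, add_assoc]

theorem mulStep_lt (a b i : ℕ) : mulStep a b i < 2 ^ 144 :=
  lt_of_le_of_lt (Nat.mul_le_mul Nat.and_le_right Nat.and_le_right) (by decide +kernel)

theorem mulP_lt (a b : ℕ) : mulP a b < 2 ^ 144 := by
  simp only [mulP]
  repeat' apply Nat.xor_lt_two_pow
  all_goals exact mulStep_lt _ _ _

theorem ev_oneP : ev oneP = 1 := by decide +kernel

theorem ev_zero : ev 0 = 0 := by
  ext r c
  simp [ev, bit]

theorem ev_xor (a b : ℕ) : ev (a ^^^ b) = ev a + ev b := by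
  ext r c
  simp [ev, bit_xor]

theorem ev_inj {a b : ℕ} (ha : a < 2 ^ 144) (hb : b < 2 ^ 144) (h : ev a = ev b) : a = b := by
  apply Nat.eq_of_testBit_eq
  intro k
  by_cases hk : k < 144
  · have := congrFun (congrFun h ⟨k / 12, by omega⟩) ⟨k % 12, Nat.mod_lt _ (by norm_num)⟩
    simp only [ev, Matrix.of_apply, Nat.div_add_mod] at this
    revert this
    cases a.testBit k <;> cases b.testBit k <;> decide
  · rw [Nat.testBit_lt_two_pow (ha.trans_le (Nat.pow_le_pow_right (by norm_num) (by omega))),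
      Nat.testBit_lt_two_pow (hb.trans_le (Nat.pow_le_pow_right (by norm_num) (by omega)))]

/-- A binary trie of numerals. -/
inductive Tr where
  | leaf : ℕ → Tr
  | node : Tr → Tr → Tr

/-- The entry of a trie at a position, lowest bit first. -/
def Tr.get : Tr → ℕ → ℕ
  | .leaf v, _ => v
  | .node l r, i => bif (i % 2 == 0) then l.get (i / 2) else r.get (i / 2)

/-- A search tree from keys to values. -/
inductive Bs where
  | tip : Bs
  | node : Bs → ℕ → ℕ → Bs → Bs

/-- Look up a key in a search tree. -/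
def Bs.find : Bs → ℕ → ℕ
  | .tip, _ => 0
  | .node l k v r, x => bif Nat.ble x k then (bif (x == k) then v else l.find x) else r.find x

end Cfsg.Agent.JTwo
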