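import Mathlib

/-!
# The element orders of `S₈` and of the extensions of `A₈` by its six-dimensional binary modules
-/

set_option autoImplicit false

namespace Cfsg.Agent.JTwo

open Equiv

/-- The common spectrum. -/
def spec : List ℕ := [1, 2, 3, 4, 5, 6, 7, 8, 10, 12, 15]

/-- All lists of positive numbers with sum `n`, with fuel `f`. -/
def comps : ℕ → ℕ → List (List ℕ)
  | _, 0 => [[]]
  | 0, _ + 1 => []
  | f + 1, n + 1 => (List.range (n + 1)).flatMap fun k => (comps f (n - k)).map ((k + 1) :: ·)

theorem mem_comps : ∀ {l : List ℕ} {f : ℕ}, (∀ a ∈ l, 0 < a) → l.sum ≤ f → l ∈ comps f l.sum := by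
  intro l
  induction l with
  | nil => intro f _ _; cases f <;> simp [comps]
  | cons a l ih =>
    intro f hp hf
    have ha := hp a (by simp)
    have hp' : ∀ b ∈ l, 0 < b := fun b hb => hp b (List.mem_cons_of_mem _ hb)
    rw [List.sum_cons] at hf ⊢
    obtain ⟨f, rfl⟩ : ∃ f', f = f' + 1 := ⟨f - 1, by omega⟩
    rw [show a + l.sum = (a - 1 + l.sum) + 1 by omega, comps, List.mem_flatMap]
    refine ⟨a - 1, List.mem_range.2 (by omega), List.mem_map.2 ⟨l, ?_, by rw [Nat.sub_add_cancel ha]⟩⟩
    rw [show a - 1 + l.sum - (a - 1) = l.sum by omega]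
    exact ih hp' (by omega)

theorem exists_comps (P : Nat.Partition 8) : ∃ l ∈ comps 8 8, P.parts = (l : Multiset ℕ) := by
  refine ⟨P.parts.toList, ?_, (Multiset.coe_toList _).symm⟩
  have hs : P.parts.toList.sum = 8 := by rw [← Multiset.sum_coe, Multiset.coe_toList, P.parts_sum]
  have := mem_comps (l := P.parts.toList) (f := 8) (fun a ha => P.parts_pos (Multiset.mem_toList.1 ha)) hs.le
  rwa [hs] at this

theorem check_comps : (∀ l ∈ comps 8 8, (l : Multiset ℕ).lcm ∈ spec) ∧
    (∀ l ∈ comps 8 8, Even l.length → (l : Multiset ℕ).lcm ∈ [1, 2, 3, 4, 5, 6, 7, 15]) ∧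
    (∀ l ∈ comps 8 8, (l : Multiset ℕ).lcm = 7 → (l : Multiset ℕ) = ([7, 1] : List ℕ)) ∧
    ∀ l ∈ comps 8 8, (l : Multiset ℕ).lcm = 15 → (l : Multiset ℕ) = ([5, 3] : List ℕ) := by
  decide +kernel

theorem check_partition (P : Nat.Partition 8) : P.parts.lcm ∈ spec := by
  obtain ⟨l, hl, he⟩ := exists_comps P
  rw [he]
  exact check_comps.1 l hl

theorem check_even (P : Nat.Partition 8) (h : Even (Multiset.card P.parts)) :
    P.parts.lcm ∈ [1, 2, 3, 4, 5, 6, 7, 15] := by
  obtain ⟨l, hl, he⟩ := exists_comps P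
  rw [he, Multiset.coe_card] at h
  rw [he]
  exact check_comps.2.1 l hl h

theorem check_seven (P Q : Nat.Partition 8) (hP : P.parts.lcm = 7) (hQ : Q.parts.lcm = 7) : P.parts = Q.parts := by
  obtain ⟨l, hl, he⟩ := exists_comps P
  obtain ⟨m, hm, he'⟩ := exists_comps Q
  rw [he] at hP ⊢
  rw [he'] at hQ ⊢
  rw [check_comps.2.2.1 l hl hP, check_comps.2.2.1 m hm hQ]

theorem check_fifteen (P Q : Nat.Partition 8) (hP : P.parts.lcm = 15) (hQ : Q.parts.lcm = 15) : P.parts = Q.parts := by
  obtain ⟨l, hl, he⟩ := exists_comps P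
  obtain ⟨m, hm, he'⟩ := exists_comps Q
  rw [he] at hP ⊢
  rw [he'] at hQ ⊢
  rw [check_comps.2.2.2 l hl hP, check_comps.2.2.2 m hm hQ]

/-- The partition of a permutation of eight points. -/
def part (σ : Perm (Fin 8)) : Nat.Partition 8 where
  parts := σ.partition.parts
  parts_pos := σ.partition.parts_pos
  parts_sum := σ.partition.parts_sum.trans (Fintype.card_fin 8)

theorem orderOf_eq_lcm (σ : Perm (Fin 8)) : orderOf σ = (part σ).parts.lcm := by
  show orderOf σ = σ.partition.parts.lcm
  rw [Perm.parts_partition, Multiset.lcm_add, Perm.lcm_cycleType,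
    (Nat.dvd_one.1 (Multiset.lcm_dvd.2 fun b hb => by rw [Multiset.eq_of_mem_replicate hb]) :
      (Multiset.replicate (Fintype.card (Fin 8) - σ.support.card) 1).lcm = 1)]
  exact (Nat.lcm_one_right _).symm

theorem even_card_parts {σ : Perm (Fin 8)} (h : Perm.sign σ = 1) : Even (Multiset.card (part σ).parts) := by
  show Even (Multiset.card σ.partition.parts)
  rw [Perm.sign_of_cycleType, neg_one_pow_eq_one_iff_even (by decide)] at h
  rw [Perm.parts_partition, Multiset.card_add, Multiset.card_replicate]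
  have hs : σ.cycleType.sum = σ.support.card := Perm.sum_cycleType σ
  have hle : σ.support.card ≤ 8 := σ.support.card_le_univ.trans_eq (Fintype.card_fin 8)
  rw [Fintype.card_fin]
  rw [hs, Nat.even_add] at h
  rw [Nat.even_add, Nat.even_sub hle]
  exact ⟨fun hc => ⟨fun _ => h.2 hc, fun _ => ⟨4, rfl⟩⟩, fun hn => h.1 (hn.1 ⟨4, rfl⟩)⟩

theorem orderOf_mem_spec (σ : Perm (Fin 8)) : orderOf σ ∈ spec := orderOf_eq_lcm σ ▸ check_partition _

/-- The cyclic permutation of a list of points. -/
abbrev cyc (l : List (Fin 8)) : Perm (Fin 8) := l.formPerm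

theorem orderOf_eq_of_check {σ : Perm (Fin 8)} {n : ℕ} (h0 : 0 < n) (h1 : σ ^ n = 1)
    (h2 : ∀ m < n, 0 < m → σ ^ m ≠ 1) : orderOf σ = n := (orderOf_eq_iff h0).2 ⟨h1, h2⟩

theorem range_orderOf_perm :
    Set.range (orderOf : Perm (Fin 8) → ℕ) = {1, 2, 3, 4, 5, 6, 7, 8, 10, 12, 15} := by
  ext n
  constructor
  · rintro ⟨σ, rfl⟩
    have := orderOf_mem_spec σ
    simpa [spec] using this
  · intro hn
    simp only [Set.mem_insert_iff, Set.mem_singleton_iff] at hn
    rcases hn with rfl | rfl | rfl | rfl | rfl | rfl | rfl | rfl | rfl | rfl | rfl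
    · exact ⟨1, orderOf_one⟩
    · exact ⟨cyc [0, 1], orderOf_eq_of_check (by norm_num) (by decide +kernel) (by decide +kernel)⟩
    · exact ⟨cyc [0, 1, 2], orderOf_eq_of_check (by norm_num) (by decide +kernel) (by decide +kernel)⟩
    · exact ⟨cyc [0, 1, 2, 3], orderOf_eq_of_check (by norm_num) (by decide +kernel) (by decide +kernel)⟩
    · exact ⟨cyc [0, 1, 2, 3, 4], orderOf_eq_of_check (by norm_num) (by decide +kernel) (by decide +kernel)⟩
    · exact ⟨cyc [0, 1, 2, 3, 4, 5], orderOf_eq_of_check (by norm_num) (by decide +kernel) (by decide +kernel)⟩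
    · exact ⟨cyc [0, 1, 2, 3, 4, 5, 6], orderOf_eq_of_check (by norm_num) (by decide +kernel) (by decide +kernel)⟩
    · exact ⟨cyc [0, 1, 2, 3, 4, 5, 6, 7], orderOf_eq_of_check (by norm_num) (by decide +kernel) (by decide +kernel)⟩
    · exact ⟨cyc [0, 1, 2, 3, 4] * cyc [5, 6],
        orderOf_eq_of_check (by norm_num) (by decide +kernel) (by decide +kernel)⟩
    · exact ⟨cyc [0, 1, 2, 3] * cyc [4, 5, 6],
        orderOf_eq_of_check (by norm_num) (by decide +kernel) (by decide +kernel)⟩
    · exact ⟨cyc [0, 1, 2, 3, 4] * cyc [5, 6, 7],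
        orderOf_eq_of_check (by norm_num) (by decide +kernel) (by decide +kernel)⟩

/-! ### The six-dimensional module -/

/-- The binary vectors of length six. -/
abbrev W := Fin 6 → ZMod 2

/-- The even vector of length eight with last coordinate zero. -/
def emb (v : W) : Fin 8 → ZMod 2 := fun i =>
  if h : i.1 < 6 then v ⟨i.1, h⟩ else if i.1 = 6 then v 0 + v 1 + v 2 + v 3 + v 4 + v 5 else 0

/-- Reduce modulo the constant vectors. -/
def nrm (x : Fin 8 → ZMod 2) : W := fun i => x (Fin.castLE (by norm_num) i) + x 7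

/-- The action of a permutation. -/
def actW (g : Perm (Fin 8)) (v : W) : W := nrm (emb v ∘ ⇑g⁻¹)

theorem emb_nrm {x : Fin 8 → ZMod 2} (h : ∑ i, x i = 0) : emb (nrm x) = fun i => x i + x 7 := by
  revert x
  decide +kernel

theorem emb_sum (v : W) : ∑ i, emb v i = 0 := by
  revert v
  decide +kernel

theorem actW_one (v : W) : actW 1 v = v := by
  revert v
  decide +kernel

theorem actW_mul (g h : Perm (Fin 8)) (v : W) : actW (g * h) v = actW g (actW h v) := by
  have hs : ∑ i, (emb v ∘ ⇑h⁻¹) i = 0 := by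
    rw [← emb_sum v]
    exact Equiv.sum_comp h⁻¹ (emb v)
  rw [actW, actW, actW, emb_nrm hs, mul_inv_rev, Perm.coe_mul]
  funext i
  simp only [nrm, Function.comp_apply]
  generalize emb v (h⁻¹ (g⁻¹ (Fin.castLE _ i))) = a
  generalize emb v (h⁻¹ (g⁻¹ 7)) = b
  generalize emb v (h⁻¹ 7) = c
  revert a b c
  decide

theorem actW_add (g : Perm (Fin 8)) (v w : W) : actW g (v + w) = actW g v + actW g w := by
  have he : emb (v + w) = emb v + emb w := by
    funext i
    simp only [emb, Pi.add_apply]
    split_ifs <;> ring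
  funext i
  simp only [actW, nrm, he, Function.comp_apply, Pi.add_apply]
  ring

/-- Elements of order seven or fifteen fix no nonzero vector. -/
theorem fixed_zero {g : Perm (Fin 8)} (hg : orderOf g = 7 ∨ orderOf g = 15) {v : W} (hv : actW g v = v) : v = 0 := by
  obtain ⟨g0, h0, hc⟩ : ∃ g0 : Perm (Fin 8), (∀ w, actW g0 w = w → w = 0) ∧ IsConj g g0 := by
    rcases hg with h | h
    · refine ⟨cyc [0, 1, 2, 3, 4, 5, 6], by decide +kernel, Perm.partition_eq_of_isConj.2 (Nat.Partition.ext ?_)⟩
      exact check_seven (part g) (part (cyc [0, 1, 2, 3, 4, 5, 6])) (by rw [← orderOf_eq_lcm, h])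
        (by rw [← orderOf_eq_lcm]; exact orderOf_eq_of_check (by norm_num) (by decide +kernel) (by decide +kernel))
    · refine ⟨cyc [0, 1, 2, 3, 4] * cyc [5, 6, 7], by decide +kernel,
        Perm.partition_eq_of_isConj.2 (Nat.Partition.ext ?_)⟩
      exact check_fifteen (part g) (part (cyc [0, 1, 2, 3, 4] * cyc [5, 6, 7])) (by rw [← orderOf_eq_lcm, h])
        (by rw [← orderOf_eq_lcm]; exact orderOf_eq_of_check (by norm_num) (by decide +kernel) (by decide +kernel))
  obtain ⟨a, ha⟩ := isConj_iff.1 hc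
  have := h0 (actW a v) (by rw [← ha, ← actW_mul, inv_mul_cancel_right, actW_mul, hv])
  have h2 := congrArg (actW a⁻¹) this
  rw [← actW_mul, inv_mul_cancel, actW_one] at h2
  rw [h2]
  funext i
  simp [actW, nrm, emb]

/-- Several copies of the module. -/
abbrev WMod (k : ℕ) := Multiplicative (Fin k → W)

/-- The action on several copies. -/
def actMod (k : ℕ) : alternatingGroup (Fin 8) →* MulAut (WMod k) where
  toFun g :=
    { toFun := fun f => Multiplicative.ofAdd fun i => actW g.1 (f.toAdd i)
      invFun := fun f => Multiplicative.ofAdd fun i => actW g.1⁻¹ (f.toAdd i)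
      left_inv := fun f => Multiplicative.toAdd.injective <| funext fun i => by
        show actW g.1⁻¹ (actW g.1 (f.toAdd i)) = f.toAdd i
        rw [← actW_mul, inv_mul_cancel, actW_one]
      right_inv := fun f => Multiplicative.toAdd.injective <| funext fun i => by
        show actW g.1 (actW g.1⁻¹ (f.toAdd i)) = f.toAdd i
        rw [← actW_mul, mul_inv_cancel, actW_one]
      map_mul' := fun a b => Multiplicative.toAdd.injective <| funext fun i => actW_add g.1 (a.toAdd i) (b.toAdd i) }
  map_one' := MulEquiv.ext fun f => Multiplicative.toAdd.injective <| funext fun i => actW_one _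
  map_mul' a b := MulEquiv.ext fun f => Multiplicative.toAdd.injective <| funext fun i => actW_mul _ _ _

/-- The extension of `A₈` by several copies of the module. -/
abbrev WExt (k : ℕ) := SemidirectProduct (WMod k) (alternatingGroup (Fin 8)) (actMod k)

theorem wmod_sq {k : ℕ} (v : WMod k) : v ^ 2 = 1 :=
  Multiplicative.toAdd.injective <| funext fun i => funext fun j => by
    rw [toAdd_pow, Pi.smul_apply, Pi.smul_apply, toAdd_one, Pi.zero_apply, Pi.zero_apply, two_nsmul]
    generalize Multiplicative.toAdd v i j = a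
    revert a
    decide

theorem pow_mem_range {k : ℕ} (x : WExt k) :
    x ^ orderOf x.right ∈ (SemidirectProduct.inl : WMod k →* WExt k).range := by
  rw [SemidirectProduct.range_inl_eq_ker_rightHom, MonoidHom.mem_ker, map_pow]
  exact pow_orderOf_eq_one _

theorem orderOf_dvd_two_mul {k : ℕ} (x : WExt k) : orderOf x ∣ 2 * orderOf x.right := by
  obtain ⟨v, hv⟩ := pow_mem_range x
  apply orderOf_dvd_of_pow_eq_one
  rw [mul_comm, pow_mul, ← hv, ← map_pow, wmod_sq, map_one]

theorem orderOf_right {k : ℕ} (x : WExt k) : orderOf (x.right : Perm (Fin 8)) = orderOf x.right :=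
  orderOf_injective (alternatingGroup (Fin 8)).subtype Subtype.coe_injective _

theorem orderOf_mem_spec_ext {k : ℕ} (x : WExt k) : orderOf x ∈ spec := by
  have hd : orderOf x.right ∈ [1, 2, 3, 4, 5, 6, 7, 15] := by
    rw [← orderOf_right, orderOf_eq_lcm]
    exact check_even _ (even_card_parts (Perm.mem_alternatingGroup.1 x.right.2))
  have h2 := orderOf_dvd_two_mul x
  by_cases h7 : orderOf x.right = 7 ∨ orderOf x.right = 15
  · obtain ⟨v, hv⟩ := pow_mem_range x
    have hcomm : x * x ^ orderOf x.right = x ^ orderOf x.right * x := (Commute.self_pow x _).eq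
    rw [← hv] at hcomm
    have h1 := congrArg SemidirectProduct.left hcomm
    simp only [SemidirectProduct.mul_left, SemidirectProduct.left_inl, SemidirectProduct.right_inl, map_one,
      MulAut.one_apply] at h1
    rw [mul_comm v] at h1
    have h3 : actMod k x.right v = v := mul_left_cancel h1
    have hv0 : v = 1 := Multiplicative.toAdd.injective <| funext fun i =>
      fixed_zero (g := (x.right : Perm (Fin 8))) (by rw [orderOf_right]; exact h7)
        (congrFun (congrArg Multiplicative.toAdd h3) i)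
    rw [hv0, map_one] at hv
    have hdvd := orderOf_dvd_of_pow_eq_one hv.symm
    rcases h7 with h | h <;> rw [h] at hdvd
    · rcases (Nat.dvd_prime (by norm_num)).1 hdvd with h' | h' <;> simp [h', spec]
    · have := Nat.le_of_dvd (by norm_num) hdvd
      interval_cases hh : orderOf x <;> simp [spec] at * <;> omega
  · push Not at h7
    simp only [List.mem_cons, List.not_mem_nil, or_false] at hd
    have hle := Nat.le_of_dvd (Nat.mul_pos (by norm_num) (orderOf_pos _)) h2
    rcases hd with h | h | h | h | h | h | h | h <;> (try omega) <;> rw [h] at h2 hle <;>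
      interval_cases hh : orderOf x <;> simp [spec] at * <;> omega

theorem orderOf_double {k : ℕ} (g : alternatingGroup (Fin 8)) {d : ℕ} (hg : orderOf g = d) (v : W)
    (hN : ((List.range d).map fun j => actW (g.1 ^ j) v).sum ≠ 0) :
    orderOf (⟨Multiplicative.ofAdd fun _ => v, g⟩ : WExt (k + 1)) = 2 * d := by
  set x : WExt (k + 1) := ⟨Multiplicative.ofAdd fun _ => v, g⟩
  have hpow : ∀ n, (x ^ n).right = g ^ n ∧
      Multiplicative.toAdd (x ^ n).left 0 = ((List.range n).map fun j => actW (g.1 ^ j) v).sum := by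
    intro n
    induction n with
    | zero => exact ⟨rfl, rfl⟩
    | succ n ih =>
      refine ⟨by rw [pow_succ, SemidirectProduct.mul_right, ih.1, pow_succ], ?_⟩
      rw [pow_succ, SemidirectProduct.mul_left, toAdd_mul, Pi.add_apply, ih.2, ih.1, List.range_succ, List.map_append,
        List.sum_append, List.map_cons, List.map_nil, List.sum_cons, List.sum_nil, add_zero]
      rfl
  have h1 : d ∣ orderOf x := hg ▸ orderOf_map_dvd (SemidirectProduct.rightHom) x
  have h2 : orderOf x ∣ 2 * d := hg ▸ orderOf_dvd_two_mul x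
  have hne : orderOf x ≠ d := by
    intro he
    apply hN
    rw [← (hpow d).2, ← he, pow_orderOf_eq_one]
    rfl
  obtain ⟨e, he⟩ := h1
  have hd0 : 0 < d := hg ▸ orderOf_pos g
  rw [he, mul_comm 2] at h2
  rcases (Nat.dvd_prime Nat.prime_two).1 ((Nat.mul_dvd_mul_iff_left hd0).1 h2) with rfl | rfl
  · exact absurd (by rw [he, mul_one]) hne
  · rw [he, mul_comm]

theorem exists_orderOf_inr {k : ℕ} {g : Perm (Fin 8)} (hs : Perm.sign g = 1) {n : ℕ} (hn : orderOf g = n) :
    ∃ x : WExt k, orderOf x = n := by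
  refine ⟨SemidirectProduct.inr ⟨g, Perm.mem_alternatingGroup.2 hs⟩, ?_⟩
  rw [orderOf_injective _ SemidirectProduct.inr_injective, ← hn]
  exact (orderOf_injective (alternatingGroup (Fin 8)).subtype Subtype.coe_injective ⟨g, _⟩).symm

theorem range_orderOf_ext (k : ℕ) :
    Set.range (orderOf : WExt (k + 1) → ℕ) = {1, 2, 3, 4, 5, 6, 7, 8, 10, 12, 15} := by
  ext n
  constructor
  · rintro ⟨x, rfl⟩
    have := orderOf_mem_spec_ext x
    simpa [spec] using this
  · intro hn
    have ck : ∀ {g : Perm (Fin 8)} {d : ℕ} (hs : Perm.sign g = 1), orderOf g = d →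
        orderOf (⟨g, Perm.mem_alternatingGroup.2 hs⟩ : alternatingGroup (Fin 8)) = d := fun {g d} hs h =>
      h ▸ (orderOf_injective (alternatingGroup (Fin 8)).subtype Subtype.coe_injective ⟨g, _⟩).symm
    simp only [Set.mem_insert_iff, Set.mem_singleton_iff] at hn
    rcases hn with rfl | rfl | rfl | rfl | rfl | rfl | rfl | rfl | rfl | rfl | rfl
    · exact ⟨1, orderOf_one⟩
    · exact exists_orderOf_inr (g := cyc [0, 1] * cyc [2, 3]) (by decide +kernel)
        (orderOf_eq_of_check (by norm_num) (by decide +kernel) (by decide +kernel))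
    · exact exists_orderOf_inr (g := cyc [0, 1, 2]) (by decide +kernel)
        (orderOf_eq_of_check (by norm_num) (by decide +kernel) (by decide +kernel))
    · exact exists_orderOf_inr (g := cyc [0, 1, 2, 3] * cyc [4, 5]) (by decide +kernel)
        (orderOf_eq_of_check (by norm_num) (by decide +kernel) (by decide +kernel))
    · exact exists_orderOf_inr (g := cyc [0, 1, 2, 3, 4]) (by decide +kernel)
        (orderOf_eq_of_check (by norm_num) (by decide +kernel) (by decide +kernel))
    · exact exists_orderOf_inr (g := cyc [0, 1, 2] * cyc [3, 4] * cyc [5, 6]) (by decide +kernel)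
        (orderOf_eq_of_check (by norm_num) (by decide +kernel) (by decide +kernel))
    · exact exists_orderOf_inr (g := cyc [0, 1, 2, 3, 4, 5, 6]) (by decide +kernel)
        (orderOf_eq_of_check (by norm_num) (by decide +kernel) (by decide +kernel))
    · exact ⟨_, orderOf_double (d := 4) ⟨cyc [0, 1, 2, 3] * cyc [4, 5], Perm.mem_alternatingGroup.2 (by decide +kernel)⟩
        (ck (by decide +kernel) (orderOf_eq_of_check (by norm_num) (by decide +kernel) (by decide +kernel))) ![1, 0, 0, 0, 0, 0]
        (by decide +kernel)⟩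
    · exact ⟨_, orderOf_double (d := 5) ⟨cyc [0, 1, 2, 3, 4], Perm.mem_alternatingGroup.2 (by decide +kernel)⟩
        (ck (by decide +kernel) (orderOf_eq_of_check (by norm_num) (by decide +kernel) (by decide +kernel))) ![0, 0, 0, 0, 0, 1]
        (by decide +kernel)⟩
    · exact ⟨_, orderOf_double (d := 6) ⟨cyc [0, 1, 2] * cyc [3, 4] * cyc [5, 6], Perm.mem_alternatingGroup.2 (by decide +kernel)⟩
        (ck (by decide +kernel) (orderOf_eq_of_check (by norm_num) (by decide +kernel) (by decide +kernel))) ![0, 0, 0, 1, 0, 0]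
        (by decide +kernel)⟩
    · exact exists_orderOf_inr (g := cyc [0, 1, 2, 3, 4] * cyc [5, 6, 7]) (by decide +kernel)
        (orderOf_eq_of_check (by norm_num) (by decide +kernel) (by decide +kernel))

theorem spectrum_unbounded (N : ℕ) : ∃ (H : Type) (_ : Group H) (_ : Fintype H), N < Fintype.card H ∧
    Set.range (orderOf : H → ℕ) = {1, 2, 3, 4, 5, 6, 7, 8, 10, 12, 15} := by
  have e : WExt (N + 1) ≃ WMod (N + 1) × alternatingGroup (Fin 8) := SemidirectProduct.equivProd
  refine ⟨WExt (N + 1), inferInstance, Fintype.ofEquiv _ e.symm, ?_, range_orderOf_ext N⟩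
  rw [Fintype.ofEquiv_card, Fintype.card_prod, Fintype.card_multiplicative, Fintype.card_fun, Fintype.card_fun,
    ZMod.card, Fintype.card_fin, Fintype.card_fin]
  have h1 : N + 1 < (2 ^ 6) ^ (N + 1) := Nat.lt_pow_self (by norm_num)
  have h2 : 0 < Fintype.card (alternatingGroup (Fin 8)) := Fintype.card_pos
  nlinarith

end Cfsg.Agent.JTwo
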